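import Groth.Agent.Coherent.K57.Gaeta

/-!
# Banded matrices of linear forms, and surjectivity of general matrices of linear forms on `P²`

* `band_all`: the image of the banded matrix with entries `x, y, z` contains all monomials of large degree;
* `gen_surj`: for `α₂ + 2 ≤ α₁` the general `α₁ × α₂` matrix of linear forms is surjective in some fixed degree.
-/

set_option autoImplicit false
set_option backward.isDefEq.respectTransparency false

universe u

namespace K57.Band

section alg

variable {S M : Type*} [CommRing S] [AddCommGroup M] [Module S M] (I : Submodule S M) (E : ℤ → M) (x y z : S)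

theorem band_X (h0 : ∀ m < 0, E m = 0) (hrel : ∀ m, x • E m + y • E (m - 1) + z • E (m - 2) ∈ I) :
    ∀ j : ℕ, x ^ (j + 1) • E j ∈ I := by
  intro j
  induction j using Nat.strong_induction_on with
  | _ j ih =>
    have h1 := I.smul_mem (x ^ j) (hrel j)
    have h2 : (x ^ j * y) • E ((j : ℤ) - 1) ∈ I := by
      rcases j with _ | j
      · rw [h0 _ (by simp), smul_zero]
        exact I.zero_mem
      · have h3 := I.smul_mem y (ih j (Nat.lt_succ_self j))
        rw [smul_smul, mul_comm] at h3
        have e : ((j + 1 : ℕ) : ℤ) - 1 = j := by push_cast; ring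
        rw [e]
        exact h3
    have h3 : (x ^ j * z) • E ((j : ℤ) - 2) ∈ I := by
      rcases j with _ | _ | j
      · rw [h0 _ (by simp), smul_zero]
        exact I.zero_mem
      · rw [h0 _ (by simp), smul_zero]
        exact I.zero_mem
      · have h4 := I.smul_mem (x * z) (ih j (by omega))
        rw [smul_smul] at h4
        have e : ((j + 1 + 1 : ℕ) : ℤ) - 2 = j := by push_cast; ring
        rw [e]
        have e2 : x ^ (j + 1 + 1) * z = x * z * x ^ (j + 1) := by ring
        rw [e2]
        exact h4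
    have h4 : x ^ (j + 1) • E j = x ^ j • (x • E j + y • E ((j : ℤ) - 1) + z • E ((j : ℤ) - 2)) -
        (x ^ j * y) • E ((j : ℤ) - 1) - (x ^ j * z) • E ((j : ℤ) - 2) := by
      rw [pow_succ, smul_add, smul_add, smul_smul, smul_smul, smul_smul]
      abel
    rw [h4]
    exact I.sub_mem (I.sub_mem h1 h2) h3

theorem band_X' (K : ℕ) (h0 : ∀ m < 0, E m = 0) (hK : ∀ m : ℤ, K ≤ m → E m = 0)
    (hrel : ∀ m, x • E m + y • E (m - 1) + z • E (m - 2) ∈ I) (m : ℤ) (r : ℕ) (hr : K ≤ r) : x ^ r • E m ∈ I := by
  by_cases hm : m < 0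
  · rw [h0 m hm, smul_zero]
    exact I.zero_mem
  by_cases hm' : (K : ℤ) ≤ m
  · rw [hK m hm', smul_zero]
    exact I.zero_mem
  obtain ⟨j, rfl⟩ := Int.eq_ofNat_of_zero_le (not_lt.mp hm)
  obtain ⟨s, rfl⟩ : ∃ s, r = s + (j + 1) := ⟨r - (j + 1), by omega⟩
  rw [pow_add, mul_smul]
  exact I.smul_mem _ (band_X I E x y z h0 hrel j)

theorem band_all (K : ℕ) (h0 : ∀ m < 0, E m = 0) (hK : ∀ m : ℤ, K ≤ m → E m = 0)
    (hrel : ∀ m, x • E m + y • E (m - 1) + z • E (m - 2) ∈ I) (r : ℕ) :
    ∀ (a b : ℕ) (m : ℤ), 2 * K ≤ a + b + r → (x ^ a * z ^ b * y ^ r) • E m ∈ I := by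
  induction r with
  | zero =>
    intro a b m h
    by_cases ha : K ≤ a
    · rw [pow_zero, mul_one, mul_comm, mul_smul]
      exact I.smul_mem _ (band_X' I E x y z K h0 hK hrel m a ha)
    · have hb : K ≤ b := by omega
      rw [pow_zero, mul_one, mul_smul]
      refine I.smul_mem _ ?_
      have h1 := band_X' I (fun m => E (K - 1 - m)) z y x K (fun m hm => hK _ (by omega))
        (fun m hm => h0 _ (by omega)) (fun m => by
          have h2 := hrel (K + 1 - m)
          have e1 : (K : ℤ) - 1 - (m - 1) = K + 1 - m - 1 := by ring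
          have e2 : (K : ℤ) - 1 - (m - 2) = K + 1 - m := by ring
          have e3 : (K : ℤ) - 1 - m = K + 1 - m - 2 := by ring
          simp only [e1, e2, e3]
          have e4 : z • E (K + 1 - m - 2) + y • E (K + 1 - m - 1) + x • E (K + 1 - m) =
            x • E (K + 1 - m) + y • E (K + 1 - m - 1) + z • E (K + 1 - m - 2) := by abel
          rw [e4]
          exact h2) (K - 1 - m) b hb
      simpa using h1
  | succ r ih =>
    intro a b m h
    have h1 := I.smul_mem (x ^ a * z ^ b * y ^ r) (hrel (m + 1))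
    have h2 := ih (a + 1) b (m + 1) (by omega)
    have h3 := ih a (b + 1) (m - 1) (by omega)
    have e1 : m + 1 - 1 = m := by ring
    have e2 : m + 1 - 2 = m - 1 := by ring
    rw [e1, e2] at h1
    have h4 : (x ^ a * z ^ b * y ^ (r + 1)) • E m =
        (x ^ a * z ^ b * y ^ r) • (x • E (m + 1) + y • E m + z • E (m - 1)) -
          (x ^ (a + 1) * z ^ b * y ^ r) • E (m + 1) - (x ^ a * z ^ (b + 1) * y ^ r) • E (m - 1) := by
      rw [smul_add, smul_add, smul_smul, smul_smul, smul_smul]
      have e3 : x ^ a * z ^ b * y ^ r * x = x ^ (a + 1) * z ^ b * y ^ r := by ring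
      have e4 : x ^ a * z ^ b * y ^ r * y = x ^ a * z ^ b * y ^ (r + 1) := by ring
      have e5 : x ^ a * z ^ b * y ^ r * z = x ^ a * z ^ (b + 1) * y ^ r := by ring
      rw [e3, e4, e5]
      abel
    rw [h4]
    exact I.sub_mem (I.sub_mem h1 h2) h3

end alg

open Groth.Agent K699.TwHom K57.Mat K57.MatSheaf K57.GenV K57.Gaeta CategoryTheory AlgebraicGeometry

variable {k : Type u} [Field k]

/-- The banded matrix. -/
noncomputable def band (α₁ α₂ : ℕ) (m : Fin α₁) (j : Fin α₂) : MvPolynomial (Fin 3) k :=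
  if (m : ℕ) = j then MvPolynomial.X 0 else if (m : ℕ) = j + 1 then MvPolynomial.X 1 else
    if (m : ℕ) = j + 2 then MvPolynomial.X 2 else 0

theorem band_isHomogeneous (α₁ α₂ : ℕ) (m : Fin α₁) (j : Fin α₂) : (band (k := k) α₁ α₂ m j).IsHomogeneous 1 := by
  unfold band
  split_ifs
  · exact MvPolynomial.isHomogeneous_X _ _
  · exact MvPolynomial.isHomogeneous_X _ _
  · exact MvPolynomial.isHomogeneous_X _ _
  · exact MvPolynomial.isHomogeneous_zero _ _ _

/-- The image of a matrix over the polynomial ring. -/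
noncomputable def img {ι κ : Type} [Fintype ι] (F : ι → κ → MvPolynomial (Fin 3) k) :
    Submodule (MvPolynomial (Fin 3) k) (κ → MvPolynomial (Fin 3) k) :=
  LinearMap.range
    ({ toFun := fun w j => ∑ m, w m * F m j
       map_add' := fun v w => funext fun j => by simp [add_mul, Finset.sum_add_distrib]
       map_smul' := fun r v => funext fun j => by simp [Finset.mul_sum, mul_assoc] } :
      (ι → MvPolynomial (Fin 3) k) →ₗ[MvPolynomial (Fin 3) k] (κ → MvPolynomial (Fin 3) k))

theorem mem_img {ι κ : Type} [Fintype ι] (F : ι → κ → MvPolynomial (Fin 3) k) (v : κ → MvPolynomial (Fin 3) k) :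
    v ∈ img F ↔ ∃ w : ι → MvPolynomial (Fin 3) k, ∀ j, ∑ m, w m * F m j = v j := by
  constructor
  · rintro ⟨w, hw⟩
    exact ⟨w, fun j => congrFun hw j⟩
  · rintro ⟨w, hw⟩
    exact ⟨w, funext hw⟩

theorem band_mem (α₁ α₂ : ℕ) (h : α₂ + 2 ≤ α₁) (v : Fin α₂ → MvPolynomial (Fin 3) k) (d : ℕ)
    (hd : 2 * α₂ ≤ d) (hv : ∀ j, (v j).IsHomogeneous d) : v ∈ img (band (k := k) α₁ α₂) := by
  let E : ℤ → (Fin α₂ → MvPolynomial (Fin 3) k) := fun m j => if (j : ℤ) = m then 1 else 0
  have h0 : ∀ m < 0, E m = 0 := fun m hm => funext fun j => if_neg (by omega)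
  have hK : ∀ m : ℤ, α₂ ≤ m → E m = 0 := fun m hm => funext fun j => if_neg (by omega)
  have hrel : ∀ m, (MvPolynomial.X 0 : MvPolynomial (Fin 3) k) • E m +
      (MvPolynomial.X 1 : MvPolynomial (Fin 3) k) • E (m - 1) +
      (MvPolynomial.X 2 : MvPolynomial (Fin 3) k) • E (m - 2) ∈ img (band (k := k) α₁ α₂) := by
    intro m
    by_cases hm : 0 ≤ m ∧ m < α₂ + 2
    · obtain ⟨c, rfl⟩ := Int.eq_ofNat_of_zero_le hm.1
      have hc : c < α₁ := by omega
      rw [mem_img]
      refine ⟨Pi.single ⟨c, hc⟩ 1, fun j => ?_⟩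
      rw [Finset.sum_eq_single (⟨c, hc⟩ : Fin α₁)]
      · rw [Pi.single_eq_same, one_mul]
        simp only [band, Pi.add_apply, Pi.smul_apply, E, smul_eq_mul, mul_ite, mul_one, mul_zero]
        by_cases h1 : c = (j : ℕ)
        · rw [if_pos h1, if_pos (by omega), if_neg (by omega), if_neg (by omega)]
          simp
        · by_cases h2 : c = (j : ℕ) + 1
          · rw [if_neg h1, if_pos h2, if_neg (by omega), if_pos (by omega), if_neg (by omega)]
            simp
          · by_cases h3 : c = (j : ℕ) + 2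
            · rw [if_neg h1, if_neg h2, if_pos h3, if_neg (by omega), if_neg (by omega), if_pos (by omega)]
              simp
            · rw [if_neg h1, if_neg h2, if_neg h3, if_neg (by omega), if_neg (by omega), if_neg (by omega)]
              simp
      · intro m _ hm
        rw [Pi.single_eq_of_ne hm, zero_mul]
      · intro h
        exact absurd (Finset.mem_univ _) h
    · have e1 : E m = 0 := by
        by_cases h1 : m < 0
        · exact h0 m h1
        · exact hK m (by omega)
      have e2 : E (m - 1) = 0 := by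
        by_cases h1 : m - 1 < 0
        · exact h0 _ h1
        · exact hK _ (by omega)
      have e3 : E (m - 2) = 0 := by
        by_cases h1 : m - 2 < 0
        · exact h0 _ h1
        · exact hK _ (by omega)
      rw [e1, e2, e3]
      simp
  have hmon : ∀ (j : Fin α₂) (s : Fin 3 →₀ ℕ) (c : k), s.degree = d →
      (MvPolynomial.monomial s c : MvPolynomial (Fin 3) k) • E j ∈ img (band (k := k) α₁ α₂) := by
    intro j s c hs
    have h1 := band_all (img (band (k := k) α₁ α₂)) E (MvPolynomial.X 0) (MvPolynomial.X 1) (MvPolynomial.X 2)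
      α₂ h0 hK hrel (s 1) (s 0) (s 2) j (by
        have : s.degree = s 0 + s 1 + s 2 := by
          rw [Finsupp.degree_eq_sum, Fin.sum_univ_three]
        omega)
    have h2 : (MvPolynomial.monomial s c : MvPolynomial (Fin 3) k) = MvPolynomial.C c *
        (MvPolynomial.X 0 ^ s 0 * MvPolynomial.X 2 ^ s 2 * MvPolynomial.X 1 ^ s 1) := by
      rw [MvPolynomial.monomial_eq, Finsupp.prod_fintype _ _ (by simp), Fin.prod_univ_three]
      ring
    rw [h2, mul_smul]
    exact Submodule.smul_mem _ _ h1
  have hv' : v = ∑ j, (v j) • E j := by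
    funext i
    rw [Finset.sum_apply, Finset.sum_eq_single i]
    · simp [E]
    · intro j _ hj
      have : ¬ ((i : ℤ) = (j : ℤ)) := fun h => hj (Fin.ext (by exact_mod_cast h.symm))
      simp only [E, Pi.smul_apply]
      rw [if_neg this, smul_zero]
    · intro h
      exact absurd (Finset.mem_univ _) h
  rw [hv']
  refine Submodule.sum_mem _ fun j _ => ?_
  rw [(v j).as_sum, Finset.sum_smul]
  refine Submodule.sum_mem _ fun s hs => hmon j s _ ?_
  have := hv j (MvPolynomial.mem_support_iff.mp hs)
  rwa [Finsupp.degree_eq_weight_one]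

end K57.Band
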