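import Groth.Agent.ASBun.K792.HomBC
import Groth.Agent.VBCurve.K703.HomFin
import Groth.Agent.Flat2C.FlatSec
import Mathlib.RingTheory.Flat.TorsionFree
import Mathlib.RingTheory.Localization.BaseChange
import Mathlib.RingTheory.LocalProperties.Projective
import Mathlib.LinearAlgebra.TensorProduct.Quotient

/-!
# Homs over a discrete valuation ring

`X` over `Spec A`, `t : A`, `N` a quasi-coherent module on which `t` acts injectively (`TF t N`; flat modules over a
domain, `tf_of_flat`), `B = A[1/t]` and `π : X_B → X` the base change.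
* `eq_zero_of_smul`: `Hom(M, N)` is `t`-torsion free;
* `map_injective`: `Hom(M, N) → Hom(M_B, N_B)` is injective;
* `exists_hom`: for `M` coherent, `X` quasi-compact, each `ψ : M_B → N_B` has a multiple `t^n ψ` coming from `X`;
* `exists_div`: for `κ = A/t`, `M → N` restricting to zero on `X_κ` is divisible by `t`.
-/

set_option autoImplicit false
set_option backward.isDefEq.respectTransparency false
universe u v
open CategoryTheory CategoryTheory.Limits AlgebraicGeometry Opposite TopologicalSpace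
open Coherent

namespace K57.DVRHom

open K792.SecBC K792.HomBC

section one

variable {A : Type u} [CommRing A] {X : Scheme.{u}} [X.Over (Spec (CommRingCat.of A))]

/-- `t` acts injectively on the sections of `N` over the affine opens. -/
def TF (t : A) (N : X.Modules) : Prop :=
  ∀ U : X.Opens, IsAffineOpen U → ∀ s : Γ(N, U), sc A X U t • s = 0 → s = 0

theorem tf_of_flat [IsDomain A] {N : X.Modules} (hN : Coh.IsQCoh N)
    (hfl : FlatMod.IsFlatOver (X ↘ Spec (CommRingCat.of A)) N) {t : A} (ht : t ≠ 0) : TF t N := by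
  intro U hU s hs
  have hf := (Groth.Agent.Flat2C.FlatSec.flat_sections_iff (X ↘ Spec (CommRingCat.of A)) N hU
    (isAffineOpen_top (Spec (CommRingCat.of A))) le_top hN).mpr fun x _ => hfl x
  unfold Groth.Agent.Flat2C.FlatSec.FlatSections at hf
  let _ : Module Γ(Spec (CommRingCat.of A), ⊤) Γ(N, U) :=
    Module.compHom Γ(N, U) ((X ↘ Spec (CommRingCat.of A)).appLE ⊤ U le_top).hom
  have hf' : Module.Flat Γ(Spec (CommRingCat.of A), ⊤) Γ(N, U) := hf
  let e := (Scheme.ΓSpecIso (CommRingCat.of A)).commRingCatIsoToRingEquiv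
  have : IsDomain Γ(Spec (CommRingCat.of A), ⊤) := MulEquiv.isDomain A e.toMulEquiv
  have h1 : e.symm t ≠ 0 := fun h => ht (by
    have := congrArg e h
    rwa [e.apply_symm_apply, map_zero] at this)
  have h2 := Module.Flat.isSMulRegular_of_nonZeroDivisors (M := Γ(N, U))
    (mem_nonZeroDivisors_of_ne_zero h1)
  refine h2 ?_
  change e.symm t • s = e.symm t • 0
  rw [smul_zero]
  exact hs

end one

section two

variable {A B : Type u} [CommRing A] [CommRing B] [Algebra A B] {X X' : Scheme.{u}}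
  [X.Over (Spec (CommRingCat.of A))] [X'.Over (Spec (CommRingCat.of B))] (π : X' ⟶ X)
  (sq : IsPullback π (X' ↘ Spec (CommRingCat.of B)) (X ↘ Spec (CommRingCat.of A))
    (Spec.map (CommRingCat.ofHom (algebraMap A B))))

theorem isLocalizedModule_psL (S : Submonoid A) [IsLocalization S B] (N : X.Modules) (hN : Coh.IsQCoh N)
    {U : X.Opens} (hU : IsAffineOpen U) :
    letI : Module A (SecM B ((Scheme.Modules.pullback π).obj N) (π ⁻¹ᵁ U)) := modA _ _
    IsLocalizedModule S (psL π sq N U) := by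
  let _ : Module A (SecM B ((Scheme.Modules.pullback π).obj N) (π ⁻¹ᵁ U)) := modA _ _
  have := isScalarTower_modA (A := A) (B := B) ((Scheme.Modules.pullback π).obj N) (π ⁻¹ᵁ U)
  exact (isLocalizedModule_iff_isBaseChange S B _).mpr (isBaseChange_psL π sq N hN hU)

theorem tf_pow {t : A} {N : X.Modules} (hN : TF t N) {U : X.Opens} (hU : IsAffineOpen U) (n : ℕ) (s : Γ(N, U))
    (h : sc A X U (t ^ n) • s = 0) : s = 0 := by
  induction n generalizing s with
  | zero => rwa [pow_zero, map_one, one_smul] at h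
  | succ n ih =>
    refine hN U hU s (ih _ ?_)
    rwa [smul_smul, ← map_mul, ← pow_succ]

include sq in
theorem ps_injective (t : A) [IsLocalization (Submonoid.powers t) B] (N : X.Modules) (hN : Coh.IsQCoh N) (ht : TF t N)
    {U : X.Opens} (hU : IsAffineOpen U) {s s' : Γ(N, U)} (h : ps π N U s = ps π N U s') : s = s' := by
  let _ : Module A (SecM B ((Scheme.Modules.pullback π).obj N) (π ⁻¹ᵁ U)) := modA _ _
  have hloc := isLocalizedModule_psL π sq (Submonoid.powers t) N hN hU
  rw [← sub_eq_zero] at h ⊢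
  rw [← map_sub] at h
  obtain ⟨⟨_, n, rfl⟩, hc⟩ := hloc.exists_of_eq (x₁ := (s - s' : Γ(N, U))) (x₂ := (0 : Γ(N, U)))
    (by rw [psL_apply, h, map_zero])
  refine tf_pow ht hU n _ ?_
  rw [smul_zero] at hc
  exact hc

include sq in
theorem exists_ps (t : A) [IsLocalization (Submonoid.powers t) B] (N : X.Modules) (hN : Coh.IsQCoh N)
    {U : X.Opens} (hU : IsAffineOpen U) (y : Γ((Scheme.Modules.pullback π).obj N, π ⁻¹ᵁ U)) :
    ∃ (n : ℕ) (s : Γ(N, U)), ps π N U s = sc B X' (π ⁻¹ᵁ U) (algebraMap A B (t ^ n)) • y := by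
  let _ : Module A (SecM B ((Scheme.Modules.pullback π).obj N) (π ⁻¹ᵁ U)) := modA _ _
  have hloc := isLocalizedModule_psL π sq (Submonoid.powers t) N hN hU
  obtain ⟨⟨s, ⟨_, n, rfl⟩⟩, hc⟩ := hloc.surj y
  exact ⟨n, s, hc.symm⟩

/-- The property that `t ^ n • ψ` is defined over `X` on the open `U`. -/
def Good (B : Type u) [CommRing B] {X X' : Scheme.{u}} [X'.Over (Spec (CommRingCat.of B))] (π : X' ⟶ X) (b : B)
    {M N : X.Modules} (ψ : (Scheme.Modules.pullback π).obj M ⟶ (Scheme.Modules.pullback π).obj N) (U : X.Opens) : Prop :=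
  ∀ m : Γ(M, U), ∃ s : Γ(N, U), ps π N U s = sc B X' (π ⁻¹ᵁ U) b • ψ.app (π ⁻¹ᵁ U) (ps π M U m)

theorem app_res {M N : X.Modules} (ψ : (Scheme.Modules.pullback π).obj M ⟶ (Scheme.Modules.pullback π).obj N)
    {U V : X.Opens} (h : U ≤ V) (m : Γ(M, V)) :
    ψ.app (π ⁻¹ᵁ U) (ps π M U (M.presheaf.map (homOfLE h).op m)) =
      ((Scheme.Modules.pullback π).obj N).presheaf.map (homOfLE (π.preimage_mono h)).op
        (ψ.app (π ⁻¹ᵁ V) (ps π M V m)) := by
  rw [← ps_res π M h m]
  exact congr($(ψ.mapPresheaf.naturality (homOfLE (π.preimage_mono h)).op) _)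

theorem res_smul' (N : X'.Modules) {U V : X'.Opens} (h : U ≤ V) (a : Γ(X', V)) (m : Γ(N, V)) :
    N.presheaf.map (homOfLE h).op (a • m) =
      X'.presheaf.map (homOfLE h).op a • N.presheaf.map (homOfLE h).op m :=
  N.map_smul (homOfLE h) a m

theorem good_basicOpen {b : B} {M N : X.Modules} (hM : Coh.IsQCoh M)
    (ψ : (Scheme.Modules.pullback π).obj M ⟶ (Scheme.Modules.pullback π).obj N)
    {V : X.Opens} (hV : IsAffineOpen V) (hg : Good B π b ψ V) (f : Γ(X, V)) : Good B π b ψ (X.basicOpen f) := by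
  intro m
  have hle := X.basicOpen_le f
  obtain ⟨k, m', hm'⟩ := (Groth.Agent.Ega1.QCohLoc.isLocAt_of_isQCoh hM hV f).surj m
  obtain ⟨s, hs⟩ := hg m'
  have hu : IsUnit (X.presheaf.map (homOfLE hle).op f) := RingedSpace.isUnit_res_basicOpen _ f
  obtain ⟨v, hv⟩ := hu
  have hm : m = ((v⁻¹ ^ k : Γ(X, X.basicOpen f)ˣ) : Γ(X, X.basicOpen f)) • M.presheaf.map (homOfLE hle).op m' := by
    have h1 : M.presheaf.map (homOfLE hle).op m' = X.presheaf.map (homOfLE hle).op f ^ k • m := hm'
    rw [h1, ← hv, smul_smul, ← Units.val_pow_eq_pow_val, ← Units.val_mul, ← mul_pow, inv_mul_cancel, one_pow,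
      Units.val_one, one_smul]
  refine ⟨((v⁻¹ ^ k : Γ(X, X.basicOpen f)ˣ) : Γ(X, X.basicOpen f)) • N.presheaf.map (homOfLE hle).op s, ?_⟩
  rw [hm, ps_smul, ps_smul, Scheme.Modules.Hom.app_smul, ← ps_res π N hle s, hs, app_res π ψ hle,
    res_smul', sc_res, smul_comm]

theorem good_mul {b : B} {M N : X.Modules}
    (ψ : (Scheme.Modules.pullback π).obj M ⟶ (Scheme.Modules.pullback π).obj N)
    {U : X.Opens} (a : A) (hsc : ∀ s : Γ(N, U), ps π N U (sc A X U a • s) =
      sc B X' (π ⁻¹ᵁ U) (algebraMap A B a) • ps π N U s) (hg : Good B π b ψ U) :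
    Good B π (algebraMap A B a * b) ψ U := by
  intro m
  obtain ⟨s, hs⟩ := hg m
  exact ⟨sc A X U a • s, by rw [hsc, hs, smul_smul, map_mul]⟩

include sq in
theorem ps_sc (N : X.Modules) (U : X.Opens) (a : A) (s : Γ(N, U)) : ps π N U (sc A X U a • s) =
      sc B X' (π ⁻¹ᵁ U) (algebraMap A B a) • ps π N U s := by
  rw [ps_smul, Scheme.Hom.app_eq_appLE, appLE_sc π sq]

include sq in
/-- A uniform power of `t` clears the denominators of `ψ`. -/
theorem exists_good [CompactSpace X] (t : A) [IsLocalization (Submonoid.powers t) B] {M N : X.Modules}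
    (hM : Coh.IsCoh M) (hN : Coh.IsQCoh N)
    (ψ : (Scheme.Modules.pullback π).obj M ⟶ (Scheme.Modules.pullback π).obj N) :
    ∃ n : ℕ, ∀ x : X, ∃ V : X.Opens, x ∈ V ∧ IsAffineOpen V ∧ Good B π (algebraMap A B (t ^ n)) ψ V := by
  classical
  have hcov : ∀ x : X, ∃ U : X.Opens, x ∈ U ∧ IsAffineOpen U := fun x => by
    obtain ⟨U, hU, hxU, -⟩ := Opens.isBasis_iff_nbhd.mp X.isBasis_affineOpens
      (show x ∈ (⊤ : X.Opens) from trivial)
    exact ⟨U, hxU, hU⟩
  choose V hxV hV using hcov
  obtain ⟨T, hT⟩ := CompactSpace.elim_nhds_subcover (fun x => (V x : Set X))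
    (fun x => (V x).isOpen.mem_nhds (hxV x))
  have hgen : ∀ x : X, ∃ G : Finset Γ(M, V x), Submodule.span Γ(X, V x) (G : Set Γ(M, V x)) = ⊤ := fun x => by
    have := hM.1
    have := Groth.Agent.CohqB.FiniteType2.finite_sections_of_isFT M hM.2 (hV x)
    exact Module.Finite.fg_top
  choose G hG using hgen
  have hE : ∀ (x : X) (y : Γ((Scheme.Modules.pullback π).obj N, π ⁻¹ᵁ (V x))), ∃ (n : ℕ), ∀ k, n ≤ k →
      ∃ s : Γ(N, V x), ps π N (V x) s = sc B X' (π ⁻¹ᵁ (V x)) (algebraMap A B (t ^ k)) • y := by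
    intro x y
    obtain ⟨n, s, hs⟩ := exists_ps π sq t N hN (hV x) y
    refine ⟨n, fun k hk => ?_⟩
    obtain ⟨j, rfl⟩ := Nat.exists_eq_add_of_le' hk
    refine ⟨sc A X (V x) (t ^ j) • s, ?_⟩
    rw [ps_sc π sq, hs, smul_smul, ← map_mul, ← map_mul, ← pow_add]
  choose e he using hE
  refine ⟨T.sup fun x => (G x).sup fun g => e x (ψ.app (π ⁻¹ᵁ V x) (ps π M (V x) g)), fun x => ?_⟩
  have hx : x ∈ ⋃ x ∈ T, (V x : Set X) := by rw [hT]; trivial
  simp only [Set.mem_iUnion] at hx
  obtain ⟨y, hyT, hxy⟩ := hx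
  refine ⟨V y, hxy, hV y, fun m => ?_⟩
  have hm : m ∈ Submodule.span Γ(X, V y) (G y : Set Γ(M, V y)) := by
    rw [hG]; trivial
  induction hm using Submodule.span_induction with
  | mem m hm =>
    refine he y _ _ (le_trans ?_ (Finset.le_sup (f := fun x => (G x).sup fun g =>
      e x (ψ.app (π ⁻¹ᵁ V x) (ps π M (V x) g))) hyT))
    exact Finset.le_sup (f := fun g => e y (ψ.app (π ⁻¹ᵁ V y) (ps π M (V y) g))) hm
  | zero => exact ⟨0, by rw [map_zero, map_zero, map_zero, smul_zero]⟩
  | add m m' _ _ h1 h2 =>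
    obtain ⟨s, hs⟩ := h1
    obtain ⟨s', hs'⟩ := h2
    refine ⟨s + s', ?_⟩
    rw [map_add, map_add, map_add, smul_add, hs, hs']
  | smul a m _ h1 =>
    obtain ⟨s, hs⟩ := h1
    refine ⟨a • s, ?_⟩
    rw [ps_smul, ps_smul, Scheme.Modules.Hom.app_smul, hs, smul_comm]

include sq in
/-- Clearing denominators of a morphism over `A[1/t]`. -/
theorem exists_hom [CompactSpace X] (t : A) [IsLocalization (Submonoid.powers t) B] {M N : X.Modules}
    (hM : Coh.IsCoh M) (hN : Coh.IsQCoh N) (ht : TF t N)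
    (ψ : (Scheme.Modules.pullback π).obj M ⟶ (Scheme.Modules.pullback π).obj N) :
    ∃ (n : ℕ) (φ : M ⟶ N), (Scheme.Modules.pullback π).map φ = algebraMap A B (t ^ n) • ψ := by
  obtain ⟨n, hn⟩ := exists_good π sq t hM hN ψ
  let ι : Type u := {U : X.Opens // IsAffineOpen U ∧ Good B π (algebraMap A B (t ^ n)) ψ U}
  let c : ∀ U : ι, Γ(M, U.1) → Γ(N, U.1) := fun U m => (U.2.2 m).choose
  have hc : ∀ (U : ι) (m : Γ(M, U.1)), ps π N U.1 (c U m) =
      sc B X' (π ⁻¹ᵁ U.1) (algebraMap A B (t ^ n)) • ψ.app (π ⁻¹ᵁ U.1) (ps π M U.1 m) :=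
    fun U m => (U.2.2 m).choose_spec
  have hinj : ∀ (U : ι) {s s' : Γ(N, U.1)}, ps π N U.1 s = ps π N U.1 s' → s = s' :=
    fun U _ _ h => ps_injective π sq t N hN ht U.2.1 h
  have hbasis : Opens.IsBasis (Set.range (fun U : ι => U.1)) := by
    rw [Opens.isBasis_iff_nbhd]
    intro W x hx
    obtain ⟨V, hxV, hV, hg⟩ := hn x
    obtain ⟨f, hf, hxf⟩ := hV.exists_basicOpen_le ⟨x, hx⟩ hxV
    exact ⟨X.basicOpen f, ⟨⟨X.basicOpen f, hV.basicOpen f, good_basicOpen π hM.1 ψ hV hg f⟩, rfl⟩, hxf, hf⟩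
  obtain ⟨φ, hφ⟩ := Groth.Agent.CohqA.BasisHom.exists_hom_of_basis (M := M) (N := N)
    (fun U : ι => U.1) hbasis
    (fun U => { toFun := c U
                map_zero' := hinj U (by rw [hc, map_zero, map_zero, map_zero, smul_zero])
                map_add' := fun m m' => hinj U (by
                  rw [hc, map_add, map_add, smul_add, map_add, hc, hc]) })
    (fun U V h s => by
      change c U _ = N.presheaf.map (homOfLE h).op (c V s)
      apply hinj U
      rw [hc, ← ps_res π N h, hc, app_res π ψ h, res_smul', sc_res])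
    (fun U r s => by
      change c U _ = r • c U s
      apply hinj U
      rw [hc, ps_smul, ps_smul, Scheme.Modules.Hom.app_smul, hc, smul_comm])
  refine ⟨n, φ, ?_⟩
  apply ((Scheme.Modules.pullbackPushforwardAdjunction π).homEquiv _ _).injective
  refine Groth.Agent.CohqA.BasisHom.hom_ext_of_basis (fun U : ι => U.1) hbasis ?_
  intro U s
  rw [Adjunction.homEquiv_unit, Adjunction.homEquiv_unit]
  have h1 : ((Scheme.Modules.pullback π).map φ).app (π ⁻¹ᵁ U.1) (ps π M U.1 s) =
      (algebraMap A B (t ^ n) • ψ).app (π ⁻¹ᵁ U.1) (ps π M U.1 s) := by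
    rw [map_ps, KLin.smul_app_apply]
    refine (congrArg (ps π N U.1) (hφ U s)).trans ?_
    exact hc U s
  rw [ps_eq] at h1
  exact h1

include sq in
/-- Pullback to `A[1/t]` is injective on morphisms to a `t`-torsion free module. -/
theorem map_injective (t : A) [IsLocalization (Submonoid.powers t) B] {M N : X.Modules}
    (hN : Coh.IsQCoh N) (ht : TF t N) {φ φ' : M ⟶ N}
    (h : (Scheme.Modules.pullback π).map φ = (Scheme.Modules.pullback π).map φ') : φ = φ' := by
  refine Groth.Agent.CohqA.BasisHom.hom_ext_of_basis (fun U : X.affineOpens => (U : X.Opens)) ?_ ?_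
  · rw [Subtype.range_coe_subtype]
    exact X.isBasis_affineOpens
  · intro U s
    apply ps_injective π sq t N hN ht U.2
    rw [← map_ps, ← map_ps, h]

end two

section alg

open TensorProduct

theorem mem_of_isBaseChange {A B M N : Type*} [CommRing A] [CommRing B] [Algebra A B] [AddCommGroup M]
    [AddCommGroup N] [Module A M] [Module A N] [Module B N] [IsScalarTower A B N]
    (hs : Function.Surjective (algebraMap A B)) (f : M →ₗ[A] N) (hf : IsBaseChange B f) (x : M) (hx : f x = 0) :
    x ∈ RingHom.ker (algebraMap A B) • (⊤ : Submodule A M) := by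
  let e : (A ⧸ RingHom.ker (algebraMap A B)) ≃ₐ[A] B := Ideal.quotientKerAlgEquivOfSurjective
    (f := Algebra.ofId A B) hs
  have h1 : (1 : B) ⊗ₜ[A] x = 0 := by
    apply hf.equiv.injective
    rw [hf.equiv_tmul, one_smul, hx, map_zero]
  have h2 : (1 : A ⧸ RingHom.ker (algebraMap A B)) ⊗ₜ[A] x = 0 := by
    have := congrArg (TensorProduct.congr e.symm.toLinearEquiv (LinearEquiv.refl A M)) h1
    rw [TensorProduct.congr_tmul, map_zero] at this
    simpa using this
  have h3 := congrArg (TensorProduct.quotTensorEquivQuotSMul M (RingHom.ker (algebraMap A B))) h2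
  rw [TensorProduct.quotTensorEquivQuotSMul_mk_one_tmul, map_zero] at h3
  exact (Submodule.Quotient.mk_eq_zero _).mp h3

theorem exists_smul_of_isBaseChange {A B M N : Type*} [CommRing A] [CommRing B] [Algebra A B] [AddCommGroup M]
    [AddCommGroup N] [Module A M] [Module A N] [Module B N] [IsScalarTower A B N]
    (hs : Function.Surjective (algebraMap A B)) {t : A} (ht : RingHom.ker (algebraMap A B) = Ideal.span {t})
    (f : M →ₗ[A] N) (hf : IsBaseChange B f) (x : M) (hx : f x = 0) : ∃ y : M, x = t • y := by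
  have h := mem_of_isBaseChange hs f hf x hx
  rw [ht, Submodule.ideal_span_singleton_smul, Submodule.mem_smul_pointwise_iff_exists] at h
  obtain ⟨y, -, hy⟩ := h
  exact ⟨y, hy.symm⟩

end alg

section three

variable {A B : Type u} [CommRing A] [CommRing B] [Algebra A B] {X X' : Scheme.{u}}
  [X.Over (Spec (CommRingCat.of A))] [X'.Over (Spec (CommRingCat.of B))] (π : X' ⟶ X)
  (sq : IsPullback π (X' ↘ Spec (CommRingCat.of B)) (X ↘ Spec (CommRingCat.of A))
    (Spec.map (CommRingCat.ofHom (algebraMap A B))))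

include sq in
/-- A section vanishing on the closed subscheme `t = 0` is divisible by `t`. -/
theorem exists_ps_eq_zero (hs : Function.Surjective (algebraMap A B)) {t : A}
    (ht : RingHom.ker (algebraMap A B) = Ideal.span {t}) {N : X.Modules} (hN : Coh.IsQCoh N)
    {U : X.Opens} (hU : IsAffineOpen U) (s : Γ(N, U)) (h : ps π N U s = 0) : ∃ s' : Γ(N, U), s = sc A X U t • s' := by
  let _ : Module A (SecM B ((Scheme.Modules.pullback π).obj N) (π ⁻¹ᵁ U)) := modA _ _
  have := isScalarTower_modA (A := A) (B := B) ((Scheme.Modules.pullback π).obj N) (π ⁻¹ᵁ U)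
  exact exists_smul_of_isBaseChange hs ht _ (isBaseChange_psL π sq N hN hU) s h

/-- Morphisms to a `t`-torsion free module have no `t`-torsion. -/
theorem eq_zero_of_smul {t : A} {M N : X.Modules} (ht : TF t N) (φ : M ⟶ N) (h : t • φ = 0) : φ = 0 := by
  refine Groth.Agent.CohqA.BasisHom.hom_ext_of_basis (fun U : X.affineOpens => (U : X.Opens)) ?_ ?_
  · rw [Subtype.range_coe_subtype]
    exact X.isBasis_affineOpens
  · intro U s
    apply ht U.1 U.2
    have h1 : (t • φ).app U.1 s = (0 : M ⟶ N).app U.1 s := by rw [h]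
    rw [KLin.smul_app_apply] at h1
    exact h1

include sq in
/-- A morphism restricting to zero on the closed subscheme `t = 0` is divisible by `t`. -/
theorem exists_div (hs : Function.Surjective (algebraMap A B)) {t : A}
    (hker : RingHom.ker (algebraMap A B) = Ideal.span {t}) {M N : X.Modules} (hN : Coh.IsQCoh N) (ht : TF t N)
    (φ : M ⟶ N) (h : (Scheme.Modules.pullback π).map φ = 0) : ∃ φ' : M ⟶ N, φ = t • φ' := by
  have hex : ∀ (U : X.affineOpens) (m : Γ(M, U.1)), ∃ s : Γ(N, U.1), φ.app U.1 m = sc A X U.1 t • s := by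
    intro U m
    apply exists_ps_eq_zero π sq hs hker hN U.2
    rw [← map_ps, h]
    rfl
  choose c hc using hex
  have hinj : ∀ (U : X.affineOpens) {s s' : Γ(N, U.1)}, sc A X U.1 t • s = sc A X U.1 t • s' → s = s' := by
    intro U s s' h
    rw [← sub_eq_zero] at h ⊢
    rw [← smul_sub] at h
    exact ht U.1 U.2 _ h
  obtain ⟨φ', hφ'⟩ := Groth.Agent.CohqA.BasisHom.exists_hom_of_basis (M := M) (N := N)
    (fun U : X.affineOpens => (U : X.Opens)) (by rw [Subtype.range_coe_subtype]; exact X.isBasis_affineOpens)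
    (fun U => { toFun := c U
                map_zero' := hinj U (by rw [← hc, map_zero, smul_zero])
                map_add' := fun m m' => hinj U (by
                  rw [← hc, map_add, smul_add, ← hc, ← hc]) })
    (fun U V h s => by
      change c U _ = N.presheaf.map (homOfLE h).op (c V s)
      apply hinj U
      rw [← hc]
      have h1 : N.presheaf.map (homOfLE h).op (sc A X V.1 t • c V s) =
          X.presheaf.map (homOfLE h).op (sc A X V.1 t) • N.presheaf.map (homOfLE h).op (c V s) :=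
        N.map_smul (homOfLE h) _ _
      rw [sc_res] at h1
      rw [← h1, ← hc]
      exact congr($(φ.mapPresheaf.naturality (homOfLE h).op) s))
    (fun U r s => by
      change c U _ = r • c U s
      apply hinj U
      rw [← hc, Scheme.Modules.Hom.app_smul, hc, smul_comm])
  refine ⟨φ', ?_⟩
  refine Groth.Agent.CohqA.BasisHom.hom_ext_of_basis (fun U : X.affineOpens => (U : X.Opens)) ?_ ?_
  · rw [Subtype.range_coe_subtype]
    exact X.isBasis_affineOpens
  · intro U s
    rw [KLin.smul_app_apply]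
    refine (hc U s).trans ?_
    exact congrArg (fun z => sc A X U.1 t • z) (hφ' U s).symm

include sq in
/-- The rank of `Hom` equals the dimension of the `Hom` of the localizations. -/
theorem finrank_eq [CompactSpace X] (t : A) [IsLocalization (Submonoid.powers t) B] [Nontrivial B] {M N : X.Modules}
    (hM : Coh.IsCoh M) (hN : Coh.IsQCoh N) (ht : TF t N) [Module.Free A (M ⟶ N)] :
    Module.finrank B ((Scheme.Modules.pullback π).obj M ⟶ (Scheme.Modules.pullback π).obj N) =
      Module.finrank A (M ⟶ N) := by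
  have hmap : ∀ (a : A) (φ : M ⟶ N), (Scheme.Modules.pullback π).map (a • φ) =
      algebraMap A B a • (Scheme.Modules.pullback π).map φ := by
    intro a φ
    apply pull_hom_ext
    intro U hU s
    rw [map_ps, KLin.smul_app_apply, KLin.smul_app_apply]
    exact (ps_sc π sq N U a (φ.app U s)).trans (by rw [map_ps]; rfl)
  let i1 : Module A ((Scheme.Modules.pullback π).obj M ⟶ (Scheme.Modules.pullback π).obj N) :=
    Module.compHom _ (algebraMap A B)
  have i2 : IsScalarTower A B ((Scheme.Modules.pullback π).obj M ⟶ (Scheme.Modules.pullback π).obj N) :=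
    ⟨fun a b c => by rw [Algebra.smul_def, mul_smul]; rfl⟩
  let f : (M ⟶ N) →ₗ[A] ((Scheme.Modules.pullback π).obj M ⟶ (Scheme.Modules.pullback π).obj N) :=
    { toFun := fun φ => (Scheme.Modules.pullback π).map φ
      map_add' := fun _ _ => (Scheme.Modules.pullback π).map_add
      map_smul' := fun a φ => hmap a φ }
  have : IsLocalizedModule (Submonoid.powers t) f := by
    refine ⟨?_, ?_, ?_⟩
    · intro s
      have hu := IsLocalization.map_units B s
      rw [Module.End.isUnit_iff]
      obtain ⟨v, hv⟩ := hu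
      constructor
      · intro a b hab
        have h1 : (v : B) • a = (v : B) • b := by rw [hv]; exact hab
        have h2 := congrArg (fun z => (v⁻¹ : Bˣ).val • z) h1
        simpa [smul_smul] using h2
      · intro b
        refine ⟨(v⁻¹ : Bˣ).val • b, ?_⟩
        change algebraMap A B s • ((v⁻¹ : Bˣ).val • b) = b
        rw [← hv, smul_smul, Units.mul_inv, one_smul]
    · intro ψ
      obtain ⟨n, φ, h⟩ := exists_hom π sq t hM hN ht ψ
      exact ⟨⟨φ, ⟨t ^ n, n, rfl⟩⟩, h.symm⟩
    · intro φ φ' h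
      exact ⟨1, by rw [map_injective π sq t hN ht h]⟩
  exact Module.finrank_of_isLocalizedModule_of_free B (Submonoid.powers t) f

end three

end K57.DVRHom
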