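import Groth.Agent.Coherent.K57.Band
import Groth.Agent.Sga67.SerreVB

/-!
# Global generation of the cokernel of the general map `O(-2)^{α₁} → O(-1)^{α₂} ⊕ O^{α₃}`
-/

set_option autoImplicit false
set_option backward.isDefEq.respectTransparency false

universe u

open CategoryTheory CategoryTheory.Limits AlgebraicGeometry Opposite TopologicalSpace

namespace K57.GG

open Groth.Agent K699.TwHom K57.Mat K57.MatSheaf K57.GenV K57.Gaeta K57.Band

attribute [local instance] Abelian.hasFiniteBiproducts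

section fam

variable (k : Type u) [Field k]

/-- The family of the maps of vectors of forms of degree `d`, for matrices of forms of degree `e`. -/
noncomputable def famF {V ι κ : Type*} [Fintype ι] [AddCommGroup V] [Module k V] (d e : ℕ)
    (f : ι → κ → V →ₗ[k] gr 2 k e) : V →ₗ[k] (ι → gr 2 k d) →ₗ[k] (κ → gr 2 k (d + e)) :=
  LinearMap.mk₂ k (fun F v j => ⟨∑ m, (v m).1 * (f m j F).1,
      Submodule.sum_mem _ fun m _ => (v m).2.mul (f m j F).2⟩)
    (fun F G v => funext fun j => Subtype.ext (by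
      simp [mul_add, Finset.sum_add_distrib]))
    (fun r F v => funext fun j => Subtype.ext (by
      simp [Finset.smul_sum]))
    (fun F v w => funext fun j => Subtype.ext (by
      simp [add_mul, Finset.sum_add_distrib]))
    (fun r F v => funext fun j => Subtype.ext (by
      simp [Finset.smul_sum]))

theorem famF_val {V ι κ : Type*} [Fintype ι] [AddCommGroup V] [Module k V] (d e : ℕ)
    (f : ι → κ → V →ₗ[k] gr 2 k e) (F : V) (v : ι → gr 2 k d) (j : κ) :
    (famF k d e f F v j).1 = ∑ m, (v m).1 * (f m j F).1 := rfl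

/-- The values of a matrix at a point, as a family of linear maps. -/
noncomputable def famE {V ι κ : Type*} [Fintype ι] [AddCommGroup V] [Module k V]
    (f : ι → κ → V →ₗ[k] MvPolynomial (Fin 3) k) (p : Fin 3 → k) : V →ₗ[k] (ι → k) →ₗ[k] (κ → k) :=
  LinearMap.mk₂ k (fun F v j => ∑ m, v m * MvPolynomial.eval p (f m j F))
    (fun F G v => funext fun j => by
      simp [mul_add, Finset.sum_add_distrib])
    (fun r F v => funext fun j => by
      simp [Finset.mul_sum, mul_left_comm, MvPolynomial.smul_eval])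
    (fun F v w => funext fun j => by
      simp [add_mul, Finset.sum_add_distrib])
    (fun r F v => funext fun j => by
      simp [Finset.mul_sum, mul_assoc])

theorem famE_apply {V ι κ : Type*} [Fintype ι] [AddCommGroup V] [Module k V]
    (f : ι → κ → V →ₗ[k] MvPolynomial (Fin 3) k) (p : Fin 3 → k) (F : V) (v : ι → k) (j : κ) :
    famE k f p F v j = ∑ m, v m * MvPolynomial.eval p (f m j F) := rfl

/-- A matrix over the polynomial ring with homogeneous entries whose image contains the homogeneous vectors. -/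
theorem exists_hom_of_mem_img {ι κ : Type} [Fintype ι] {F : ι → κ → MvPolynomial (Fin 3) k} {d e : ℕ}
    (hF : ∀ i j, (F i j).IsHomogeneous e) {v : κ → MvPolynomial (Fin 3) k} (hv : ∀ j, (v j).IsHomogeneous (d + e))
    (h : v ∈ img F) : ∃ w : ι → gr 2 k d, ∀ j, ∑ m, (w m).1 * F m j = v j := by
  obtain ⟨w, hw⟩ := (mem_img F v).mp h
  refine ⟨fun m => ⟨MvPolynomial.homogeneousComponent d (w m),
    MvPolynomial.homogeneousComponent_isHomogeneous d (w m)⟩, fun j => ?_⟩
  have h1 : MvPolynomial.homogeneousComponent (e + d) (v j) = v j := by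
    rw [MvPolynomial.homogeneousComponent_of_mem (m := e + d) (n := e + d) (by rw [add_comm e d]; exact hv j), if_pos rfl]
  rw [← h1, ← hw j, map_sum]
  refine Finset.sum_congr rfl fun m _ => ?_
  rw [mul_comm (w m), K581.HomDim.homogeneousComponent_mul _ _ (hF m j), mul_comm]

end fam

section

variable {k : Type u} [Field k] [Infinite k] {α₁ α₂ α₃ : ℕ}

/-- Entries of a matrix, as a linear map. -/
noncomputable def ent {ι κ : Type} {a : ι → ℤ} {b : κ → ℤ} (i : ι) (j : κ) :
    Mt 2 k a b →ₗ[k] gr 2 k (b j - a i).toNat where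
  toFun F := F i j
  map_add' _ _ := rfl
  map_smul' _ _ := rfl

omit [Infinite k] in
theorem ent_apply {ι κ : Type} {a : ι → ℤ} {b : κ → ℤ} (i : ι) (j : κ) (F : Mt 2 k a b) : ent i j F = F i j := rfl

omit [Infinite k] in
/-- The general matrix gives a monomorphism. -/
theorem gen_mono (h : α₁ ≤ α₂ + α₃) :
    Gen k _ fun F : Mt 2 k (dA α₁) (dB α₂ α₃) => Mono (mor (dAB α₁ α₂ α₃) F) := by
  classical
  obtain ⟨g⟩ : Nonempty (Fin α₁ ↪ Fin α₂ ⊕ Fin α₃) := by
    rw [Function.Embedding.nonempty_iff_card_le]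
    simpa using h
  let F₁ : Mt 2 k (dA α₁) (dB α₂ α₃) := fun m j =>
    if g m = j then ⟨MvPolynomial.X 0 ^ (dB α₂ α₃ j - dA α₁ m).toNat, MvPolynomial.isHomogeneous_X_pow _ _⟩ else 0
  have hF₁ : ∀ m j, MvPolynomial.eval (fun _ => (1 : k)) (F₁ m j).1 = if g m = j then 1 else 0 := by
    intro m j
    by_cases hj : g m = j
    · have h2 : F₁ m j = ⟨MvPolynomial.X 0 ^ (dB α₂ α₃ j - dA α₁ m).toNat, MvPolynomial.isHomogeneous_X_pow _ _⟩ :=
        if_pos hj
      rw [h2, if_pos hj]
      simp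
    · have h2 : F₁ m j = 0 := if_neg hj
      rw [h2, if_neg hj]
      exact map_zero _
  let L := famE k (V := Mt 2 k (dA α₁) (dB α₂ α₃)) (fun m j => (Submodule.subtype _).comp (ent m j)) (fun _ => 1)
  have h1 := Gen.injective (isPolyFam_linear (coord k _) L) F₁ (by
    intro v w hvw
    funext m
    have h2 := congrFun hvw (g m)
    have h3 : ∀ v : Fin α₁ → k, L F₁ v (g m) = v m := by
      intro v
      change (famE k _ _ F₁ v (g m) : k) = _
      rw [famE_apply, Finset.sum_eq_single m]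
      · change v m * MvPolynomial.eval _ (F₁ m (g m)).1 = _
        rw [hF₁, if_pos rfl, mul_one]
      · intro m' _ hm'
        change v m' * MvPolynomial.eval _ (F₁ m' (g m)).1 = _
        rw [hF₁, if_neg fun h => hm' (g.injective h), mul_zero]
      · intro h
        exact absurd (Finset.mem_univ _) h
    rwa [h3, h3] at h2)
  refine h1.mono fun F hF => mono_of_eval _ F (fun _ => 1) ?_
  exact hF

/-- The part of a matrix with values in `O(-1)^{α₂}`. -/
noncomputable def left (F : Mt 2 k (dA α₁) (dB α₂ α₃)) : Mt 2 k (dA α₁) (fun _ : Fin α₂ => (-1 : ℤ)) :=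
  fun m j => F m (Sum.inl j)

theorem dA_le (i : Fin α₁) (_ : Fin α₂) : dA α₁ i ≤ (-1 : ℤ) := by simp [dA]

omit [Infinite k] in
/-- For `α₂ + 2 ≤ α₁` the left part of the general matrix is an epimorphism. -/
theorem gen_epi (h : α₂ + 2 ≤ α₁) :
    Gen k _ fun F : Mt 2 k (dA α₁) (dB α₂ α₃) => Epi (mor (dA_le (α₂ := α₂)) (left F)) := by
  classical
  let F₀ : Mt 2 k (dA α₁) (dB α₂ α₃) := fun m j =>
    match j with
    | Sum.inl j => ⟨band α₁ α₂ m j, band_isHomogeneous α₁ α₂ m j⟩
    | Sum.inr _ => 0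
  let L := famF k (V := Mt 2 k (dA α₁) (dB α₂ α₃)) (ι := Fin α₁) (κ := Fin α₂) (2 * α₂) 1
    (fun m j => ent m (Sum.inl j))
  have h1 := Gen.surjective (isPolyFam_linear (coord k _) L) F₀ (by
    intro v
    obtain ⟨w, hw⟩ := exists_hom_of_mem_img k (F := band (k := k) α₁ α₂) (d := 2 * α₂) (e := 1)
      (band_isHomogeneous α₁ α₂) (v := fun j => (v j).1) (fun j => (v j).2)
      (band_mem α₁ α₂ h _ (2 * α₂ + 1) (by omega) fun j => (v j).2)
    exact ⟨w, funext fun j => Subtype.ext (hw j)⟩)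
  refine h1.mono fun F hF => epi_mor _ _ fun i => ⟨2 * α₂ + 1, fun l => ?_⟩
  obtain ⟨w, hw⟩ := hF fun j => ⟨MvPolynomial.X i ^ (2 * α₂ + 1) *
    Pi.single (M := fun _ => MvPolynomial (Fin 3) k) l 1 j, by
      by_cases hj : j = l
      · subst hj
        rw [Pi.single_eq_same, mul_one]
        exact MvPolynomial.isHomogeneous_X_pow _ _
      · rw [Pi.single_eq_of_ne hj, mul_zero]
        exact MvPolynomial.isHomogeneous_zero _ _ _⟩
  exact ⟨fun m => (w m).1, fun j => congrArg Subtype.val (congrFun hw j)⟩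

/-- The projection to `O(-1)^{α₂}`. -/
noncomputable def prL : OO 2 k (dB α₂ α₃) ⟶ OO 2 k (fun _ : Fin α₂ => (-1 : ℤ)) :=
  biproduct.lift fun j => biproduct.π (fun j => T 2 k (dB α₂ α₃ j)) (Sum.inl j)

omit [Infinite k] in
theorem mor_prL (F : Mt 2 k (dA α₁) (dB α₂ α₃)) :
    mor (dAB α₁ α₂ α₃) F ≫ prL = mor (dA_le (α₂ := α₂)) (left F) := by
  refine biproduct.hom_ext _ _ fun j => biproduct.hom_ext' _ _ fun i => ?_
  rw [prL, Category.assoc, biproduct.lift_π, mor, mor, biproduct.matrix_π, biproduct.ι_desc, biproduct.matrix_π,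
    biproduct.ι_desc]
  rfl

/-- The map from the free module to the cokernel. -/
noncomputable def gens (F : Mt 2 k (dA α₁) (dB α₂ α₃)) :
    (∐ fun _ : Fin α₃ => Coh.structureModule (P2 k)) ⟶ cokernel (mor (dAB α₁ α₂ α₃) F) :=
  Sigma.desc fun i => (isoO k).hom ≫ biproduct.ι (fun j => T 2 k (dB α₂ α₃ j)) (Sum.inr i) ≫
    cokernel.π (mor (dAB α₁ α₂ α₃) F)

omit [Infinite k] in
theorem epi_gens (F : Mt 2 k (dA α₁) (dB α₂ α₃)) [Epi (mor (dA_le (α₂ := α₂)) (left F))] : Epi (gens F) := by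
  refine Preadditive.epi_of_cancel_zero _ fun {Z} d hd => ?_
  have h1 : ∀ i : Fin α₃, biproduct.ι (fun j => T 2 k (dB α₂ α₃ j)) (Sum.inr i) ≫
      cokernel.π (mor (dAB α₁ α₂ α₃) F) ≫ d = 0 := by
    intro i
    have h2 := congrArg (fun q => Sigma.ι (fun _ : Fin α₃ => Coh.structureModule (P2 k)) i ≫ q) hd
    simp only [comp_zero] at h2
    rw [gens, Sigma.ι_desc_assoc] at h2
    simp only [Category.assoc] at h2
    rw [← cancel_epi (isoO k).hom, comp_zero]
    exact h2
  set q := cokernel.π (mor (dAB α₁ α₂ α₃) F) ≫ d with hq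
  let q' : OO 2 k (fun _ : Fin α₂ => (-1 : ℤ)) ⟶ Z :=
    biproduct.desc fun j => biproduct.ι (fun j => T 2 k (dB α₂ α₃ j)) (Sum.inl j) ≫ q
  have h3 : q = prL ≫ q' := by
    refine biproduct.hom_ext' _ _ fun j => ?_
    rcases j with j | j
    · have h4 : biproduct.ι (fun j => T 2 k (dB α₂ α₃ j)) (Sum.inl j) ≫ prL =
          biproduct.ι (fun _ : Fin α₂ => T 2 k (-1)) j := by
        refine biproduct.hom_ext _ _ fun j' => ?_
        rw [prL, Category.assoc, biproduct.lift_π]
        by_cases hj : j = j'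
        · subst hj
          rw [biproduct.ι_π_self, biproduct.ι_π_self]
          rfl
        · rw [biproduct.ι_π_ne _ (fun h => hj (Sum.inl.inj h)), biproduct.ι_π_ne _ hj]
      rw [← Category.assoc (biproduct.ι (fun j => T 2 k (dB α₂ α₃ j)) (Sum.inl j)) prL q', h4]
      exact (biproduct.ι_desc (f := fun _ : Fin α₂ => T 2 k (-1))
        (fun j : Fin α₂ => biproduct.ι (fun j => T 2 k (dB α₂ α₃ j)) (Sum.inl j) ≫ q) j).symm
    · have h4 : biproduct.ι (fun j => T 2 k (dB α₂ α₃ j)) (Sum.inr j) ≫ prL = 0 := by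
        refine biproduct.hom_ext _ _ fun j' => ?_
        rw [prL, Category.assoc, biproduct.lift_π, zero_comp]
        exact biproduct.ι_π_ne _ (by simp)
      rw [← Category.assoc (biproduct.ι (fun j => T 2 k (dB α₂ α₃ j)) (Sum.inr j)) prL q', h4, zero_comp]
      exact h1 j
  have h5 : mor (dA_le (α₂ := α₂)) (left F) ≫ q' = 0 := by
    rw [← mor_prL, Category.assoc, ← h3, hq, ← Category.assoc, cokernel.condition, zero_comp]
  have h6 : q' = 0 := by
    rw [← cancel_epi (mor (dA_le (α₂ := α₂)) (left F)), h5, comp_zero]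
  rw [← cancel_epi (cokernel.π (mor (dAB α₁ α₂ α₃) F)), comp_zero, ← hq, h3, h6, comp_zero]

/-- Global generation of the cokernel. -/
theorem gen_gg (h : α₂ + 2 ≤ α₁) :
    Gen k _ fun F : Mt 2 k (dA α₁) (dB α₂ α₃) =>
      Curv2.IsGloballyGenerated (cokernel ((isoA k α₁).hom ≫ mor (dAB α₁ α₂ α₃) F ≫ (isoB k α₂ α₃).inv)) := by
  refine (gen_epi h).mono fun F hF => ?_
  have := hF
  have := epi_gens F
  have := epi_comp (gens F) (cokerIso k α₁ α₂ α₃ F).inv
  exact Sga67.SerreVB.isGloballyGenerated_of_epi_freeMod (gens F ≫ (cokerIso k α₁ α₂ α₃ F).inv)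

end

end K57.GG
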