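import Mathlib.Algebra.MvPolynomial.Funext
import Mathlib.LinearAlgebra.FiniteDimensional.Lemmas
import Mathlib.LinearAlgebra.Matrix.ToLin
import Mathlib.LinearAlgebra.Determinant
import Mathlib.RingTheory.MvPolynomial.Basic
import Mathlib.Algebra.MvPolynomial.Monad

/-!
# General vectors of a finite-dimensional vector space

* `IsPoly c f`: `f : V → k` is a polynomial function in the linear coordinates `c`; closure properties.
* `Gen k V Q`: `Q` holds at all vectors where some fixed nonzero polynomial does not vanish.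
* `Gen.of_poly`, `Gen.and`, `Gen.congr`; `Gen.surjective`, `Gen.injective`, `Gen.bijective`: openness of surjectivity,
  injectivity and bijectivity for polynomial families of linear maps of finite-dimensional spaces.
-/

set_option autoImplicit false

namespace K57.GenV

open MvPolynomial

variable {k : Type*} [Field k] {V : Type*} [AddCommGroup V] [Module k V]

/-- `f` is polynomial in the coordinates `c`. -/
def IsPoly {m : ℕ} (c : V ≃ₗ[k] (Fin m → k)) (f : V → k) : Prop :=
  ∃ p : MvPolynomial (Fin m) k, ∀ v, eval (c v) p = f v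

section

variable {m : ℕ} {c : V ≃ₗ[k] (Fin m → k)}

theorem isPoly_const (a : k) : IsPoly c fun _ => a := ⟨C a, fun _ => eval_C a⟩

theorem isPoly_add {f g : V → k} (hf : IsPoly c f) (hg : IsPoly c g) : IsPoly c fun v => f v + g v := by
  obtain ⟨p, hp⟩ := hf
  obtain ⟨q, hq⟩ := hg
  exact ⟨p + q, fun v => by rw [map_add, hp, hq]⟩

theorem isPoly_mul {f g : V → k} (hf : IsPoly c f) (hg : IsPoly c g) : IsPoly c fun v => f v * g v := by
  obtain ⟨p, hp⟩ := hf
  obtain ⟨q, hq⟩ := hg
  exact ⟨p * q, fun v => by rw [map_mul, hp, hq]⟩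

theorem isPoly_sum {ι : Type*} (s : Finset ι) {f : ι → V → k} (hf : ∀ i ∈ s, IsPoly c (f i)) :
    IsPoly c fun v => ∑ i ∈ s, f i v := by
  classical
  induction s using Finset.induction_on with
  | empty => exact ⟨0, fun v => by simp⟩
  | insert a s ha ih =>
    simp only [Finset.sum_insert ha]
    exact isPoly_add (hf a (Finset.mem_insert_self a s)) (ih fun i hi => hf i (Finset.mem_insert_of_mem hi))

theorem isPoly_prod {ι : Type*} (s : Finset ι) {f : ι → V → k} (hf : ∀ i ∈ s, IsPoly c (f i)) :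
    IsPoly c fun v => ∏ i ∈ s, f i v := by
  classical
  induction s using Finset.induction_on with
  | empty => exact ⟨1, fun v => by simp⟩
  | insert a s ha ih =>
    simp only [Finset.prod_insert ha]
    exact isPoly_mul (hf a (Finset.mem_insert_self a s)) (ih fun i hi => hf i (Finset.mem_insert_of_mem hi))

theorem isPoly_linear (g : V →ₗ[k] k) : IsPoly c fun v => g v := by
  refine ⟨∑ i, C (g (c.symm (Pi.single i 1))) * X i, fun v => ?_⟩
  rw [map_sum]
  have h : v = ∑ i, c v i • c.symm (Pi.single i 1) := by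
    apply c.injective
    rw [map_sum]
    simp only [map_smul, LinearEquiv.apply_symm_apply]
    ext j
    simp [Finset.sum_apply, Pi.single_apply]
  have h2 : g v = ∑ i, g (c v i • c.symm (Pi.single i 1)) := by
    conv_lhs => rw [h]
    exact map_sum g _ _
  refine Eq.trans ?_ h2.symm
  refine Finset.sum_congr rfl fun i _ => ?_
  rw [map_mul, eval_C, eval_X, map_smul, smul_eq_mul, mul_comm]

theorem isPoly_congr {f g : V → k} (hf : IsPoly c f) (h : ∀ v, f v = g v) : IsPoly c g := by
  obtain ⟨p, hp⟩ := hf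
  exact ⟨p, fun v => (hp v).trans (h v)⟩

theorem isPoly_det {n : Type*} [Fintype n] [DecidableEq n] {M : V → Matrix n n k}
    (h : ∀ i j, IsPoly c fun v => M v i j) : IsPoly c fun v => (M v).det := by
  simp only [Matrix.det_apply']
  refine isPoly_sum _ fun σ _ => isPoly_mul (isPoly_const _) (isPoly_prod _ fun i _ => h _ _)

/-- A polynomial function in other coordinates. -/
theorem isPoly_of_isPoly {m' : ℕ} (c' : V ≃ₗ[k] (Fin m' → k)) {f : V → k} (hf : IsPoly c' f) : IsPoly c f := by
  obtain ⟨p, hp⟩ := hf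
  choose q hq using fun i : Fin m' => isPoly_linear (c := c) ((LinearMap.proj i).comp c'.toLinearMap)
  refine ⟨bind₁ q p, fun v => ?_⟩
  rw [← hp]
  have h1 : eval (c v) (bind₁ q p) = eval (fun i => eval (c v) (q i)) p := by
    rw [← aeval_eq_eval, ← aeval_eq_eval, aeval_bind₁]
  rw [h1]
  congr 2
  ext i
  exact hq i v

end

/-- `Q` holds for the general vector of `V`. -/
def Gen (k V : Type*) [Field k] [AddCommGroup V] [Module k V] (Q : V → Prop) : Prop :=
  ∃ (m : ℕ) (c : V ≃ₗ[k] (Fin m → k)) (p : MvPolynomial (Fin m) k), p ≠ 0 ∧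
    ∀ v, eval (c v) p ≠ 0 → Q v

theorem Gen.mono {Q Q' : V → Prop} (h : Gen k V Q) (H : ∀ v, Q v → Q' v) : Gen k V Q' := by
  obtain ⟨m, c, p, hp, hq⟩ := h
  exact ⟨m, c, p, hp, fun v hv => H v (hq v hv)⟩

theorem Gen.of_poly {m : ℕ} {c : V ≃ₗ[k] (Fin m → k)} {f : V → k} (hf : IsPoly c f) (v₀ : V) (h₀ : f v₀ ≠ 0)
    {Q : V → Prop} (H : ∀ v, f v ≠ 0 → Q v) : Gen k V Q := by
  obtain ⟨p, hp⟩ := hf
  refine ⟨m, c, p, ?_, fun v hv => H v (by rwa [← hp])⟩
  rintro rfl
  exact h₀ (by rw [← hp, map_zero])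

/-- Coordinates. -/
noncomputable def coord (k V : Type*) [Field k] [AddCommGroup V] [Module k V] [FiniteDimensional k V] :
    V ≃ₗ[k] (Fin (Module.finrank k V) → k) := (Module.finBasis k V).equivFun

theorem Gen.and [Infinite k] {Q Q' : V → Prop} (h : Gen k V Q) (h' : Gen k V Q') :
    Gen k V fun v => Q v ∧ Q' v := by
  obtain ⟨m, c, p, hp, hq⟩ := h
  obtain ⟨m', c', p', hp', hq'⟩ := h'
  obtain ⟨q, hqq⟩ : IsPoly c fun v => eval (c' v) p' := isPoly_of_isPoly c' ⟨p', fun _ => rfl⟩
  have hq0 : q ≠ 0 := by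
    rintro rfl
    apply hp'
    apply MvPolynomial.funext
    intro x
    have h1 : eval (c (c'.symm x)) 0 = eval (c' (c'.symm x)) p' := hqq (c'.symm x)
    rw [map_zero, LinearEquiv.apply_symm_apply] at h1
    rw [← h1, map_zero]
  refine ⟨m, c, p * q, mul_ne_zero hp hq0, fun v hv => ?_⟩
  rw [map_mul] at hv
  exact ⟨hq v (left_ne_zero_of_mul hv), hq' v (by
    have h2 : eval (c v) q = eval (c' v) p' := hqq v
    rw [← h2]
    exact right_ne_zero_of_mul hv)⟩

theorem Gen.congr {V' : Type*} [AddCommGroup V'] [Module k V'] (e : V ≃ₗ[k] V') {Q : V → Prop}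
    (h : Gen k V Q) : Gen k V' fun v => Q (e.symm v) := by
  obtain ⟨m, c, p, hp, hq⟩ := h
  exact ⟨m, e.symm.trans c, p, hp, fun v hv => hq _ hv⟩

theorem Gen.exists [Infinite k] {Q : V → Prop} (h : Gen k V Q) : ∃ v, Q v := by
  obtain ⟨m, c, p, hp, hq⟩ := h
  by_contra hne
  apply hp
  apply MvPolynomial.funext
  intro x
  rw [map_zero]
  by_contra hx
  exact hne ⟨c.symm x, hq _ (by rwa [LinearEquiv.apply_symm_apply])⟩

section family

variable {X Y : Type*} [AddCommGroup X] [Module k X] [AddCommGroup Y] [Module k Y]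
  [FiniteDimensional k X] [FiniteDimensional k Y]

/-- `L` is a polynomial family of linear maps. -/
def IsPolyFam {m : ℕ} (c : V ≃ₗ[k] (Fin m → k)) (L : V → X →ₗ[k] Y) : Prop :=
  ∀ (x : X) (g : Y →ₗ[k] k), IsPoly c fun v => g (L v x)

omit [FiniteDimensional k X] [FiniteDimensional k Y] in
theorem isPolyFam_linear {m : ℕ} (c : V ≃ₗ[k] (Fin m → k)) (L : V →ₗ[k] X →ₗ[k] Y) :
    IsPolyFam c fun v => L v :=
  fun x g => isPoly_linear (g.comp ((LinearMap.applyₗ x).comp L))

theorem isPoly_endo_det {m : ℕ} {c : V ≃ₗ[k] (Fin m → k)} {L : V → X →ₗ[k] X} (h : IsPolyFam c L) :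
    IsPoly c fun v => LinearMap.det (L v) := by
  classical
  let b := Module.finBasis k X
  have h1 : ∀ v, LinearMap.det (L v) = (LinearMap.toMatrix b b (L v)).det := fun v =>
    (LinearMap.det_toMatrix b (L v)).symm
  simp only [h1]
  refine isPoly_det fun i j => ?_
  simp only [LinearMap.toMatrix_apply]
  exact h (b j) (b.coord i)

omit [FiniteDimensional k X] in
theorem Gen.surjective {m : ℕ} {c : V ≃ₗ[k] (Fin m → k)} {L : V → X →ₗ[k] Y} (h : IsPolyFam c L) (v₀ : V)
    (h₀ : Function.Surjective (L v₀)) : Gen k V fun v => Function.Surjective (L v) := by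
  obtain ⟨s, hs⟩ := (L v₀).exists_rightInverse_of_surjective (LinearMap.range_eq_top.mpr h₀)
  have hf : IsPolyFam c fun v => (L v).comp s := fun y g => h (s y) g
  refine Gen.of_poly (isPoly_endo_det hf) v₀ ?_ fun v hv => ?_
  · rw [hs, LinearMap.det_id]
    exact one_ne_zero
  · have hu : IsUnit ((L v).comp s) := (LinearMap.isUnit_iff_isUnit_det _).mpr (isUnit_iff_ne_zero.mpr hv)
    have hb := ((Module.End.isUnit_iff _).mp hu).2
    intro y
    obtain ⟨z, hz⟩ := hb y
    exact ⟨s z, hz⟩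

omit [FiniteDimensional k Y] in
theorem Gen.injective {m : ℕ} {c : V ≃ₗ[k] (Fin m → k)} {L : V → X →ₗ[k] Y} (h : IsPolyFam c L) (v₀ : V)
    (h₀ : Function.Injective (L v₀)) : Gen k V fun v => Function.Injective (L v) := by
  obtain ⟨s, hs⟩ := (L v₀).exists_leftInverse_of_injective (LinearMap.ker_eq_bot.mpr h₀)
  have hf : IsPolyFam c fun v => s.comp (L v) := fun x g => h x (g.comp s)
  refine Gen.of_poly (isPoly_endo_det hf) v₀ ?_ fun v hv => ?_
  · rw [hs, LinearMap.det_id]
    exact one_ne_zero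
  · have hu : IsUnit (s.comp (L v)) := (LinearMap.isUnit_iff_isUnit_det _).mpr (isUnit_iff_ne_zero.mpr hv)
    have hb := ((Module.End.isUnit_iff _).mp hu).1
    exact Function.Injective.of_comp hb

theorem Gen.bijective [Infinite k] {m : ℕ} {c : V ≃ₗ[k] (Fin m → k)} {L : V → X →ₗ[k] Y} (h : IsPolyFam c L) (v₀ : V)
    (h₀ : Function.Bijective (L v₀)) : Gen k V fun v => Function.Bijective (L v) :=
  (Gen.injective h v₀ h₀.1).and (Gen.surjective h v₀ h₀.2)

end family

end K57.GenV
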