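import Groth.Agent.Coherent.K57.MatSheaf
import Groth.Agent.Coherent.K57.Gen

/-!
# General maps `O(-2)^{α₁} → O(-1)^{α₂} ⊕ O^{α₃}` on `P²`

`reduce`: a property of general matrices of forms gives a property of general maps.
`inj_of_eval`, `mono_of_eval`: injectivity of the values of the matrix at a point gives a monomorphism.
-/

set_option autoImplicit false
set_option backward.isDefEq.respectTransparency false

universe u

open CategoryTheory CategoryTheory.Limits AlgebraicGeometry Opposite TopologicalSpace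

namespace K57.Gaeta

open Groth.Agent K699.TwHom K57.Mat K57.MatSheaf K57.GenV

attribute [local instance] Abelian.hasFiniteBiproducts

section eval

variable {n : ℕ} {k : Type u} [Field k] {ι κ : Type} [Fintype ι] [Fintype κ]

theorem inj_of_eval {L : Type*} [CommRing L] [IsDomain L] (f : MvPolynomial (Fin (n + 1)) k →+* L)
    (hf : Function.Injective f) (F : ι → κ → MvPolynomial (Fin (n + 1)) k) (p : Fin (n + 1) → k)
    (hp : Function.Injective fun (v : ι → k) (j : κ) => ∑ i, v i * MvPolynomial.eval p (F i j))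
    (v : ι → L) (hv : ∀ j, ∑ i, f (F i j) * v i = 0) : v = 0 := by
  classical
  let E : (ι → k) →ₗ[k] (κ → k) :=
    { toFun := fun v j => ∑ i, v i * MvPolynomial.eval p (F i j)
      map_add' := fun v w => funext fun j => by simp [add_mul, Finset.sum_add_distrib]
      map_smul' := fun r v => funext fun j => by simp [Finset.mul_sum, mul_assoc] }
  obtain ⟨R, hR⟩ := E.exists_leftInverse_of_injective (LinearMap.ker_eq_bot.mpr hp)
  -- the matrix `F R`
  let P : Matrix ι ι (MvPolynomial (Fin (n + 1)) k) := fun i i' =>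
    ∑ j, F i j * MvPolynomial.C (R (Pi.single j 1) i')
  have hP : (MvPolynomial.eval p).mapMatrix P = 1 := by
    ext i i'
    have h1 : R (E (Pi.single i 1)) = Pi.single i 1 := by
      have := congrArg (fun g => g (Pi.single i 1)) hR
      exact this
    have h2 : E (Pi.single i 1) = ∑ j, MvPolynomial.eval p (F i j) • (Pi.single j 1 : κ → k) := by
      funext j
      simp [E, Finset.sum_apply, Pi.single_apply]
    rw [h2, map_sum] at h1
    have h3 := congrFun h1 i'
    simp only [map_smul, Finset.sum_apply, Pi.smul_apply, smul_eq_mul] at h3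
    simp only [RingHom.mapMatrix_apply, Matrix.map_apply, P, map_sum, map_mul, MvPolynomial.eval_C]
    rw [h3, Matrix.one_apply, Pi.single_apply]
    simp only [eq_comm]
  have hdet : P.det ≠ 0 := by
    intro h0
    have h1 : MvPolynomial.eval p P.det = 1 := by
      rw [RingHom.map_det, hP, Matrix.det_one]
    rw [h0, map_zero] at h1
    exact zero_ne_one h1
  have hdet' : (f.mapMatrix P).det ≠ 0 := by
    rw [← RingHom.map_det]
    intro h0
    exact hdet (hf (h0.trans (map_zero f).symm))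
  have hmul : Matrix.vecMul v (f.mapMatrix P) = 0 := by
    funext i'
    simp only [Matrix.vecMul, dotProduct, RingHom.mapMatrix_apply, Matrix.map_apply, P, map_sum, map_mul,
      Pi.zero_apply, Finset.mul_sum]
    rw [Finset.sum_comm]
    refine Finset.sum_eq_zero fun j _ => ?_
    have h1 : ∀ i, v i * (f (F i j) * f (MvPolynomial.C (R (Pi.single j 1) i'))) =
        f (F i j) * v i * f (MvPolynomial.C (R (Pi.single j 1) i')) := fun i => by ring
    rw [Finset.sum_congr rfl fun i _ => h1 i, ← Finset.sum_mul, hv j, zero_mul]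
  exact Matrix.eq_zero_of_vecMul_eq_zero hdet' hmul

theorem mono_of_eval {a : ι → ℤ} {b : κ → ℤ} (hab : ∀ i j, a i ≤ b j) (F : Mt n k a b) (p : Fin (n + 1) → k)
    (hp : Function.Injective fun (v : ι → k) (j : κ) => ∑ i, v i * MvPolynomial.eval p (F i j).1) :
    Mono (mor hab F) :=
  mono_mor hab F fun x v hv =>
    inj_of_eval (al x) (al_injective x) (fun i j => (F i j).1) p hp v hv

end eval

section

variable (k : Type u) [Field k] (α₁ α₂ α₃ : ℕ)

/-- The projective plane. -/
noncomputable abbrev P2 : Scheme.{u} := CohB1.ProjSpace 2 k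

/-- The source. -/
noncomputable abbrev AA : (P2 k).Modules := ∐ fun _ : Fin α₁ => Twist.twistProjSpace 2 k (-2)

/-- The target. -/
noncomputable abbrev BB : (P2 k).Modules :=
  (∐ fun _ : Fin α₂ => Twist.twistProjSpace 2 k (-1)) ⊞ (∐ fun _ : Fin α₃ => Coh.structureModule (P2 k))

/-- The degrees of the source. -/
abbrev dA : Fin α₁ → ℤ := fun _ => -2

/-- The degrees of the target. -/
abbrev dB : Fin α₂ ⊕ Fin α₃ → ℤ := Sum.elim (fun _ => -1) (fun _ => 0)

theorem dAB (i : Fin α₁) (j : Fin α₂ ⊕ Fin α₃) : dA α₁ i ≤ dB α₂ α₃ j := by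
  rcases j with j | j <;> simp [dA, dB]

/-- The source as a sum of twists. -/
noncomputable def isoA : AA k α₁ ≅ OO 2 k (dA α₁) :=
  (biproduct.isoCoproduct (fun _ : Fin α₁ => T 2 k (-2))).symm

/-- `O = O(0)`. -/
noncomputable def isoO : Coh.structureModule (P2 k) ≅ T 2 k 0 :=
  (Ega2.TwistInv.nonempty_unit_iso (CohB1.polyGrading 2 k)).some

/-- The components of the inverse of `isoB`. -/
noncomputable def compB : ∀ j : Fin α₂ ⊕ Fin α₃, T 2 k (dB α₂ α₃ j) ⟶ BB k α₂ α₃
  | Sum.inl i => Sigma.ι (fun _ : Fin α₂ => Twist.twistProjSpace 2 k (-1)) i ≫ biprod.inl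
  | Sum.inr i => (isoO k).inv ≫ Sigma.ι (fun _ : Fin α₃ => Coh.structureModule (P2 k)) i ≫ biprod.inr

/-- The target as a sum of twists. -/
noncomputable def isoB : BB k α₂ α₃ ≅ OO 2 k (dB α₂ α₃) where
  hom := biprod.desc
    (Sigma.desc fun i => biproduct.ι (fun j => T 2 k (dB α₂ α₃ j)) (Sum.inl i))
    (Sigma.desc fun i => (isoO k).hom ≫ biproduct.ι (fun j => T 2 k (dB α₂ α₃ j)) (Sum.inr i))
  inv := biproduct.desc (compB k α₂ α₃)
  hom_inv_id := by
    refine biprod.hom_ext' _ _ (Sigma.hom_ext _ _ fun i => ?_) (Sigma.hom_ext _ _ fun i => ?_)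
    · rw [biprod.inl_desc_assoc, Sigma.ι_desc_assoc, biproduct.ι_desc, Category.comp_id]
      rfl
    · rw [biprod.inr_desc_assoc, Sigma.ι_desc_assoc, Category.assoc, biproduct.ι_desc, Category.comp_id]
      change (isoO k).hom ≫ (isoO k).inv ≫ _ = _
      rw [Iso.hom_inv_id_assoc]
  inv_hom_id := by
    refine biproduct.hom_ext' _ _ fun j => ?_
    rw [biproduct.ι_desc_assoc, Category.comp_id]
    rcases j with j | j
    · change (Sigma.ι (fun _ : Fin α₂ => Twist.twistProjSpace 2 k (-1)) j ≫ biprod.inl) ≫ _ = _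
      rw [Category.assoc, biprod.inl_desc, Sigma.ι_desc]
    · change ((isoO k).inv ≫ Sigma.ι (fun _ : Fin α₃ => Coh.structureModule (P2 k)) j ≫ biprod.inr) ≫ _ = _
      rw [Category.assoc, Category.assoc, biprod.inr_desc, Sigma.ι_desc, Iso.inv_hom_id_assoc]

/-- Maps are matrices of forms. -/
noncomputable def equiv : Mt 2 k (dA α₁) (dB α₂ α₃) ≃ₗ[k] (AA k α₁ ⟶ BB k α₂ α₃) :=
  (morEquiv (dAB α₁ α₂ α₃)).trans (Linear.homCongr k (isoA k α₁).symm (isoB k α₂ α₃).symm)

theorem equiv_apply (F : Mt 2 k (dA α₁) (dB α₂ α₃)) : equiv k α₁ α₂ α₃ F =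
    (isoA k α₁).hom ≫ mor (dAB α₁ α₂ α₃) F ≫ (isoB k α₂ α₃).inv := by
  change (Linear.homCongr k (isoA k α₁).symm (isoB k α₂ α₃).symm) (mor (dAB α₁ α₂ α₃) F) = _
  rw [Linear.homCongr_apply]
  simp

/-- A property of general matrices of forms gives a property of general maps. -/
theorem reduce {Q : (AA k α₁ ⟶ BB k α₂ α₃) → Prop} {Q' : Mt 2 k (dA α₁) (dB α₂ α₃) → Prop}
    (h : Gen k _ Q') (H : ∀ F, Q' F → Q ((isoA k α₁).hom ≫ mor (dAB α₁ α₂ α₃) F ≫ (isoB k α₂ α₃).inv)) :
    Gen k _ Q := by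
  refine (h.congr (equiv k α₁ α₂ α₃)).mono fun φ hφ => ?_
  have h1 := H _ hφ
  rwa [← equiv_apply, LinearEquiv.apply_symm_apply] at h1

/-- The cokernel of the map of a matrix. -/
noncomputable def cokerIso (F : Mt 2 k (dA α₁) (dB α₂ α₃)) :
    cokernel ((isoA k α₁).hom ≫ mor (dAB α₁ α₂ α₃) F ≫ (isoB k α₂ α₃).inv) ≅ cokernel (mor (dAB α₁ α₂ α₃) F) :=
  cokernelEpiComp _ _ ≪≫ cokernelCompIsIso _ _

end

end K57.Gaeta
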