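import Groth.Agent.Coherent.K57.GG
import Groth.Agent.Variety.K426.HomFactor
import Groth.Agent.CAlgX.K581.HilbertBurch

/-!
# The Hilbert–Burch complex of the general map `O(-2)^{α₁} → O(-1)^{α₂} ⊕ O^{α₃}`, `α₂ + α₃ = α₁ + 1`
-/

set_option autoImplicit false
set_option backward.isDefEq.respectTransparency false

universe u

namespace K57.HB

section alg

variable {S M : Type*} [CommRing S] [AddCommGroup M] [Module S M] (I : Submodule S M) (E : ℤ → M) (D : ℤ → ℕ) (x y : S)

theorem bi_X (h0 : ∀ m < 0, E m = 0) (hD : ∀ m, D m ≤ 2) (hrel : ∀ m, x ^ D m • E m + y ^ D m • E (m - 1) ∈ I) :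
    ∀ j : ℕ, x ^ (2 * (j + 1)) • E j ∈ I := by
  intro j
  induction j with
  | zero =>
    have h1 := I.smul_mem (x ^ (2 - D 0)) (hrel 0)
    rw [h0 (0 - 1) (by omega), smul_zero, add_zero, smul_smul, ← pow_add, Nat.sub_add_cancel (hD 0)] at h1
    simpa using h1
  | succ j ih =>
    have h1 := I.smul_mem (x ^ (2 * (j + 1) + (2 - D ((j + 1 : ℕ) : ℤ)))) (hrel ((j + 1 : ℕ) : ℤ))
    have e1 : ((j + 1 : ℕ) : ℤ) - 1 = j := by push_cast; ring
    rw [e1, smul_add, smul_smul, smul_smul, ← pow_add] at h1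
    have e2 : 2 * (j + 1) + (2 - D ((j + 1 : ℕ) : ℤ)) + D ((j + 1 : ℕ) : ℤ) = 2 * (j + 1 + 1) := by
      have := hD ((j + 1 : ℕ) : ℤ)
      omega
    rw [e2] at h1
    have h2 := I.smul_mem (x ^ (2 - D ((j + 1 : ℕ) : ℤ)) * y ^ D ((j + 1 : ℕ) : ℤ)) ih
    rw [smul_smul] at h2
    have h3 := I.sub_mem h1 h2
    have e3 : x ^ (2 * (j + 1) + (2 - D ((j + 1 : ℕ) : ℤ))) * y ^ D ((j + 1 : ℕ) : ℤ) =
        x ^ (2 - D ((j + 1 : ℕ) : ℤ)) * y ^ D ((j + 1 : ℕ) : ℤ) * x ^ (2 * (j + 1)) := by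
      rw [pow_add]; ring
    rw [e3, add_sub_cancel_right] at h3
    exact h3

theorem bi_X' (K : ℕ) (h0 : ∀ m < 0, E m = 0) (hK : ∀ m : ℤ, K ≤ m → E m = 0) (hD : ∀ m, D m ≤ 2)
    (hrel : ∀ m, x ^ D m • E m + y ^ D m • E (m - 1) ∈ I) (m : ℤ) (r : ℕ) (hr : 2 * K ≤ r) : x ^ r • E m ∈ I := by
  by_cases hm : m < 0
  · rw [h0 m hm, smul_zero]
    exact I.zero_mem
  by_cases hm' : (K : ℤ) ≤ m
  · rw [hK m hm', smul_zero]
    exact I.zero_mem
  obtain ⟨j, rfl⟩ := Int.eq_ofNat_of_zero_le (not_lt.mp hm)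
  obtain ⟨s, rfl⟩ : ∃ s, r = s + 2 * (j + 1) := ⟨r - 2 * (j + 1), by omega⟩
  rw [pow_add, mul_smul]
  exact I.smul_mem _ (bi_X I E D x y h0 hD hrel j)

theorem bi_Y' (K : ℕ) (h0 : ∀ m < 0, E m = 0) (hK : ∀ m : ℤ, K ≤ m → E m = 0) (hD : ∀ m, D m ≤ 2)
    (hrel : ∀ m, x ^ D m • E m + y ^ D m • E (m - 1) ∈ I) (m : ℤ) (r : ℕ) (hr : 2 * K ≤ r) : y ^ r • E m ∈ I := by
  have h1 := bi_X' I (fun m => E (K - 1 - m)) (fun m => D (K - m)) y x K (fun m hm => hK _ (by omega))
    (fun m hm => h0 _ (by omega)) (fun m => hD _) (fun m => by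
      have h2 := hrel (K - m)
      have e1 : (K : ℤ) - 1 - (m - 1) = K - m := by ring
      have e2 : (K : ℤ) - 1 - m = K - m - 1 := by ring
      simp only [e1, e2]
      rw [add_comm]
      exact h2) (K - 1 - m) r hr
  simpa using h1

end alg

open Groth.Agent K699.TwHom K57.Mat K57.MatSheaf K57.GenV K57.Gaeta K57.Band K57.GG MvPolynomial

variable {k : Type u} [Field k]

/-- The bidiagonal matrix. -/
noncomputable def bid (t : ℕ) (D : Fin (t + 1) → ℕ) (j : Fin (t + 1)) (m : Fin t) : MvPolynomial (Fin 3) k :=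
  if (j : ℕ) = m then X 0 ^ D j else if (j : ℕ) = m + 1 then X 1 ^ D j else 0

theorem bid_isHomogeneous (t : ℕ) (D : Fin (t + 1) → ℕ) (j : Fin (t + 1)) (m : Fin t) :
    (bid (k := k) t D j m).IsHomogeneous (D j) := by
  unfold bid
  split_ifs
  · exact isHomogeneous_X_pow _ _
  · exact isHomogeneous_X_pow _ _
  · exact isHomogeneous_zero _ _ _

/-- The matrix with the additional rows `z e_m`. -/
noncomputable def bidz (t : ℕ) (P : Fin (t + 1) → Fin t → MvPolynomial (Fin 3) k) (i : Fin (t + 1) ⊕ Fin t) (m : Fin t) :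
    MvPolynomial (Fin 3) k :=
  Sum.elim (fun j => P j m) (fun m' => if m' = m then X 2 else 0) i

theorem bid_mem (t : ℕ) (D : Fin (t + 1) → ℕ) (hD : ∀ j, D j ≤ 2) (v : Fin t → MvPolynomial (Fin 3) k) (d : ℕ)
    (hd : 4 * t ≤ d) (hv : ∀ j, (v j).IsHomogeneous d) : v ∈ img (bidz t (bid (k := k) t D)) := by
  let E : ℤ → (Fin t → MvPolynomial (Fin 3) k) := fun m j => if (j : ℤ) = m then 1 else 0
  let D' : ℤ → ℕ := fun m => if h : m.toNat < t + 1 then D ⟨m.toNat, h⟩ else 0
  have hD' : ∀ m, D' m ≤ 2 := by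
    intro m
    simp only [D']
    split_ifs
    · exact hD _
    · omega
  have h0 : ∀ m < 0, E m = 0 := fun m hm => funext fun j => if_neg (by omega)
  have hK : ∀ m : ℤ, t ≤ m → E m = 0 := fun m hm => funext fun j => if_neg (by omega)
  have hrel : ∀ m, (X 0 : MvPolynomial (Fin 3) k) ^ D' m • E m +
      (X 1 : MvPolynomial (Fin 3) k) ^ D' m • E (m - 1) ∈ img (bidz t (bid (k := k) t D)) := by
    intro m
    by_cases hm : 0 ≤ m ∧ m < t + 1
    · obtain ⟨c, rfl⟩ := Int.eq_ofNat_of_zero_le hm.1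
      have hc : c < t + 1 := by omega
      have hDc : D' c = D ⟨c, hc⟩ := by
        simp only [D', Int.toNat_natCast]
        rw [dif_pos hc]
      rw [mem_img]
      refine ⟨Pi.single (Sum.inl ⟨c, hc⟩) 1, fun j => ?_⟩
      rw [Finset.sum_eq_single (Sum.inl (⟨c, hc⟩ : Fin (t + 1)) : Fin (t + 1) ⊕ Fin t)]
      · rw [Pi.single_eq_same, one_mul, hDc]
        simp only [bidz, bid, Sum.elim_inl, Pi.add_apply, Pi.smul_apply, E, smul_eq_mul, mul_ite, mul_one, mul_zero]
        by_cases h1 : c = (j : ℕ)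
        · rw [if_pos h1, if_pos (by omega), if_neg (by omega)]
          simp
        · by_cases h2 : c = (j : ℕ) + 1
          · rw [if_neg h1, if_pos h2, if_neg (by omega), if_pos (by omega)]
            simp
          · rw [if_neg h1, if_neg h2, if_neg (by omega), if_neg (by omega)]
            simp
      · intro m _ hm
        rw [Pi.single_eq_of_ne hm, zero_mul]
      · intro h
        exact absurd (Finset.mem_univ _) h
    · have e1 : E m = 0 := by
        by_cases h1 : m < 0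
        · exact h0 m h1
        · exact hK m (by omega)
      have e2 : E (m - 1) = 0 := by
        by_cases h1 : m - 1 < 0
        · exact h0 _ h1
        · exact hK _ (by omega)
      rw [e1, e2]
      simp
  have hz : ∀ j : Fin t, (X 2 : MvPolynomial (Fin 3) k) • E j ∈ img (bidz t (bid (k := k) t D)) := by
    intro j
    rw [mem_img]
    refine ⟨Pi.single (Sum.inr j) 1, fun i => ?_⟩
    rw [Finset.sum_eq_single (Sum.inr j : Fin (t + 1) ⊕ Fin t)]
    · rw [Pi.single_eq_same, one_mul]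
      simp only [bidz, Sum.elim_inr, Pi.smul_apply, E, smul_eq_mul, mul_ite, mul_one, mul_zero]
      by_cases h1 : j = i
      · subst h1
        rw [if_pos rfl, if_pos rfl]
      · rw [if_neg h1, if_neg fun h => h1 (Fin.ext (by exact_mod_cast h.symm))]
    · intro m _ hm
      rw [Pi.single_eq_of_ne hm, zero_mul]
    · intro h
      exact absurd (Finset.mem_univ _) h
  have hmon : ∀ (j : Fin t) (s : Fin 3 →₀ ℕ) (c : k), s.degree = d →
      (monomial s c : MvPolynomial (Fin 3) k) • E j ∈ img (bidz t (bid (k := k) t D)) := by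
    intro j s c hs
    have hs' : s.degree = s 0 + s 1 + s 2 := by
      rw [Finsupp.degree_eq_sum, Fin.sum_univ_three]
    have h2 : (monomial s c : MvPolynomial (Fin 3) k) = C c * (X 0 ^ s 0 * X 1 ^ s 1 * X 2 ^ s 2) := by
      rw [monomial_eq, Finsupp.prod_fintype _ _ (by simp), Fin.prod_univ_three]
    by_cases hz2 : s 2 = 0
    · by_cases hx : 2 * t ≤ s 0
      · have e : (monomial s c : MvPolynomial (Fin 3) k) = (C c * X 1 ^ s 1 * X 2 ^ s 2) * X 0 ^ s 0 := by
          rw [h2]; ring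
        rw [e, mul_smul]
        exact Submodule.smul_mem _ _ (bi_X' _ E D' _ (X 1) t h0 hK hD' hrel j _ hx)
      · have e : (monomial s c : MvPolynomial (Fin 3) k) = (C c * X 0 ^ s 0 * X 2 ^ s 2) * X 1 ^ s 1 := by
          rw [h2]; ring
        rw [e, mul_smul]
        exact Submodule.smul_mem _ _ (bi_Y' _ E D' (X 0) _ t h0 hK hD' hrel j _ (by omega))
    · have e : (monomial s c : MvPolynomial (Fin 3) k) = (C c * (X 0 ^ s 0 * X 1 ^ s 1 * X 2 ^ (s 2 - 1))) * X 2 := by
        rw [h2]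
        conv_lhs => rw [← Nat.sub_add_cancel (Nat.one_le_iff_ne_zero.mpr hz2), pow_succ]
        ring
      rw [e, mul_smul]
      exact Submodule.smul_mem _ _ (hz j)
  have hv' : v = ∑ j, (v j) • E j := by
    funext i
    rw [Finset.sum_apply, Finset.sum_eq_single i]
    · simp [E]
    · intro j _ hj
      have : ¬ ((i : ℤ) = (j : ℤ)) := fun h => hj (Fin.ext (by exact_mod_cast h.symm))
      simp only [E, Pi.smul_apply]
      rw [if_neg this, smul_zero]
    · intro h
      exact absurd (Finset.mem_univ _) h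
  rw [hv']
  refine Submodule.sum_mem _ fun j _ => ?_
  rw [(v j).as_sum, Finset.sum_smul]
  refine Submodule.sum_mem _ fun s hs => hmon j s _ ?_
  have := hv j (mem_support_iff.mp hs)
  rwa [Finsupp.degree_eq_weight_one]

/-- Homogeneous preimages. -/
theorem exists_hom' {ι κ : Type} [Fintype ι] {F : ι → κ → MvPolynomial (Fin 3) k} {N : ℕ} {e : ι → ℕ}
    (he : ∀ i, e i ≤ N) (hF : ∀ i j, (F i j).IsHomogeneous (e i)) {v : κ → MvPolynomial (Fin 3) k}
    (hv : ∀ j, (v j).IsHomogeneous N) (h : v ∈ img F) :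
    ∃ w : ∀ i, gr 2 k (N - e i), ∀ j, ∑ m, (w m).1 * F m j = v j := by
  obtain ⟨w, hw⟩ := (mem_img F v).mp h
  refine ⟨fun m => ⟨homogeneousComponent (N - e m) (w m), homogeneousComponent_isHomogeneous _ (w m)⟩, fun j => ?_⟩
  have h1 : homogeneousComponent N (v j) = v j := by
    rw [homogeneousComponent_of_mem (m := N) (n := N) (hv j), if_pos rfl]
  rw [← h1, ← hw j, map_sum]
  refine Finset.sum_congr rfl fun m _ => ?_
  have h2 := K581.HomDim.homogeneousComponent_mul _ (w m) (hF m j) (N - e m)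
  rw [Nat.add_sub_cancel' (he m)] at h2
  rw [mul_comm (w m), h2, mul_comm]

theorem isHomogeneous_det {n σ R : Type*} [Fintype n] [DecidableEq n] [CommRing R] (A : Matrix n n (MvPolynomial σ R))
    (D : n → ℕ) (h : ∀ i j, (A i j).IsHomogeneous (D i)) : A.det.IsHomogeneous (∑ i, D i) := by
  rw [Matrix.det_apply]
  refine IsHomogeneous.sum _ _ _ fun σ _ => ?_
  have h1 : (∏ i, A (σ i) i).IsHomogeneous (∑ i, D i) := by
    rw [← Equiv.sum_comp σ D]
    exact IsHomogeneous.prod _ _ _ fun i _ => h _ _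
  rcases Int.units_eq_one_or σ.sign with hs | hs
  · rw [hs, one_smul]
    exact h1
  · rw [hs, Units.neg_smul, one_smul]
    exact h1.neg

/-- `z ↦ 0`. -/
noncomputable def rho (k : Type u) [Field k] : MvPolynomial (Fin 3) k →ₐ[k] MvPolynomial (Fin 3) k :=
  aeval ![X 0, X 1, 0]

theorem coeff_rho (d : MvPolynomial (Fin 3) k) : constantCoeff (rho k d) = constantCoeff d := by
  have h1 : (constantCoeff.comp (rho k).toRingHom) = (constantCoeff : MvPolynomial (Fin 3) k →+* k) := by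
    refine MvPolynomial.ringHom_ext (fun r => ?_) fun i => ?_
    · simp [rho]
    · fin_cases i <;> simp [rho]
  exact congrArg (fun f => f d) h1

open K581.HilbertBurch in
theorem two_of_homog {f g : MvPolynomial (Fin 3) k} {L : ℕ} (hf : f.IsHomogeneous L) (_hg : g.IsHomogeneous L)
    (hf' : rho k f = X 0 ^ L) (hg' : rho k g = X 1 ^ L) {J : Ideal (MvPolynomial (Fin 3) k)}
    (hfJ : f ∈ J) (hgJ : g ∈ J) : Two J := by
  have hf0 : f ≠ 0 := by
    rintro rfl
    rw [map_zero] at hf'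
    exact pow_ne_zero L (X_ne_zero (R := k) (0 : Fin 3)) hf'.symm
  have hrel : IsRelPrime f g := by
    intro d hd1 hd2
    obtain ⟨a, ha⟩ := K426.HomFactor.isHomogeneous_of_dvd hf hf0 hd1
    have hd0 : d ≠ 0 := by
      rintro rfl
      exact hf0 (zero_dvd_iff.mp hd1)
    by_cases ha0 : a = 0
    · subst ha0
      exact K426.HomFactor.isUnit_of_isHomogeneous_zero ha hd0
    exfalso
    have h1 : rho k d ∣ X 0 ^ L := hf' ▸ map_dvd (rho k) hd1
    have h2 : rho k d ∣ X 1 ^ L := hg' ▸ map_dvd (rho k) hd2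
    have h3 : IsRelPrime (X 0 ^ L : MvPolynomial (Fin 3) k) (X 1 ^ L) := by
      refine IsRelPrime.pow ?_
      have hp : Irreducible (X 0 : MvPolynomial (Fin 3) k) := (X_prime (σ := Fin 3) (i := 0)).irreducible
      rw [hp.isRelPrime_iff_not_dvd, X_dvd_X]
      decide
    have h4 : IsUnit (rho k d) := h3 h1 h2
    have h5 : IsUnit (constantCoeff (rho k d)) := h4.map constantCoeff
    rw [coeff_rho] at h5
    apply h5.ne_zero
    rw [constantCoeff_eq]
    exact ha.coeff_eq_zero (by simpa using Ne.symm ha0)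
  refine ⟨f, hfJ, g, hgJ, fun a ha => (mul_eq_zero.mp ha).resolve_left hf0, fun a b hab => ?_⟩
  exact hrel.dvd_of_dvd_mul_left ⟨b, hab⟩

end K57.HB
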