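import Groth.Agent.Coherent.K57.HB
import Groth.Agent.OrdSurf.K841.InvEnd
import Groth.Agent.ShStab.K849.Reflex
import Groth.Agent.S10829

/-!
# Torsion-freeness of the cokernel of the general map, `α₂ + α₃ = α₁ + 1`
-/

set_option autoImplicit false
set_option backward.isDefEq.respectTransparency false

universe u

open CategoryTheory CategoryTheory.Limits AlgebraicGeometry Opposite TopologicalSpace

namespace K57.HB2

open Groth.Agent K699.TwHom K57.Mat K57.MatSheaf K57.GenV K57.Gaeta K57.Band K57.GG K57.HB K581.HilbertBurch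
  MvPolynomial

attribute [local instance] Abelian.hasFiniteBiproducts

variable {k : Type u} [Field k] {α₁ α₂ α₃ : ℕ}

/-- The degrees of the columns. -/
def DD (σ : Fin (α₁ + 1) ≃ Fin α₂ ⊕ Fin α₃) (j : Fin (α₁ + 1)) : ℕ := (dB α₂ α₃ (σ j) - (-2)).toNat

theorem DD_le (σ : Fin (α₁ + 1) ≃ Fin α₂ ⊕ Fin α₃) (j : Fin (α₁ + 1)) : DD σ j ≤ 2 := by
  unfold DD
  rcases σ j with i | i <;> simp [dB]

theorem DD_eq (σ : Fin (α₁ + 1) ≃ Fin α₂ ⊕ Fin α₃) (j : Fin (α₁ + 1)) : (DD σ j : ℤ) = dB α₂ α₃ (σ j) + 2 := by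
  unfold DD
  rcases σ j with i | i <;> simp [dB]

/-- The degrees of the rows of the big matrix. -/
def ee (σ : Fin (α₁ + 1) ≃ Fin α₂ ⊕ Fin α₃) (i : Fin (α₁ + 1) ⊕ Fin α₁) : ℕ := Sum.elim (DD σ) (fun _ => 1) i

/-- The matrix of a map, with columns indexed by `Fin (α₁ + 1)`. -/
def Psi (σ : Fin (α₁ + 1) ≃ Fin α₂ ⊕ Fin α₃) (F : Mt 2 k (dA α₁) (dB α₂ α₃)) :
    Matrix (Fin (α₁ + 1)) (Fin α₁) (MvPolynomial (Fin 3) k) := fun j m => (F m (σ j)).1

theorem Psi_hom (σ : Fin (α₁ + 1) ≃ Fin α₂ ⊕ Fin α₃) (F : Mt 2 k (dA α₁) (dB α₂ α₃)) (j : Fin (α₁ + 1)) (m : Fin α₁) :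
    (Psi σ F j m).IsHomogeneous (DD σ j) := (F m (σ j)).2

/-- The linear part of the family. -/
noncomputable def fam1 (σ : Fin (α₁ + 1) ≃ Fin α₂ ⊕ Fin α₃) (N : ℕ) (hN : 4 * α₁ + 4 ≤ N) :
    Mt 2 k (dA α₁) (dB α₂ α₃) →ₗ[k] (∀ i, gr 2 k (N - ee σ i)) →ₗ[k] (Fin α₁ → gr 2 k N) :=
  LinearMap.mk₂ k (fun F w m => ⟨∑ j, (w (Sum.inl j)).1 * Psi σ F j m,
      Submodule.sum_mem _ fun j _ => by
        have h1 := (w (Sum.inl j)).2.mul (Psi_hom σ F j m)
        have h2 : N - ee σ (Sum.inl j) + DD σ j = N := Nat.sub_add_cancel ((DD_le σ j).trans (by omega))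
        rw [h2] at h1
        exact h1⟩)
    (fun F G v => funext fun j => Subtype.ext (by
      simp [Psi, mul_add, Finset.sum_add_distrib]))
    (fun r F v => funext fun j => Subtype.ext (by
      simp [Psi, Finset.smul_sum]))
    (fun F v w => funext fun j => Subtype.ext (by
      simp [add_mul, Finset.sum_add_distrib]))
    (fun r F v => funext fun j => Subtype.ext (by
      simp [Finset.smul_sum]))

/-- The constant part of the family. -/
noncomputable def fam2 (σ : Fin (α₁ + 1) ≃ Fin α₂ ⊕ Fin α₃) (N : ℕ) (hN : 4 * α₁ + 4 ≤ N) :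
    (∀ i, gr 2 k (N - ee σ i)) →ₗ[k] (Fin α₁ → gr 2 k N) where
  toFun w m := ⟨(w (Sum.inr m)).1 * X 2, by
    have h1 := (w (Sum.inr m)).2.mul (isHomogeneous_X k (2 : Fin 3))
    have h2 : N - ee σ (Sum.inr m) + 1 = N := Nat.sub_add_cancel (by simp [ee]; omega)
    rw [h2] at h1
    exact h1⟩
  map_add' v w := funext fun m => Subtype.ext (by simp [add_mul])
  map_smul' r v := funext fun m => Subtype.ext (by simp)

/-- The family. -/
noncomputable def fam (σ : Fin (α₁ + 1) ≃ Fin α₂ ⊕ Fin α₃) (N : ℕ) (hN : 4 * α₁ + 4 ≤ N)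
    (F : Mt 2 k (dA α₁) (dB α₂ α₃)) : (∀ i, gr 2 k (N - ee σ i)) →ₗ[k] (Fin α₁ → gr 2 k N) :=
  fam1 σ N hN F + fam2 σ N hN

theorem fam_val (σ : Fin (α₁ + 1) ≃ Fin α₂ ⊕ Fin α₃) (N : ℕ) (hN : 4 * α₁ + 4 ≤ N)
    (F : Mt 2 k (dA α₁) (dB α₂ α₃)) (w : ∀ i, gr 2 k (N - ee σ i)) (m : Fin α₁) :
    (fam σ N hN F w m).1 = ∑ j, (w (Sum.inl j)).1 * Psi σ F j m + (w (Sum.inr m)).1 * X 2 := rfl

theorem isPolyFam_fam (σ : Fin (α₁ + 1) ≃ Fin α₂ ⊕ Fin α₃) (N : ℕ) (hN : 4 * α₁ + 4 ≤ N) {m : ℕ}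
    (c : Mt 2 k (dA α₁) (dB α₂ α₃) ≃ₗ[k] (Fin m → k)) : IsPolyFam c (fam σ N hN) := by
  intro x g
  refine isPoly_congr (isPoly_add (isPolyFam_linear c (fam1 σ N hN) x g) (isPoly_const (g (fam2 σ N hN x)))) fun v => ?_
  rw [fam, LinearMap.add_apply, map_add]

theorem gen_surj (σ : Fin (α₁ + 1) ≃ Fin α₂ ⊕ Fin α₃) (N : ℕ) (hN : 4 * α₁ + 4 ≤ N) :
    Gen k _ fun F : Mt 2 k (dA α₁) (dB α₂ α₃) => Function.Surjective (fam σ N hN F) := by
  let F₀ : Mt 2 k (dA α₁) (dB α₂ α₃) := fun m j => ⟨bid α₁ (DD σ) (σ.symm j) m, by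
    have h1 := bid_isHomogeneous (k := k) α₁ (DD σ) (σ.symm j) m
    unfold DD at h1 ⊢
    rw [Equiv.apply_symm_apply] at h1
    exact h1⟩
  have hF₀ : Psi σ F₀ = bid α₁ (DD σ) := by
    funext j m
    change bid α₁ (DD σ) (σ.symm (σ j)) m = _
    rw [Equiv.symm_apply_apply]
  refine Gen.surjective (isPolyFam_fam σ N hN (coord k _)) F₀ fun v => ?_
  have h1 := bid_mem (k := k) α₁ (DD σ) (DD_le σ) (fun m => (v m).1) N (by omega) (fun m => (v m).2)
  obtain ⟨w, hw⟩ := exists_hom' (e := ee σ) (N := N) (by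
      rintro (i | i)
      · exact (DD_le σ i).trans (by omega)
      · simp only [ee, Sum.elim_inr]
        omega)
    (by
      rintro (i | i) j
      · exact bid_isHomogeneous _ _ _ _
      · simp only [ee, bidz, Sum.elim_inr]
        split_ifs
        · exact isHomogeneous_X _ _
        · exact isHomogeneous_zero _ _ _)
    (fun m => (v m).2) h1
  refine ⟨w, funext fun m => Subtype.ext ?_⟩
  rw [fam_val, hF₀, ← hw m, Fintype.sum_sum_type]
  congr 1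
  rw [Finset.sum_eq_single m]
  · simp [bidz]
  · intro m' _ hm'
    simp [bidz, hm']
  · intro h
    exact absurd (Finset.mem_univ _) h

theorem two_of_surj (σ : Fin (α₁ + 1) ≃ Fin α₂ ⊕ Fin α₃) (N : ℕ) (hN : 4 * α₁ + 4 ≤ N)
    (F : Mt 2 k (dA α₁) (dB α₂ α₃)) (h : Function.Surjective (fam σ N hN F)) :
    Two (CAlgX.minorIdeal (Psi σ F) α₁) := by
  have key : ∀ i : Fin 3, i ≠ 2 → ∃ f ∈ CAlgX.minorIdeal (Psi σ F) α₁, f.IsHomogeneous (α₁ * N) ∧
      rho k f = (rho k (X i)) ^ (α₁ * N) := by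
    intro i hi
    choose w hw using fun m' : Fin α₁ => h (fun m => if m = m' then ⟨X i ^ N, isHomogeneous_X_pow i N⟩ else 0)
    let W : Matrix (Fin (α₁ + 1)) (Fin α₁) (MvPolynomial (Fin 3) k) := fun j m' => (w m' (Sum.inl j)).1
    have hA : ∀ m m', ((Psi σ F).transpose * W) m m' = (if m = m' then X i ^ N else 0) - (w m' (Sum.inr m)).1 * X 2 := by
      intro m m'
      have h1 := congrArg Subtype.val (congrFun (hw m') m)
      rw [fam_val] at h1
      have h2 : (if m = m' then (⟨X i ^ N, isHomogeneous_X_pow i N⟩ : gr 2 k N) else 0).1 =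
          (if m = m' then X i ^ N else 0 : MvPolynomial (Fin 3) k) := by
        split_ifs <;> rfl
      rw [← h2, ← h1, Matrix.mul_apply, eq_sub_iff_add_eq]
      congr 1
      exact Finset.sum_congr rfl fun j _ => mul_comm _ _
    refine ⟨((Psi σ F).transpose * W).det, ?_, ?_, ?_⟩
    · have h1 := Groth.Agent.CalgB.Minors.minorIdeal_mul_le_left (Psi σ F).transpose W α₁
      rw [Groth.Agent.CalgB.Minors.minorIdeal_transpose] at h1
      exact h1 (Groth.Agent.CalgB.Minors.det_mem_minorIdeal _ id id)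
    · have h1 := isHomogeneous_det ((Psi σ F).transpose * W) (fun _ => N) (fun m m' => by
        rw [hA]
        refine IsHomogeneous.sub ?_ ?_
        · split_ifs
          · exact isHomogeneous_X_pow _ _
          · exact isHomogeneous_zero _ _ _
        · have h1 := (w m' (Sum.inr m)).2.mul (isHomogeneous_X k (2 : Fin 3))
          have h2 : N - ee σ (Sum.inr m) + 1 = N := Nat.sub_add_cancel (by simp [ee]; omega)
          rw [h2] at h1
          exact h1)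
      simpa using h1
    · rw [AlgHom.map_det]
      have h1 : (rho k).mapMatrix ((Psi σ F).transpose * W) = Matrix.scalar (Fin α₁) ((rho k (X i)) ^ N) := by
        ext1 m m'
        rw [AlgHom.mapMatrix_apply, Matrix.map_apply, hA, map_sub, map_mul]
        have h2 : rho k (X 2) = 0 := by simp [rho]
        rw [h2, mul_zero, sub_zero, Matrix.scalar_apply, Matrix.diagonal_apply]
        split_ifs
        · rw [map_pow]
        · rw [map_zero]
      rw [h1, Matrix.scalar_apply, Matrix.det_diagonal, Finset.prod_const, Finset.card_univ, Fintype.card_fin,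
        ← pow_mul, mul_comm]
  obtain ⟨f, hf, hf1, hf2⟩ := key 0 (by decide)
  obtain ⟨g, hg, hg1, hg2⟩ := key 1 (by decide)
  exact two_of_homog hf1 hg1 (by rw [hf2]; simp [rho]) (by rw [hg2]; simp [rho]) hf hg

/-- The degree of the target of the Hilbert–Burch map. -/
def cc (σ : Fin (α₁ + 1) ≃ Fin α₂ ⊕ Fin α₃) : Fin 1 → ℤ := fun _ => (∑ j, DD σ j : ℕ) - 2

theorem sum_eq (σ : Fin (α₁ + 1) ≃ Fin α₂ ⊕ Fin α₃) (j : Fin α₂ ⊕ Fin α₃) (l : Fin 1) :
    ((∑ i, DD σ ((σ.symm j).succAbove i) : ℕ) : ℤ) = cc σ l - dB α₂ α₃ j := by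
  have h1 := Fin.sum_univ_succAbove (DD σ) (σ.symm j)
  have h2 := DD_eq σ (σ.symm j)
  rw [Equiv.apply_symm_apply] at h2
  unfold cc
  rw [h1, Nat.cast_add, h2]
  ring

theorem dB_le (σ : Fin (α₁ + 1) ≃ Fin α₂ ⊕ Fin α₃) (j : Fin α₂ ⊕ Fin α₃) (l : Fin 1) : dB α₂ α₃ j ≤ cc σ l := by
  have h1 := sum_eq σ j l
  have h2 : (0 : ℤ) ≤ ((∑ i, DD σ ((σ.symm j).succAbove i) : ℕ) : ℤ) := Nat.cast_nonneg _
  omega

/-- The matrix of signed maximal minors. -/
noncomputable def GG (σ : Fin (α₁ + 1) ≃ Fin α₂ ⊕ Fin α₃) (F : Mt 2 k (dA α₁) (dB α₂ α₃)) :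
    Mt 2 k (dB α₂ α₃) (cc σ) := fun j l => ⟨dl (Psi σ F) (σ.symm j), by
  have h1 : (((Psi σ F).submatrix (σ.symm j).succAbove id).det).IsHomogeneous (cc σ l - dB α₂ α₃ j).toNat := by
    have h2 := isHomogeneous_det ((Psi σ F).submatrix (σ.symm j).succAbove id)
      (fun i => DD σ ((σ.symm j).succAbove i)) (fun i m => Psi_hom σ F _ _)
    rw [← sum_eq, Int.toNat_natCast]
    exact h2
  have h3 : dl (Psi σ F) (σ.symm j) = (C ((-1 : k) ^ ((σ.symm j : Fin (α₁ + 1)) : ℕ))) *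
      ((Psi σ F).submatrix (σ.symm j).succAbove id).det := by
    rw [dl, map_pow, map_neg, map_one]
  rw [h3]
  have h4 := (isHomogeneous_C (Fin 3) ((-1 : k) ^ ((σ.symm j : Fin (α₁ + 1)) : ℕ))).mul h1
  rw [zero_add] at h4
  exact h4⟩

theorem exact_GG (σ : Fin (α₁ + 1) ≃ Fin α₂ ⊕ Fin α₃) (F : Mt 2 k (dA α₁) (dB α₂ α₃))
    (h : Two (CAlgX.minorIdeal (Psi σ F) α₁)) :
    ∃ w : mor (dAB α₁ α₂ α₃) F ≫ mor (dB_le σ) (GG σ F) = 0, (ShortComplex.mk _ _ w).Exact := by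
  refine exact_mor _ _ _ _ (fun i l => ?_) (fun i v hv => ⟨0, ?_⟩)
  · rw [← Equiv.sum_comp σ]
    have h1 := sum_dl_mul (Psi σ F) i
    rw [← h1]
    refine Finset.sum_congr rfl fun j _ => ?_
    change (F i (σ j)).1 * dl (Psi σ F) (σ.symm (σ j)) = _
    rw [Equiv.symm_apply_apply]
    rfl
  · obtain ⟨u, hu⟩ := ker_le_range (Psi σ F) h (fun j => v (σ j)) (by
      rw [← hv 0, ← Equiv.sum_comp σ]
      refine Finset.sum_congr rfl fun j _ => ?_
      change _ = v (σ j) * dl (Psi σ F) (σ.symm (σ j))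
      rw [Equiv.symm_apply_apply])
    refine ⟨u, fun j => ?_⟩
    have h1 := congrFun hu (σ.symm j)
    simp only [Equiv.apply_symm_apply] at h1
    rw [pow_zero, one_mul, ← h1, Matrix.mulVec, dotProduct]
    refine Finset.sum_congr rfl fun m _ => ?_
    change _ = (F m (σ (σ.symm j))).1 * u m
    rw [Equiv.apply_symm_apply, mul_comm]

/-- `⨁_{Fin 1} O(c)` is torsion-free. -/
theorem torsionFree_one (c : Fin 1 → ℤ) : TorSh.IsTorsionFree (OO 2 k c) := by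
  have h1 : Mono (pr (n := 2) (k := k) c 0) := ⟨fun g h hgh => biproduct.hom_ext _ _ fun j => by
    rw [Subsingleton.elim j 0]
    exact hgh⟩
  exact K848.TF.isTorsionFree_of_mono (pr c 0)
    (K841.InvEnd.isTorsionFree_of_isInvertible (Sga67.SerreVB.isInvertible_twist 2 k (c 0)))

theorem torsionFree_coker (σ : Fin (α₁ + 1) ≃ Fin α₂ ⊕ Fin α₃) (F : Mt 2 k (dA α₁) (dB α₂ α₃))
    (h : Two (CAlgX.minorIdeal (Psi σ F) α₁)) : TorSh.IsTorsionFree (cokernel (mor (dAB α₁ α₂ α₃) F)) := by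
  obtain ⟨w, hw⟩ := exact_GG σ F h
  have h1 : Mono (cokernel.desc (mor (dAB α₁ α₂ α₃) F) (mor (dB_le σ) (GG σ F)) w) :=
    (ShortComplex.exact_iff_mono_cokernel_desc _).mp hw
  exact K848.TF.isTorsionFree_of_mono (cokernel.desc (mor (dAB α₁ α₂ α₃) F) (mor (dB_le σ) (GG σ F)) w)
    (torsionFree_one _)

theorem not_isZero (σ : Fin (α₁ + 1) ≃ Fin α₂ ⊕ Fin α₃) (F : Mt 2 k (dA α₁) (dB α₂ α₃))
    (h : Two (CAlgX.minorIdeal (Psi σ F) α₁)) : ¬ IsZero (cokernel (mor (dAB α₁ α₂ α₃) F)) := by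
  intro h0
  obtain ⟨w, -⟩ := exact_GG σ F h
  have h1 : Epi (mor (dAB α₁ α₂ α₃) F) := Preadditive.epi_of_isZero_cokernel _ h0
  have h2 : mor (dB_le σ) (GG σ F) = 0 := by
    rw [← cancel_epi (mor (dAB α₁ α₂ α₃) F), w, comp_zero]
  have h3 : GG σ F = 0 := by
    apply mor_injective (dB_le σ)
    rw [h2]
    exact (map_zero (morLin (dB_le σ))).symm
  have h4 : ∀ j, dl (Psi σ F) j = 0 := by
    intro j
    have h5 := congrArg Subtype.val (congrFun (congrFun h3 (σ j)) 0)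
    change dl (Psi σ F) (σ.symm (σ j)) = 0 at h5
    rwa [Equiv.symm_apply_apply] at h5
  obtain ⟨x, hx, -, -, hx', -⟩ := h
  obtain ⟨c, hc⟩ := (mem_minorIdeal_iff (Psi σ F) x).mp hx
  have h6 : x = 0 := by
    rw [hc]
    exact Finset.sum_eq_zero fun i _ => by rw [h4, mul_zero]
  exact one_ne_zero (hx' 1 (by rw [h6, zero_mul]))

theorem main [Infinite k] (h : α₂ + α₃ = α₁ + 1) :
    Gen k _ fun φ : AA k α₁ ⟶ BB k α₂ α₃ =>
      Mono φ ∧ Coh.IsCoh (cokernel φ) ∧ ¬ IsZero (cokernel φ) ∧ ShStab.IsPure (P2 k) (cokernel φ) 2 := by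
  obtain ⟨σ⟩ : Nonempty (Fin (α₁ + 1) ≃ Fin α₂ ⊕ Fin α₃) := by
    rw [← Fintype.card_eq]
    simp [h]
  refine reduce k α₁ α₂ α₃ ((gen_mono (k := k) (α₁ := α₁) (α₂ := α₂) (α₃ := α₃) (by omega)).and
    (gen_surj (k := k) σ (4 * α₁ + 4) le_rfl)) fun F hF => ?_
  have := hF.1
  have hT := two_of_surj σ _ _ F hF.2
  let e := cokerIso k α₁ α₂ α₃ F
  have hcoh : Coh.IsCoh (cokernel (mor (dAB α₁ α₂ α₃) F)) :=
    Sga67.CohBasic.isCoh_cokernel _ isCoh_OO.1 isCoh_OO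
  refine ⟨mono_comp _ _, ?_, fun h0 => not_isZero σ F hT (h0.of_iso e.symm), ?_⟩
  · exact Sga67.CohBasic.isCoh_of_iso e.symm hcoh
  · refine K849.Reflex.isPure_of_torsionFree (K848.TF.isTorsionFree_of_mono e.hom (torsionFree_coker σ F hT)) ?_
    exact Groth.Agent.S10829.result k 2

end K57.HB2
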