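import Groth.Agent.Coherent.K57.Rank
import Groth.Agent.CohqB.SerTw
import Groth.Agent.CohqB.SuppVanish
import Groth.Agent.CohqA.IdealMod
import Groth.Agent.CohqA.H1Lift
import Groth.Agent.CohqA.ProjDim
import Groth.Agent.Fga.DimLt
import Groth.Agent.VarietyA.TwistExist
import Groth.Agent.VarietyA.CurveFin
import Groth.Agent.Ega3B.ProjFrame
import Groth.Agent.Ega2.TwistInv
import Groth.Agent.S0020
import Groth.Agent.S0843
import Groth.Agent.S0844
import Groth.Agent.S0845
import Groth.Agent.CAlgX.K581.HomDim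
import Groth.Prelude.Def_ClSub2

/-!
# Hypersurfaces in projective space: the twisted ideal sequence and the dimensions of cohomology
-/

set_option autoImplicit false
universe u

open CategoryTheory CategoryTheory.Limits AlgebraicGeometry TopologicalSpace

namespace K57.HypSeq

open Groth.Agent

section Ideal

variable {X : Scheme.{u}} (I : X.IdealSheafData)

theorem epi_toSubscheme : Epi (ClSub.toSubscheme I) :=
  (CohqB.ToSheafExact.toAbF X).epi_of_epi_map
    (CohqA.H1Lift.epi_toAb_of_locSurj _ (CohqA.IdealMod.toSubscheme_locSurj I))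

/-- `0 → I → O_X → O_X / I → 0`. -/
noncomputable def idealSeq : ShortComplex X.Modules :=
  ShortComplex.mk (ClSub.idealModι I) (ClSub.toSubscheme I) (kernel.condition _)

theorem idealSeq_shortExact : (idealSeq I).ShortExact where
  exact := ShortComplex.exact_of_f_is_kernel _ (kernelIsKernel _)
  mono_f := inferInstanceAs (Mono (kernel.ι (ClSub.toSubscheme I)))
  epi_g := epi_toSubscheme I

end Ideal

section Twist

variable (n : ℕ) (R : Type u) [CommRing R]

theorem isInvertible_twist (i : ℤ) : PicF.IsInvertible (Twist.twistProjSpace n R i) :=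
  Ega3B.ProjFrame.isInvertible_twistProjSpace n R i

theorem nonempty_tensor (i j : ℤ) :
    Nonempty (CohB1.tensorMod (Twist.twistProjSpace n R i) (Twist.twistProjSpace n R j) ≅
      Twist.twistProjSpace n R (i + j)) := by
  have h := Ega3B.ProjFrame.coveredByOne n R
  have h1 := Ega2.TwistInv.isIso_mulHom h (rfl : i + j = i + j)
  exact ⟨@asIso _ _ _ _ (Ega2.TwistMul.mulHom (CohB1.polyGrading n R) (rfl : i + j = i + j)) h1⟩

theorem nonempty_zero :
    Nonempty (Coh.structureModule (CohB1.ProjSpace n R) ≅ Twist.twistProjSpace n R 0) :=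
  Ega2.TwistInv.nonempty_unit_iso (CohB1.polyGrading n R)

end Twist

section Dim

variable (F : Type u) [Field F] (N : ℕ)

theorem finrank_eq_of_nonempty {V W : Type*} [AddCommGroup V] [Module F V] [AddCommGroup W]
    [Module F W] (e : Nonempty (V ≃ₗ[F] W)) : Module.finrank F V = Module.finrank F W :=
  e.elim fun e => e.finrank_eq

theorem finrank_homog (d : ℕ) :
    Module.finrank F ↥(MvPolynomial.homogeneousSubmodule (Fin (N + 1)) F d) =
      Nat.choose (d + N) N := K581.HomDim.finrank_homogeneous F N d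

theorem choose_toNat_of_lt (hN : 1 ≤ N) (m : ℤ) (hm : m < N) : Nat.choose m.toNat N = 0 := by
  apply Nat.choose_eq_zero_of_lt
  omega

/-- `dim H^0(P^N, O(m)) = C(m + N, N)` for `N ≥ 1`. -/
theorem h_zero (hN : 1 ≤ N) (m : ℤ) :
    K57.Rank.h F (Twist.twistProjSpace N F m) 0 = Nat.choose (m + N).toNat N := by
  unfold K57.Rank.h
  by_cases hm : 0 ≤ m
  · obtain ⟨d, rfl⟩ := Int.eq_ofNat_of_zero_le hm
    rw [finrank_eq_of_nonempty F (Groth.Agent.S0843.result F N d), finrank_homog]
    congr 1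
  · rw [choose_toNat_of_lt N hN _ (by omega)]
    have := Groth.Agent.S0844.result F N m 0 (by omega) (by omega)
    exact Module.finrank_zero_of_subsingleton

/-- `dim H^N(P^N, O(m)) = C(-m-1, N)` for `N ≥ 1`. -/
theorem h_top (hN : 1 ≤ N) (m : ℤ) :
    K57.Rank.h F (Twist.twistProjSpace N F m) N = Nat.choose (-m - 1).toNat N := by
  unfold K57.Rank.h
  by_cases hm : m ≤ -((N : ℤ) + 1)
  · obtain ⟨d, hd⟩ := Int.eq_ofNat_of_zero_le (show 0 ≤ -((N : ℤ) + 1) - m by omega)
    obtain rfl : m = -((N : ℤ) + 1 + d) := by omega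
    rw [finrank_eq_of_nonempty F (Groth.Agent.S0845.result F N d), finrank_homog]
    congr 1
    omega
  · rw [choose_toNat_of_lt N hN _ (by omega)]
    have := Groth.Agent.S0844.result F N m N (by omega) (by omega)
    exact Module.finrank_zero_of_subsingleton

theorem isNoetherian : IsNoetherian (CohB1.ProjSpace N F) := by
  have hp : IsProper (CohB1.ProjSpace.toSpec N F) := Groth.Agent.Dix.ProjProper.isProper_toSpec N F
  have hln : IsLocallyNoetherian (CohB1.ProjSpace N F) :=
    LocallyOfFiniteType.isLocallyNoetherian (CohB1.ProjSpace.toSpec N F)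
  have hc : CompactSpace (CohB1.ProjSpace N F) :=
    QuasiCompact.compactSpace_of_compactSpace (CohB1.ProjSpace.toSpec N F)
  exact {}

end Dim

section Main

open Groth.Agent.CohqB.SerTw K57.Rank

variable {F : Type u} [Field F] {N : ℕ} (k : ℕ) (I : (CohB1.ProjSpace N F).IdealSheafData)
    (n : ℤ)

instance isProper_PN : IsProper (CohB1.ProjSpace N F ↘ Spec (CommRingCat.of F)) :=
  Groth.Agent.Dix.ProjProper.isProper_toSpec N F

/-- The twisted ideal sequence. -/
noncomputable abbrev tws : ShortComplex (CohB1.ProjSpace N F).Modules :=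
  (idealSeq I).map (tw (Twist.twistProjSpace N F n))

theorem tws_shortExact : (tws I n).ShortExact :=
  shortExact_tw (isInvertible_twist N F n) (idealSeq_shortExact I)

theorem iso₁ (hI : Nonempty (ClSub.idealMod I ≅ Twist.twistProjSpace N F (-(k : ℤ)))) :
    Nonempty ((tws I n).X₁ ≅ Twist.twistProjSpace N F (n - k)) := by
  obtain ⟨e⟩ := hI
  obtain ⟨e'⟩ := nonempty_tensor N F (-(k : ℤ)) n
  have h : -(k : ℤ) + n = n - k := by ring
  rw [h] at e'
  exact ⟨(tw (Twist.twistProjSpace N F n)).mapIso e ≪≫ e'⟩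

theorem iso₂ : Nonempty ((tws I n).X₂ ≅ Twist.twistProjSpace N F n) :=
  ⟨Ega2.Tens.lunit (Twist.twistProjSpace N F n)⟩

theorem isCoh_twist (m : ℤ) : Coh.IsCoh (Twist.twistProjSpace N F m) :=
  VarietyA.CurveFin.isCoh_of_isInvertible (isInvertible_twist N F m)

theorem isCoh_of_shortExact {X : Scheme.{u}} {S : ShortComplex X.Modules} (hS : S.ShortExact)
    (h1 : Coh.IsQCoh S.X₁) (h2 : Coh.IsCoh S.X₂) : Coh.IsCoh S.X₃ := by
  have := hS.epi_g
  have e : cokernel S.f ≅ S.X₃ :=
    IsColimit.coconePointUniqueUpToIso (cokernelIsCokernel S.f) hS.exact.gIsCokernel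
  exact isCoh_of_iso e (isCoh_cokernel S.f h1 h2)

include k in
theorem isCoh₃ (hI : Nonempty (ClSub.idealMod I ≅ Twist.twistProjSpace N F (-(k : ℤ)))) :
    Coh.IsCoh ((tws I n).X₃) := by
  obtain ⟨e1⟩ := iso₁ k I n hI
  obtain ⟨e2⟩ := iso₂ I n
  exact isCoh_of_shortExact (tws_shortExact I n) (isCoh_of_iso e1.symm (isCoh_twist _)).1
    (isCoh_of_iso e2.symm (isCoh_twist _))

theorem fin_of_isCoh {M : (CohB1.ProjSpace N F).Modules} (hM : Coh.IsCoh M) (i : ℕ) :
    Module.Finite F (Coh.HH (CohB1.ProjSpace N F) M i) :=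
  Groth.Agent.S0002.result F (CohB1.ProjSpace N F) M hM i

section Vanish

open Groth.Agent.Fdesc.LocGen Groth.Agent.Ega2.TensGen

variable {X : Scheme.{u}}

theorem vanishOn_of_tensor {M L : X.Modules} {W : X.Opens} (hL : PicF.IsInvertible L)
    (h : VanishOn (CohB1.tensorMod M L) W) : VanishOn M W := by
  intro V hV x
  refine res_ext_of_forall fun y hy => ?_
  obtain ⟨U, hU, e, hyU, he⟩ := exists_gen_nhd hL hy
  refine ⟨U, hU, hyU, ?_⟩
  rw [map_zero]
  exact tmul_gen_eq_zero he (h U (hU.trans hV) _)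

theorem vanishOn_of_genLocus {S : ShortComplex X.Modules} (hS : S.ShortExact)
    (e : Coh.structureModule X ≅ S.X₁) : VanishOn S.X₃ (CohB1.genLocus S.X₂ (e.hom ≫ S.f)) := by
  have := hS.epi_g
  intro V hV x
  refine res_ext_of_forall fun y hy => ?_
  obtain ⟨U, hU, hyU, t, ht⟩ := VarietyB.ExactLoc.exists_lift_of_epi S.g x hy
  refine ⟨U, hU, hyU, ?_⟩
  rw [map_zero]
  refine ht.symm.trans ?_
  have hgen : IsGen (sec (e.hom ≫ S.f) U) := (le_genLocus_iff _ U).mp (hU.trans hV)
  obtain ⟨a, ha⟩ := hgen.exists_eq t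
  have h2 : S.g.app U ((e.hom ≫ S.f).app U (ofFun a)) = 0 := by
    have h3 : (e.hom ≫ S.f) ≫ S.g = 0 := by rw [Category.assoc, S.zero, comp_zero]
    exact congr(($h3).app U (ofFun a))
  rw [ha]
  rw [app_ofFun] at h2
  exact h2

theorem isInvertible_of_iso {L L' : X.Modules} (e : L ≅ L') (h : PicF.IsInvertible L) :
    PicF.IsInvertible L' := fun x => by
  obtain ⟨U, hxU, ⟨e'⟩⟩ := h x
  exact ⟨U, hxU, ⟨(Scheme.Modules.restrictFunctor U.ι).mapIso e.symm ≪≫ e'⟩⟩

theorem notMem_support_of_vanishOn {M : X.Modules} {W : X.Opens} (h : VanishOn M W) {x : X}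
    (hx : x ∈ W) : x ∉ CohB1.support M := by
  intro hs
  apply hs
  refine subsingleton_of_forall_eq 0 fun s => ?_
  obtain ⟨U, hxU, hUW, t, rfl⟩ := VarietyB.ExactLoc.exists_germ_le M hx s
  rw [h U hUW t, map_zero]

end Vanish

/-- The section of `O(k)` defining the hypersurface is nonzero, so `O_X` vanishes on a nonempty open. -/
theorem exists_vanishOn (hI : Nonempty (ClSub.idealMod I ≅ Twist.twistProjSpace N F (-(k : ℤ)))) :
    ∃ W : (CohB1.ProjSpace N F).Opens, (W : Set (CohB1.ProjSpace N F)).Nonempty ∧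
      VanishOn (ClSub.quotMod I) W := by
  obtain ⟨e1⟩ := iso₁ k I k hI
  rw [sub_self] at e1
  obtain ⟨e0⟩ := nonempty_zero N F
  have hS := tws_shortExact I k
  have hL : PicF.IsInvertible (tws I k).X₂ := by
    obtain ⟨e2⟩ := iso₂ I k
    exact isInvertible_of_iso e2.symm (isInvertible_twist N F k)
  let e : Coh.structureModule (CohB1.ProjSpace N F) ≅ (tws I k).X₁ := e0 ≪≫ e1.symm
  have hm := hS.mono_f
  have hne : e.hom ≫ (tws I k).f ≠ 0 := by
    intro h
    have h1 : e.hom = 0 := zero_of_comp_mono _ h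
    have h2 : 𝟙 (Coh.structureModule (CohB1.ProjSpace N F)) = 0 := by
      rw [← e.hom_inv_id, h1, zero_comp]
    have h3 : (1 : Γ(CohB1.ProjSpace N F, ⊤)) = 0 := congr(($h2).app ⊤ (Fdesc.LocGen.one ⊤))
    exact one_ne_zero h3
  refine ⟨CohB1.genLocus (tws I k).X₂ (e.hom ≫ (tws I k).f),
    VarietyA.TwistExist.genLocus_nonempty hL _ hne, ?_⟩
  exact vanishOn_of_tensor (isInvertible_twist N F k) (vanishOn_of_genLocus hS e)

theorem withBot_le_of_lt_succ {r : ℕ} {x : WithBot ℕ∞} (h : x < ((r + 1 : ℕ) : WithBot ℕ∞)) :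
    x ≤ (r : WithBot ℕ∞) := by
  induction x using WithBot.recBotCoe with
  | bot => exact bot_le
  | coe x =>
    induction x using ENat.recTopCoe with
    | top => exact absurd h (by simp)
    | coe x =>
      have h1 : x < r + 1 := by exact_mod_cast h
      exact_mod_cast Nat.lt_succ_iff.mp h1

/-- Cohomology of the twists of `O_X` vanishes above `dim X = N - 1`. -/
theorem subsingleton₃ (d : ℕ) (hd : N = d + 1)
    (hI : Nonempty (ClSub.idealMod I ≅ Twist.twistProjSpace N F (-(k : ℤ)))) (p : ℕ) (hp : d < p) :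
    Subsingleton (Coh.HH (CohB1.ProjSpace N F) (tws I n).X₃ p) := by
  have hc := isCoh₃ k I n hI
  obtain ⟨W, ⟨x, hx⟩, hW⟩ := exists_vanishOn k I hI
  have hW' : VanishOn (tws I n).X₃ W := hW.tensorMod (isInvertible_twist N F n)
  have hcl : IsClosed (CohB1.support (tws I n).X₃) := Groth.Agent.S0020.result _ _ hc.2
  have hne : CohB1.support (tws I n).X₃ ≠ Set.univ := by
    intro h
    exact notMem_support_of_vanishOn hW' hx (h ▸ Set.mem_univ x)
  have huniv : topologicalKrullDim (Set.univ : Set (CohB1.ProjSpace N F)) <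
      ((d + 1 + 1 : ℕ) : WithBot ℕ∞) := by
    have h1 : topologicalKrullDim (Set.univ : Set (CohB1.ProjSpace N F)) ≤
        topologicalKrullDim (CohB1.ProjSpace N F) :=
      Topology.IsInducing.subtypeVal.topologicalKrullDim_le
    refine lt_of_le_of_lt (h1.trans (CohqA.ProjDim.topologicalKrullDim_le (k := F) (n := N))) ?_
    exact_mod_cast (by omega : N < d + 1 + 1)
  have hlt : topologicalKrullDim (CohB1.support (tws I n).X₃) < ((d + 1 : ℕ) : WithBot ℕ∞) :=
    Fga.DimLt.topologicalKrullDim_lt (A := Set.univ)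
      (irreducibleSpace_def (CohB1.ProjSpace N F) |>.mp inferInstance) hcl
      (Set.subset_univ _) hne huniv
  have := isNoetherian F N
  exact CohqB.SuppVanish.subsingleton_H_of_support (Y := ((CohB1.ProjSpace N F : Scheme.{u}) : TopCat.{u}))
    (CohB1.support (tws I n).X₃) hcl d (withBot_le_of_lt_succ hlt) (Coh.toAb (tws I n).X₃)
    (fun y hy => not_not.mp hy) p hp

section Final

variable (hI : Nonempty (ClSub.idealMod I ≅ Twist.twistProjSpace N F (-(k : ℤ))))

include hI in
theorem fin₁ (i : ℕ) : Module.Finite F (Coh.HH (CohB1.ProjSpace N F) (tws I n).X₁ i) := by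
  obtain ⟨e1⟩ := iso₁ k I n hI
  exact fin_of_isCoh (isCoh_of_iso e1.symm (isCoh_twist _)) i

theorem fin₂ (i : ℕ) : Module.Finite F (Coh.HH (CohB1.ProjSpace N F) (tws I n).X₂ i) := by
  obtain ⟨e2⟩ := iso₂ I n
  exact fin_of_isCoh (isCoh_of_iso e2.symm (isCoh_twist _)) i

include hI in
theorem fin₃ (i : ℕ) : Module.Finite F (Coh.HH (CohB1.ProjSpace N F) (tws I n).X₃ i) :=
  fin_of_isCoh (isCoh₃ k I n hI) i

include hI in
theorem h₁_eq (i : ℕ) : h F (tws I n).X₁ i = h F (Twist.twistProjSpace N F (n - k)) i := by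
  obtain ⟨e1⟩ := iso₁ k I n hI
  exact h_congr e1 i

theorem h₂_eq (i : ℕ) : h F (tws I n).X₂ i = h F (Twist.twistProjSpace N F n) i := by
  obtain ⟨e2⟩ := iso₂ I n
  exact h_congr e2 i

/-- `H^i` of the twists vanishes in intermediate degrees. -/
theorem h_mid (m : ℤ) (i : ℕ) (h0 : i ≠ 0) (h1 : i ≠ N) :
    Subsingleton (Coh.HH (CohB1.ProjSpace N F) (Twist.twistProjSpace N F m) i) :=
  Groth.Agent.S0844.result F N m i (fun h => h0 h.1) (fun h => h1 h.1)

include hI in
theorem sub₁ (i : ℕ) (h0 : i ≠ 0) (h1 : i ≠ N) :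
    Subsingleton (Coh.HH (CohB1.ProjSpace N F) (tws I n).X₁ i) := by
  obtain ⟨e1⟩ := iso₁ k I n hI
  have := h_mid (F := F) (N := N) (n - k) i h0 h1
  exact (HHequiv F e1 i).toEquiv.subsingleton

theorem sub₂ (i : ℕ) (h0 : i ≠ 0) (h1 : i ≠ N) :
    Subsingleton (Coh.HH (CohB1.ProjSpace N F) (tws I n).X₂ i) := by
  obtain ⟨e2⟩ := iso₂ I n
  have := h_mid (F := F) (N := N) n i h0 h1
  exact (HHequiv F e2 i).toEquiv.subsingleton

include hI in
theorem sub₃ (d : ℕ) (hd : N = d + 1) (p : ℕ) (h0 : p ≠ 0) (h1 : p ≠ d) :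
    Subsingleton (Coh.HH (CohB1.ProjSpace N F) (tws I n).X₃ p) := by
  rcases Nat.lt_or_ge d p with h2 | h2
  · exact subsingleton₃ k I n d hd hI p h2
  · have s2 := sub₂ I n p h0 (by omega)
    have s1 := sub₁ k I n hI (p + 1) (by omega) (by omega)
    refine subsingleton_of_forall_eq 0 fun x => ?_
    obtain ⟨y, rfl⟩ := CohqB.HSeqMod.exact₃ (tws_shortExact I n) p x (Subsingleton.elim _ _)
    rw [Subsingleton.elim y 0, map_zero]

include hI in
/-- The dimensions in terms of the ranks. -/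
theorem h₃_formula (i : ℕ) : h F (tws I n).X₃ i =
    (h F (Twist.twistProjSpace N F n) i - rk F (tws I n).f i) +
      (h F (Twist.twistProjSpace N F (n - k)) (i + 1) - rk F (tws I n).f (i + 1)) := by
  rw [h₃_eq (tws I n) (tws_shortExact I n) i (fin₂ I n i) (fin₃ k I n hI i)
    (fin₁ k I n hI (i + 1)), h₂_eq, h₁_eq k I n hI]

include hI in
theorem rk_zero_eq : rk F (tws I n).f 0 = h F (Twist.twistProjSpace N F (n - k)) 0 := by
  rw [rk_zero (tws I n) (tws_shortExact I n), h₁_eq k I n hI]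

include hI in
theorem rk_top_eq (d : ℕ) (hd : N = d + 1) : rk F (tws I n).f (d + 1) =
    h F (Twist.twistProjSpace N F n) (d + 1) := by
  rw [rk_of_subsingleton (tws I n) (tws_shortExact I n) (d + 1)
    (subsingleton₃ k I n d hd hI (d + 1) (Nat.lt_succ_self d)), h₂_eq]

end Final

end Main

end K57.HypSeq
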