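import Groth.Agent.VBPn.K699.GMat
import Groth.Agent.CAlgX.K581.HomDim
import Groth.Agent.Lefpen.H717.ProjIrr
import Groth.Prelude.Def_KLin

/-!
# Matrices of forms of mixed degrees as morphisms between sums of twists on `P^n_k`

For `a : ι → ℤ`, `b : κ → ℤ` with `a i ≤ b j` for all `i`, `j`:
* `OO a = ⨁ O(a i)`, `val`: the vector of values of a section at a point;
* `Mt a b`: the matrices of forms, entry `(i, j)` of degree `b j - a i`;
* `mor hab F : OO a ⟶ OO b`; `val_mor`, `mor_comp`;
* `morEquiv hab : Mt a b ≃ₗ[k] (OO a ⟶ OO b)`.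
-/

set_option autoImplicit false
set_option backward.isDefEq.respectTransparency false

universe u

open CategoryTheory CategoryTheory.Limits AlgebraicGeometry Opposite TopologicalSpace

namespace K57.Mat

open Groth.Agent Groth.Agent.Divis.ProjPic Groth.Agent.VarietyB.TwistMul K699.TwHom Groth.Agent.Sga67.Sec

attribute [local instance] Abelian.hasFiniteBiproducts

variable {n : ℕ} {k : Type u} [Field k] {ι κ ν : Type} [Fintype ι] [Fintype κ] [Fintype ν]

variable (n k) in
/-- `O(m)`. -/
noncomputable abbrev T (m : ℤ) : (CohB1.ProjSpace n k).Modules := Twist.twistProjSpace n k m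

variable (n k) in
/-- `⨁ O(a i)`. -/
noncomputable abbrev OO (a : ι → ℤ) : (CohB1.ProjSpace n k).Modules := ⨁ fun i => T n k (a i)

variable {a : ι → ℤ} {b : κ → ℤ} {c : ν → ℤ}

/-- The projections. -/
noncomputable abbrev pr (a : ι → ℤ) (i : ι) : OO n k a ⟶ T n k (a i) := biproduct.π (fun i => T n k (a i)) i

/-- The inclusions. -/
noncomputable abbrev inc (a : ι → ℤ) (i : ι) : T n k (a i) ⟶ OO n k a := biproduct.ι (fun i => T n k (a i)) i

/-- The vector of values of a section of `⨁ O(a i)` at a point. -/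
noncomputable def val {U : (CohB1.ProjSpace n k).Opens} (s : Sec (OO n k a) U)
    (x : ProjectiveSpectrum (gr n k)) (hx : x ∈ U) (i : ι) : Twist.Loc (gr n k) x :=
  evT (appS (pr a i) U s) x hx

theorem val_ext {U : (CohB1.ProjSpace n k).Opens} {s t : Sec (OO n k a) U}
    (h : ∀ (x : ProjectiveSpectrum (gr n k)) (hx : x ∈ U) (i : ι), val s x hx i = val t x hx i) : s = t :=
  K699.GMat.sec_ext _ U s t fun i => evT_ext fun x hx => h x hx i

theorem val_res {U V : (CohB1.ProjSpace n k).Opens} (h : V ≤ U) (s : Sec (OO n k a) U)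
    (x : ProjectiveSpectrum (gr n k)) (hx : x ∈ V) : val (res _ h s) x hx = val s x (h hx) := by
  funext i
  have h1 : appS (pr a i) V (res _ h s) = res _ h (appS (pr a i) U s) := appS_res _ _ _
  exact (congrArg (fun t => evT t x hx) h1).trans (evT_res h _ x hx)

theorem val_add {U : (CohB1.ProjSpace n k).Opens} (s t : Sec (OO n k a) U)
    (x : ProjectiveSpectrum (gr n k)) (hx : x ∈ U) : val (s + t) x hx = val s x hx + val t x hx := by
  funext i
  exact congrArg (fun t => evT t x hx) (map_add (appS (pr a i) U) s t)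

theorem val_zero {U : (CohB1.ProjSpace n k).Opens}
    (x : ProjectiveSpectrum (gr n k)) (hx : x ∈ U) : val (0 : Sec (OO n k a) U) x hx = 0 := by
  funext i
  exact congrArg (fun t => evT t x hx) (map_zero (appS (pr a i) U))

theorem val_smul {U : (CohB1.ProjSpace n k).Opens} (r : Γ(CohB1.ProjSpace n k, U)) (s : Sec (OO n k a) U)
    (x : ProjectiveSpectrum (gr n k)) (hx : x ∈ U) : val (r • s) x hx = ev r x hx • val s x hx := by
  funext i
  have h1 : appS (pr a i) U (r • s) = r • appS (pr a i) U s := map_smul _ _ _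
  exact (congrArg (fun t => evT t x hx) h1).trans (evT_smul r _ x hx)

/-- The section with given components. -/
theorem exists_sec {U : (CohB1.ProjSpace n k).Opens} (s : ∀ i : ι, Sec (T n k (a i)) U) :
    ∃ t : Sec (OO n k a) U, ∀ x hx i, val t x hx i = evT (s i) x hx := by
  classical
  refine ⟨∑ i, appS (inc a i) U (s i), fun x hx i => ?_⟩
  have h1 : appS (pr a i) U (∑ j, appS (inc a j) U (s j)) = s i := by
    rw [map_sum]
    rw [Finset.sum_eq_single i]
    · rw [← appS_comp, biproduct.ι_π_self]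
      rfl
    · intro j _ hj
      rw [← appS_comp, biproduct.ι_π_ne _ hj]
      exact appS_zero _ _
    · intro h
      exact absurd (Finset.mem_univ i) h
  exact congrArg (fun t => evT t x hx) h1

variable (n k) in
/-- The matrices of forms, entry `(i, j)` of degree `b j - a i`. -/
abbrev Mt (a : ι → ℤ) (b : κ → ℤ) : Type u := ∀ (i : ι) (j : κ), gr n k (b j - a i).toNat

theorem deg_eq {x y : ℤ} (h : x ≤ y) : x + ((y - x).toNat : ℤ) = y := by omega

/-- The morphism `⨁ O(a i) ⟶ ⨁ O(b j)` of a matrix of forms. -/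
noncomputable def mor (hab : ∀ i j, a i ≤ b j) (F : Mt n k a b) : OO n k a ⟶ OO n k b :=
  biproduct.matrix fun i j => mulMap (F i j) (deg_eq (hab i j))

theorem evT_zero {m : ℤ} {U : (CohB1.ProjSpace n k).Opens} (x : ProjectiveSpectrum (gr n k)) (hx : x ∈ U) :
    evT (0 : Sec (T n k m) U) x hx = 0 := rfl

theorem val_mor (hab : ∀ i j, a i ≤ b j) (F : Mt n k a b) {U : (CohB1.ProjSpace n k).Opens} (s : Sec (OO n k a) U)
    (x : ProjectiveSpectrum (gr n k)) (hx : x ∈ U) (j : κ) :
    val (appS (mor hab F) U s) x hx j = ∑ i, al x (F i j).1 * val s x hx i := by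
  have h1 : appS (pr b j) U (appS (mor hab F) U s) =
      ∑ i, appS (mulMap (F i j) (deg_eq (hab i j))) U (appS (pr a i) U s) := by
    conv_lhs => rw [← K699.GMat.sec_total (fun i : ι => T n k (a i)) U s]
    rw [map_sum, map_sum]
    refine Finset.sum_congr rfl fun i _ => ?_
    rw [← appS_comp, ← appS_comp]
    exact congrArg (fun φ => appS φ U _) (by rw [mor, biproduct.matrix_π, biproduct.ι_desc])
  refine (congrArg (fun t => evT t x hx) h1).trans ?_
  rw [K699.GMat.evT_sum]
  exact Finset.sum_congr rfl fun i _ => evT_mulMap _ _ _ _ _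

theorem mor_comp (hab : ∀ i j, a i ≤ b j) (hbc : ∀ i j, b i ≤ c j) (hac : ∀ i j, a i ≤ c j)
    (F : Mt n k a b) (G : Mt n k b c) (H : Mt n k a c)
    (h : ∀ i l, (H i l).1 = ∑ j, (F i j).1 * (G j l).1) : mor hab F ≫ mor hbc G = mor hac H := by
  refine hom_ext fun U s => val_ext fun x hx l => ?_
  have h1 : appS (mor hab F ≫ mor hbc G) U s = appS (mor hbc G) U (appS (mor hab F) U s) := rfl
  rw [h1, val_mor, val_mor]
  simp only [val_mor, h, map_sum, map_mul, Finset.sum_mul, Finset.mul_sum]
  rw [Finset.sum_comm]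
  exact Finset.sum_congr rfl fun i _ => Finset.sum_congr rfl fun j _ => by ring

theorem mor_add (hab : ∀ i j, a i ≤ b j) (F G : Mt n k a b) : mor hab (F + G) = mor hab F + mor hab G := by
  refine hom_ext fun U s => val_ext fun x hx l => ?_
  rw [appS_add, val_add, Pi.add_apply, val_mor, val_mor, val_mor, ← Finset.sum_add_distrib]
  refine Finset.sum_congr rfl fun i _ => ?_
  rw [← add_mul, ← map_add]
  rfl

/-- The value of a scalar. -/
theorem ev_scalar (r : k) (U : (CohB1.ProjSpace n k).Opens) (x : ProjectiveSpectrum (gr n k)) (hx : x ∈ U) :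
    ev ((CohB1.ProjSpace n k).presheaf.map (homOfLE (le_top : U ≤ ⊤)).op
      (Coh.toGlobal (CohB1.ProjSpace n k ↘ Spec (CommRingCat.of k)) r)) x hx = algebraMap k _ r :=
  Groth.Agent.FormalB.ProjScalar.toGlobal_val n k r (op U) x hx

theorem mor_smul (hab : ∀ i j, a i ≤ b j) (r : k) (F : Mt n k a b) :
    mor hab (r • F) = r • mor hab F := by
  refine hom_ext fun U s => ?_
  have h1 : appS (r • mor hab F) U s =
      (CohB1.ProjSpace n k).presheaf.map (homOfLE (le_top : U ≤ ⊤)).op
      (Coh.toGlobal (CohB1.ProjSpace n k ↘ Spec (CommRingCat.of k)) r) • appS (mor hab F) U s :=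
    KLin.smul_app_apply r _ U s
  refine Eq.trans ?_ h1.symm
  refine val_ext fun x hx l => ?_
  rw [val_smul, Pi.smul_apply, val_mor, val_mor, ev_scalar, smul_eq_mul, Finset.mul_sum]
  refine Finset.sum_congr rfl fun i _ => ?_
  have h2 : al x ((r • F) i l).1 = algebraMap k _ r * al x (F i l).1 := by
    change al x (r • (F i l).1) = _
    rw [Algebra.smul_def, map_mul]
    rfl
  rw [h2, mul_assoc]

theorem al_injective (x : ProjectiveSpectrum (gr n k)) : Function.Injective (al x) :=
  IsLocalization.injective (M := x.asHomogeneousIdeal.toIdeal.primeCompl) _ (fun s hs =>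
    mem_nonZeroDivisors_of_ne_zero fun h => by
      subst h
      exact hs x.asHomogeneousIdeal.toIdeal.zero_mem)

/-- Near every point, `O(m)` has a section with invertible value. -/
theorem exists_unit (m : ℤ) (x : ProjectiveSpectrum (gr n k)) :
    ∃ (U : (CohB1.ProjSpace n k).Opens) (hx : x ∈ U) (s : Γ(T n k m, U)), IsUnit (evT s x hx) := by
  obtain ⟨f, W, hxW, hW⟩ := Ega3B.ProjFrame.coveredByOne n k x
  let t : Γ(Twist.twist (gr n k) m, W) := Ega2.TwistInv.powSec f m W hW
  exact ⟨W, hxW, t, Ega2.TwistBasic.isUnit_mk x _ _ (Ega2.TwistInv.powOne_notMem (hW x hxW) _)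
    (Ega2.TwistInv.powOne_notMem (hW x hxW) _)⟩

instance : Nonempty (ProjectiveSpectrum (gr n k)) :=
  inferInstanceAs (Nonempty (CohB1.ProjSpace n k))

theorem mulMap_injective {m m' : ℤ} {d : ℕ} (h : m + d = m') {f g : gr n k d}
    (hfg : (mulMap f h : T n k m ⟶ T n k m') = mulMap g h) : f = g := by
  obtain ⟨x⟩ : Nonempty (ProjectiveSpectrum (gr n k)) := inferInstance
  obtain ⟨U, hx, s, hs⟩ := exists_unit m x
  have h1 : evT (appS (mulMap f h : T n k m ⟶ T n k m') U s) x hx = al x f.1 * evT s x hx := evT_mulMap f h s x hx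
  have h2 : evT (appS (mulMap g h : T n k m ⟶ T n k m') U s) x hx = al x g.1 * evT s x hx := evT_mulMap g h s x hx
  rw [hfg, h2] at h1
  exact Subtype.ext (al_injective x (hs.mul_left_injective h1)).symm

theorem mor_injective (hab : ∀ i j, a i ≤ b j) : Function.Injective (mor (n := n) (k := k) hab) := by
  intro F G h
  funext i j
  have h1 := congrArg (fun φ => inc a i ≫ φ ≫ pr b j) h
  simp only [mor, biproduct.matrix_π, biproduct.ι_desc] at h1
  exact mulMap_injective _ h1

theorem mor_surjective (hab : ∀ i j, a i ≤ b j) : Function.Surjective (mor (n := n) (k := k) hab) := by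
  intro φ
  choose F hF using fun (i : ι) (j : κ) => exists_mulMap (deg_eq (hab i j)) (inc a i ≫ φ ≫ pr b j)
  refine ⟨F, biproduct.hom_ext _ _ fun j => biproduct.hom_ext' _ _ fun i => ?_⟩
  rw [mor, biproduct.matrix_π, biproduct.ι_desc]
  exact (hF i j).symm

/-- `mor` as a linear map. -/
noncomputable def morLin (hab : ∀ i j, a i ≤ b j) : Mt n k a b →ₗ[k] (OO n k a ⟶ OO n k b) where
  toFun := mor hab
  map_add' F G := mor_add hab F G
  map_smul' r F := mor_smul hab r F

/-- Morphisms between sums of twists are matrices of forms. -/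
noncomputable def morEquiv (hab : ∀ i j, a i ≤ b j) : Mt n k a b ≃ₗ[k] (OO n k a ⟶ OO n k b) :=
  LinearEquiv.ofBijective (morLin hab) ⟨mor_injective hab, mor_surjective hab⟩

@[simp] theorem morEquiv_apply (hab : ∀ i j, a i ≤ b j) (F : Mt n k a b) : morEquiv hab F = mor hab F := rfl

instance finite_gr (d : ℕ) : FiniteDimensional k (gr n k d) := K581.HomDim.finite_homogeneous k n d

instance finite_mt : FiniteDimensional k (Mt n k a b) := inferInstance

end K57.Mat
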