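import Groth.Agent.Coherent.K57.Mat
import Groth.Agent.VBPn.K697.HypSeq
import Groth.Agent.FormalB.ModPowAff2
import Groth.Agent.FormalB.FormalFG
import Groth.Agent.Sga67.CohBasic
import Groth.Agent.Sga67.IdealTorsion
import Groth.Agent.VarietyA.CurveFin

/-!
# Matrices of forms and the sheaf maps they define

* `mono_mor`: a matrix which is injective over all the localizations of the polynomial ring defines a monomorphism;
* `exists_fracT`: sections of `O(m)` over `D_+(X_i)` are fractions;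
* `epi_mor`: a matrix whose image contains `X_i ^ N` times every basis vector defines an epimorphism;
* `exact_mor`: exactness over the polynomial ring gives exactness of the sheaf maps.
-/

set_option autoImplicit false
set_option backward.isDefEq.respectTransparency false

universe u

open CategoryTheory CategoryTheory.Limits AlgebraicGeometry Opposite TopologicalSpace

namespace K57.MatSheaf

open Groth.Agent Groth.Agent.Divis.ProjPic Groth.Agent.VarietyB.TwistMul K699.TwHom Groth.Agent.Sga67.Sec K57.Mat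

attribute [local instance] Abelian.hasFiniteBiproducts

variable {n : ℕ} {k : Type u} [Field k] {ι κ ν : Type} [Fintype ι] [Fintype κ] [Fintype ν]
  {a : ι → ℤ} {b : κ → ℤ} {c : ν → ℤ}

instance isDomain_loc (x : ProjectiveSpectrum (gr n k)) : IsDomain (Twist.Loc (gr n k) x) :=
  IsLocalization.isDomain_localization x.asHomogeneousIdeal.toIdeal.primeCompl_le_nonZeroDivisors

theorem mono_mor (hab : ∀ i j, a i ≤ b j) (F : Mt n k a b)
    (h : ∀ (x : ProjectiveSpectrum (gr n k)) (v : ι → Twist.Loc (gr n k) x),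
      (∀ j, ∑ i, al x (F i j).1 * v i = 0) → v = 0) : Mono (mor hab F) := by
  refine K697.HypSeq.mono_of_injective _ fun U => ?_
  intro s t hst
  have h1 : appS (mor hab F) U (s - t : Sec (OO n k a) U) = 0 := by
    rw [map_sub]
    exact sub_eq_zero.mpr hst
  have h2 : (s - t : Sec (OO n k a) U) = 0 := by
    refine val_ext fun x hx i => ?_
    rw [val_zero]
    refine congrFun (h x _ fun j => ?_) i
    rw [← val_mor hab F, h1, val_zero]
    rfl
  exact sub_eq_zero.mp h2

/-- The variables. -/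
noncomputable def Xv (i : Fin (n + 1)) : gr n k 1 := ⟨MvPolynomial.X i, MvPolynomial.isHomogeneous_X k i⟩

variable (n k) in
/-- The standard opens. -/
noncomputable def D (i : Fin (n + 1)) : (CohB1.ProjSpace n k).Opens :=
  Proj.basicOpen (gr n k) (MvPolynomial.X i)

theorem isAffineOpen_D (i : Fin (n + 1)) : IsAffineOpen (D n k i) :=
  Proj.isAffineOpen_basicOpen (CohB1.polyGrading n k) _ (MvPolynomial.isHomogeneous_X _ _) one_pos

theorem notMem_of_mem_D {i : Fin (n + 1)} {x : ProjectiveSpectrum (gr n k)} (hx : x ∈ D n k i) :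
    (MvPolynomial.X i : MvPolynomial (Fin (n + 1)) k) ∉ x.asHomogeneousIdeal := hx

theorem exists_mem_D (x : ProjectiveSpectrum (gr n k)) : ∃ i, x ∈ D n k i :=
  Sga67.PnGlobal.exists_X_notMem k x

theorem al_mul_mk (x : ProjectiveSpectrum (gr n k)) (f g : MvPolynomial (Fin (n + 1)) k)
    (hg : g ∉ x.asHomogeneousIdeal) :
    al x g * (Localization.mk f ⟨g, hg⟩ : Twist.Loc (gr n k) x) = al x f := by
  rw [← Localization.mk_one_eq_algebraMap, ← Localization.mk_one_eq_algebraMap, Localization.mk_mul, one_mul,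
    Localization.mk_eq_mk_iff, Localization.r_iff_exists]
  exact ⟨1, by simp [mul_comm]⟩

/-- Sections of `O(m)` over `D_+(X_i)` are fractions. -/
theorem exists_fracT (m : ℤ) (i : Fin (n + 1)) (s : Γ(T n k m, D n k i)) :
    ∃ N₀ : ℕ, ∀ N : ℕ, N₀ ≤ N → 0 ≤ (N : ℤ) + m ∧ ∃ f : gr n k ((N : ℤ) + m).toNat,
      ∀ (x : ProjectiveSpectrum (gr n k)) (hx : x ∈ D n k i),
        al x (MvPolynomial.X i ^ N) * evT s x hx = al x f.1 := by
  obtain ⟨r, hr⟩ := (Ega2.TwistInv.isGen_powSec (𝒜 := gr n k) (Xv i) m (D n k i) (fun x hx => hx)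
    (D n k i) le_rfl).2 s
  obtain ⟨M, f, hf, hfr⟩ := exists_frac (𝒜 := gr n k) (MvPolynomial.isHomogeneous_X k i) one_pos rfl r
  refine ⟨M + (-m).toNat, fun N hN => ⟨by omega, ?_⟩⟩
  refine ⟨⟨f * MvPolynomial.X i ^ (m.toNat + (N - (M + (-m).toNat))), ?_⟩, fun x hx => ?_⟩
  · have h1 := SetLike.mul_mem_graded hf
      (SetLike.pow_mem_graded (m.toNat + (N - (M + (-m).toNat))) (MvPolynomial.isHomogeneous_X k i))
    have h2 : M * 1 + (m.toNat + (N - (M + (-m).toNat))) • 1 = ((N : ℤ) + m).toNat := by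
      rw [smul_eq_mul]
      omega
    rw [h2] at h1
    exact h1
  · have hX : (MvPolynomial.X i : MvPolynomial (Fin (n + 1)) k) ∉ x.asHomogeneousIdeal := hx
    have hM : (MvPolynomial.X i ^ M : MvPolynomial (Fin (n + 1)) k) ∉ x.asHomogeneousIdeal :=
      fun h => hX (x.isPrime.mem_of_pow_mem M h)
    have hm : (MvPolynomial.X i ^ (-m).toNat : MvPolynomial (Fin (n + 1)) k) ∉ x.asHomogeneousIdeal :=
      fun h => hX (x.isPrime.mem_of_pow_mem _ h)
    have h1 : evT s x hx = ev r x hx * evT (Ega2.TwistInv.powSec (𝒜 := gr n k) (Xv i) m (D n k i) (fun x hx => hx)) x hx := by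
      rw [← hr]
      exact evT_smul r _ x hx
    have h2 : evT (Ega2.TwistInv.powSec (𝒜 := gr n k) (Xv i) m (D n k i) (fun x hx => hx)) x hx =
      Localization.mk (MvPolynomial.X i ^ m.toNat) ⟨MvPolynomial.X i ^ (-m).toNat, hm⟩ := rfl
    have e : N = M + (-m).toNat + (N - (M + (-m).toNat)) := by omega
    rw [h1, h2, hfr x hx hM]
    have h3 := al_mul_mk x f _ hM
    have h4 := al_mul_mk x (MvPolynomial.X i ^ m.toNat) _ hm
    have h5 : al x (MvPolynomial.X i ^ N) = al x (MvPolynomial.X i ^ M) * al x (MvPolynomial.X i ^ (-m).toNat) *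
        al x (MvPolynomial.X i ^ (N - (M + (-m).toNat))) := by
      conv_lhs => rw [e]
      rw [pow_add, pow_add, map_mul, map_mul]
    change _ = al x (f * MvPolynomial.X i ^ (m.toNat + (N - (M + (-m).toNat))))
    rw [h5, pow_add, map_mul, map_mul, ← h3, ← h4]
    ring

/-- The fraction `f / X_i ^ N` as a section of `O(m)`. -/
theorem exists_secT (m : ℤ) (i : Fin (n + 1)) (N : ℕ) (hN : 0 ≤ (N : ℤ) + m) (f : gr n k ((N : ℤ) + m).toNat) :
    ∃ s : Γ(T n k m, D n k i), ∀ (x : ProjectiveSpectrum (gr n k)) (hx : x ∈ D n k i),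
        al x (MvPolynomial.X i ^ N) * evT s x hx = al x f.1 := by
  refine ⟨frac (𝒜 := gr n k) (s := MvPolynomial.X i ^ N) (j := N) f.2
    (by simpa using (MvPolynomial.isHomogeneous_X k i).pow N) (by omega) (D n k i)
    (fun x hx h => hx (x.isPrime.mem_of_pow_mem _ h)), fun x hx => ?_⟩
  rw [evT_frac]
  exact al_mul_mk x _ _ _

theorem exists_fracs (i : Fin (n + 1)) (t : Sec (OO n k b) (D n k i)) :
    ∃ N₀ : ℕ, ∀ N : ℕ, N₀ ≤ N → (∀ j, 0 ≤ (N : ℤ) + b j) ∧ ∃ f : ∀ j, gr n k ((N : ℤ) + b j).toNat,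
      ∀ (x : ProjectiveSpectrum (gr n k)) (hx : x ∈ D n k i) (j : κ),
        al x (MvPolynomial.X i ^ N) * val t x hx j = al x (f j).1 := by
  choose N₀ h using fun j => exists_fracT (b j) i (appS (pr b j) (D n k i) t)
  refine ⟨Finset.univ.sup N₀, fun N hN => ?_⟩
  have hN' : ∀ j, N₀ j ≤ N := fun j => le_trans (Finset.le_sup (Finset.mem_univ j)) hN
  choose f hf using fun j => (h j N (hN' j)).2
  exact ⟨fun j => (h j N (hN' j)).1, f, fun x hx j => hf j x hx⟩

theorem exists_secs (i : Fin (n + 1)) (N : ℕ) (hN : ∀ j, 0 ≤ (N : ℤ) + a j)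
    (f : ∀ j, gr n k ((N : ℤ) + a j).toNat) :
    ∃ s : Sec (OO n k a) (D n k i), ∀ (x : ProjectiveSpectrum (gr n k)) (hx : x ∈ D n k i) (j : ι),
        al x (MvPolynomial.X i ^ N) * val s x hx j = al x (f j).1 := by
  choose s hs using fun j => exists_secT (a j) i N (hN j) (f j)
  obtain ⟨t, ht⟩ := exists_sec (U := D n k i) (a := a) s
  exact ⟨t, fun x hx j => by rw [ht]; exact hs j x hx⟩

theorem isCoh_OO : Coh.IsCoh (OO n k a) :=
  FormalB.FormalFG.isCoh_biproduct _ fun i =>
    Groth.Agent.VarietyA.CurveFin.isCoh_of_isInvertible (Ega3B.ProjFrame.isInvertible_twistProjSpace n k (a i))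

/-- Solving a linear system of forms gives a section. -/
theorem exists_preimage (hab : ∀ i j, a i ≤ b j) (F : Mt n k a b) (i : Fin (n + 1)) (t : Sec (OO n k b) (D n k i))
    (h : ∃ N₀ : ℕ, ∀ N : ℕ, N₀ ≤ N → ∀ f : κ → MvPolynomial (Fin (n + 1)) k,
      (∀ (j : κ) (x : ProjectiveSpectrum (gr n k)) (hx : x ∈ D n k i),
        al x (MvPolynomial.X i ^ N) * val t x hx j = al x (f j)) →
      ∃ (M : ℕ) (w : ι → MvPolynomial (Fin (n + 1)) k), ∀ j, ∑ l, w l * (F l j).1 = MvPolynomial.X i ^ M * f j) :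
    ∃ s : Sec (OO n k a) (D n k i), appS (mor hab F) (D n k i) s = t := by
  obtain ⟨N₀, h⟩ := h
  obtain ⟨N₁, h1⟩ := exists_fracs i t
  obtain ⟨N, hN0, hN1, hNa⟩ : ∃ N : ℕ, N₀ ≤ N ∧ N₁ ≤ N ∧ ∀ l, 0 ≤ (N : ℤ) + a l := by
    refine ⟨max N₀ (max N₁ (Finset.univ.sup fun l => (-(a l)).toNat)), by omega, by omega, fun l => ?_⟩
    have : (-(a l)).toNat ≤ Finset.univ.sup fun l => (-(a l)).toNat :=
      Finset.le_sup (f := fun l => (-(a l)).toNat) (Finset.mem_univ l)
    omega
  obtain ⟨hN, f, hf⟩ := h1 N hN1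
  obtain ⟨M, w, hw⟩ := h N hN0 (fun j => (f j).1) (fun j x hx => hf x hx j)
  -- the homogeneous components
  have hw' : ∀ j, ∑ l, (MvPolynomial.homogeneousComponent (((N + M : ℕ) : ℤ) + a l).toNat (w l)) * (F l j).1 =
      MvPolynomial.X i ^ M * (f j).1 := by
    intro j
    have h2 := congrArg (MvPolynomial.homogeneousComponent (((N + M : ℕ) : ℤ) + b j).toNat) (hw j)
    rw [map_sum] at h2
    have h3 : ∀ l, MvPolynomial.homogeneousComponent (((N + M : ℕ) : ℤ) + b j).toNat (w l * (F l j).1) =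
        MvPolynomial.homogeneousComponent (((N + M : ℕ) : ℤ) + a l).toNat (w l) * (F l j).1 := by
      intro l
      have e : (((N + M : ℕ) : ℤ) + b j).toNat = (b j - a l).toNat + (((N + M : ℕ) : ℤ) + a l).toNat := by
        have := hNa l
        have := hab l j
        push_cast
        omega
      rw [mul_comm, e, K581.HomDim.homogeneousComponent_mul _ _ (F l j).2, mul_comm]
    rw [Finset.sum_congr rfl fun l _ => h3 l] at h2
    have h4 : MvPolynomial.X i ^ M * (f j).1 ∈ MvPolynomial.homogeneousSubmodule (Fin (n + 1)) k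
        (((N + M : ℕ) : ℤ) + b j).toNat := by
      have h5 : ((MvPolynomial.X i ^ M * (f j).1 : MvPolynomial (Fin (n + 1)) k)).IsHomogeneous
        (1 * M + ((N : ℤ) + b j).toNat) := ((MvPolynomial.isHomogeneous_X k i).pow M).mul (f j).2
      have e : 1 * M + ((N : ℤ) + b j).toNat = (((N + M : ℕ) : ℤ) + b j).toNat := by
        have := hN j
        push_cast
        omega
      rw [e] at h5
      exact h5
    rw [MvPolynomial.homogeneousComponent_of_mem h4, if_pos rfl] at h2
    exact h2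
  obtain ⟨s, hs⟩ := exists_secs (a := a) i (N + M) (fun l => by have := hNa l; push_cast; omega)
    (fun l => ⟨MvPolynomial.homogeneousComponent (((N + M : ℕ) : ℤ) + a l).toNat (w l),
      MvPolynomial.homogeneousComponent_mem _ _⟩)
  refine ⟨s, val_ext fun x hx j => ?_⟩
  rw [val_mor]
  have hX : al x (MvPolynomial.X i ^ (N + M)) ≠ 0 := by
    intro h0
    have h2 : (MvPolynomial.X i ^ (N + M) : MvPolynomial (Fin (n + 1)) k) = 0 :=
      al_injective x (h0.trans (map_zero _).symm)
    exact pow_ne_zero _ (MvPolynomial.X_ne_zero i) h2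
  apply mul_left_cancel₀ hX
  rw [Finset.mul_sum]
  have h3 : ∀ l, al x (MvPolynomial.X i ^ (N + M)) * (al x (F l j).1 * val s x hx l) =
      al x (MvPolynomial.homogeneousComponent (((N + M : ℕ) : ℤ) + a l).toNat (w l) * (F l j).1) := by
    intro l
    rw [map_mul, ← hs x hx l]
    ring
  rw [Finset.sum_congr rfl fun l _ => h3 l, ← map_sum, hw' j, map_mul, ← hf x hx j, pow_add, map_mul]
  ring

theorem exists_mem_D' (i : Fin (n + 1)) : ∃ x : ProjectiveSpectrum (gr n k), x ∈ D n k i :=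
  have h : ∃ (f : MvPolynomial (Fin (n + 1)) k) (m : ℕ), f ∈ gr n k m ∧ 0 < m ∧ f ≠ 0 :=
    ⟨MvPolynomial.X i, 1, MvPolynomial.isHomogeneous_X k i, one_pos, MvPolynomial.X_ne_zero i⟩
  ⟨genPt (gr n k) h, notMem_genPt h (MvPolynomial.X_ne_zero i)⟩

/-- A matrix whose row space contains powers of the variables times the basis vectors defines an epimorphism. -/
theorem epi_mor [DecidableEq κ] (hab : ∀ i j, a i ≤ b j) (F : Mt n k a b)
    (h : ∀ i : Fin (n + 1), ∃ M : ℕ, ∀ l : κ, ∃ w : ι → MvPolynomial (Fin (n + 1)) k, ∀ j,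
      ∑ m, w m * (F m j).1 = MvPolynomial.X i ^ M * Pi.single (M := fun _ => MvPolynomial (Fin (n + 1)) k) l 1 j) :
    Epi (mor hab F) := by
  refine FormalB.ModPowAff2.epi_of_affine_cover isCoh_OO.1 _ fun x => ?_
  obtain ⟨i, hi⟩ := exists_mem_D x
  refine ⟨D n k i, hi, isAffineOpen_D i, fun t => ?_⟩
  obtain ⟨M, hM⟩ := h i
  choose w hw using hM
  obtain ⟨s, hs⟩ := exists_preimage hab F i t ⟨0, fun N _ f _ => ⟨M, fun m => ∑ l, f l * w l m, fun j => by
    simp only [Finset.sum_mul]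
    rw [Finset.sum_comm]
    have h1 : ∀ l, ∑ m, f l * w l m * (F m j).1 =
        f l * (MvPolynomial.X i ^ M * Pi.single (M := fun _ => MvPolynomial (Fin (n + 1)) k) l 1 j) := by
      intro l
      rw [← hw l j, Finset.mul_sum]
      exact Finset.sum_congr rfl fun m _ => mul_assoc _ _ _
    rw [Finset.sum_congr rfl fun l _ => h1 l, Finset.sum_eq_single j]
    · rw [Pi.single_eq_same]
      ring
    · intro l _ hl
      rw [Pi.single_eq_of_ne (Ne.symm hl)]
      ring
    · intro h
      exact absurd (Finset.mem_univ j) h⟩⟩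
  exact ⟨s, hs⟩

/-- Exactness over the polynomial ring (up to powers of each of the variables) gives exactness of sheaves. -/
theorem exact_mor (hab : ∀ i j, a i ≤ b j) (hbc : ∀ i j, b i ≤ c j) (F : Mt n k a b) (G : Mt n k b c)
    (h0 : ∀ i l, ∑ j, (F i j).1 * (G j l).1 = 0)
    (hex : ∀ (i : Fin (n + 1)) (v : κ → MvPolynomial (Fin (n + 1)) k), (∀ l, ∑ j, v j * (G j l).1 = 0) →
      ∃ (M : ℕ) (w : ι → MvPolynomial (Fin (n + 1)) k), ∀ j, ∑ m, w m * (F m j).1 = MvPolynomial.X i ^ M * v j) :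
    ∃ w : mor hab F ≫ mor hbc G = 0, (ShortComplex.mk _ _ w).Exact := by
  have hw : mor hab F ≫ mor hbc G = 0 := by
    refine Sga67.Sec.hom_ext fun U s => val_ext fun x hx l => ?_
    have h1 : appS (mor hab F ≫ mor hbc G) U s = appS (mor hbc G) U (appS (mor hab F) U s) := rfl
    rw [h1, val_mor, appS_zero, val_zero]
    simp only [val_mor, Finset.mul_sum]
    rw [Finset.sum_comm]
    refine Finset.sum_eq_zero fun i _ => ?_
    have h2 : ∑ j, al x (G j l).1 * (al x (F i j).1 * val s x hx i) =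
        al x (∑ j, (F i j).1 * (G j l).1) * val s x hx i := by
      rw [map_sum, Finset.sum_mul]
      exact Finset.sum_congr rfl fun j _ => by rw [map_mul]; ring
    rw [h2, h0, map_zero, zero_mul]
  refine ⟨hw, ?_⟩
  rw [ShortComplex.exact_iff_epi_kernel_lift]
  change Epi (kernel.lift (mor hbc G) (mor hab F) hw)
  have hqk : Coh.IsQCoh (kernel (mor hbc G)) :=
    (Sga67.CohBasic.isCoh_kernel (mor hbc G) isCoh_OO isCoh_OO.1).1
  refine FormalB.ModPowAff2.epi_of_affine_cover hqk _ fun x => ?_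
  obtain ⟨i, hi⟩ := exists_mem_D x
  refine ⟨D n k i, hi, isAffineOpen_D i, fun z => ?_⟩
  let t : Sec (OO n k b) (D n k i) := appS (kernel.ι (mor hbc G)) (D n k i) z
  have ht : appS (mor hbc G) (D n k i) t = 0 := by
    have h1 : appS (kernel.ι (mor hbc G) ≫ mor hbc G) (D n k i) z = 0 := by
      rw [kernel.condition]
      exact appS_zero _ _
    exact h1
  obtain ⟨s, hs⟩ := exists_preimage hab F i t ⟨0, fun N _ f hf => by
    obtain ⟨y, hy⟩ := exists_mem_D' (n := n) (k := k) i
    refine hex i f fun l => ?_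
    apply al_injective y
    rw [map_zero, map_sum]
    have h2 : ∀ j, al y (f j * (G j l).1) = al y (MvPolynomial.X i ^ N) * (al y (G j l).1 * val t y hy j) := by
      intro j
      rw [map_mul, ← hf j y hy]
      ring
    rw [Finset.sum_congr rfl fun j _ => h2 j, ← Finset.mul_sum, ← val_mor hbc G, ht, val_zero]
    simp⟩
  refine ⟨s, ?_⟩
  have hinj : Function.Injective (appS (kernel.ι (mor hbc G)) (D n k i)) := by
    exact Groth.Agent.Sga67.IdealTorsion.app_injective_of_mono (kernel.ι (mor hbc G)) (D n k i)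
  apply hinj
  have h3 : appS (kernel.lift (mor hbc G) (mor hab F) hw ≫ kernel.ι (mor hbc G)) (D n k i) s =
      appS (mor hab F) (D n k i) s := by rw [kernel.lift_ι]
  exact h3.trans hs

end K57.MatSheaf
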