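import Groth.Agent.LogNCD.K913.TauAff
import Groth.Agent.Ega3B.SectExact
import Mathlib.CategoryTheory.Abelian.DiagramLemmas.KernelCokernelComp

/-!
# Cohomology of `coker φ ⊗ I_Z`

`vanish`: for a monomorphism `φ : A → B` of finite locally free modules with `H^i(A) = 0`, `H^i(B) = 0` for `i > 0`,
and an ideal sheaf `I` such that `A_Z = A / I A`, `B_Z = B / I B` have no higher cohomology, the cohomology of
`coker φ ⊗ I` vanishes as soon as `Γ(B) ⊕ Γ(A_Z) → Γ(B_Z)` is bijective.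
-/

set_option autoImplicit false

universe u

open CategoryTheory CategoryTheory.Limits AlgebraicGeometry Opposite TopologicalSpace

namespace K57.Pts1

open Groth.Agent Groth.Agent.CohqB.HSeqMod Groth.Agent.CohqB.ToSheafExact Groth.Agent.Ega3B.SectExact
  Groth.Agent.Sga67.Sec

section abelian

variable {C : Type*} [Category C] [Abelian C] {X Y Z : C} (f : X ⟶ Y) (g : Y ⟶ Z) (ψ : X ⟶ Z) (h : f ≫ g = ψ)

/-- `coker f → coker (f ≫ g)`. -/
noncomputable abbrev uu : cokernel f ⟶ cokernel ψ := cokernel.map f ψ (𝟙 _) g (by simp [h])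

/-- `coker (f ≫ g) → coker g`. -/
noncomputable abbrev vv : cokernel ψ ⟶ cokernel g := cokernel.map ψ g f (𝟙 _) (by simp [h])

theorem uv : uu f g ψ h ≫ vv f g ψ h = 0 := by
  rw [← cancel_epi (cokernel.π f), uu, vv, cokernel.π_desc_assoc, Category.assoc, cokernel.π_desc, Category.id_comp,
    cokernel.condition, comp_zero]

/-- `0 → coker f → coker (f ≫ g) → coker g → 0` for `g` a monomorphism. -/
theorem shortExact_comp [Mono g] : (ShortComplex.mk (uu f g ψ h) (vv f g ψ h) (uv f g ψ h)).ShortExact := by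
  subst h
  have hE := kernelCokernelCompSequence_exact f g
  have h1 := hE.exact 2
  have h2 := hE.exact 3
  have hm : Mono (uu f g _ rfl) := by
    refine (ShortComplex.exact_iff_mono _ ?_).mp h1
    have h3 : IsZero (kernel g) := isZero_kernel_of_mono g
    exact h3.eq_of_src _ _
  have he : Epi (vv f g _ rfl) := by
    have : Epi (cokernel.π (f ≫ g) ≫ vv f g _ rfl) := by
      rw [vv, cokernel.π_desc, Category.id_comp]
      infer_instance
    exact epi_of_epi (cokernel.π (f ≫ g)) _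
  exact { exact := h2, mono_f := hm, epi_g := he }

end abelian

section les

variable {X : Scheme.{u}} {S : ShortComplex X.Modules} (hS : S.ShortExact)

include hS in
theorem sub_mid (q : ℕ) (h1 : Subsingleton (Coh.HH X S.X₁ q)) (h3 : Subsingleton (Coh.HH X S.X₃ q)) :
    Subsingleton (Coh.HH X S.X₂ q) := by
  refine subsingleton_of_forall_eq 0 fun x => ?_
  obtain ⟨y, rfl⟩ := exact₂ hS q x (Subsingleton.elim _ _)
  rw [Subsingleton.elim y 0, map_zero]

include hS in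
theorem sub_left (q : ℕ) (h3 : Subsingleton (Coh.HH X S.X₃ q)) (h2 : Subsingleton (Coh.HH X S.X₂ (q + 1))) :
    Subsingleton (Coh.HH X S.X₁ (q + 1)) := by
  refine subsingleton_of_forall_eq 0 fun x => ?_
  obtain ⟨y, rfl⟩ := exact₁ hS q x (Subsingleton.elim _ _)
  rw [Subsingleton.elim y 0, map_zero]

include hS in
theorem sub_right (q : ℕ) (h2 : Subsingleton (Coh.HH X S.X₂ q)) (h1 : Subsingleton (Coh.HH X S.X₁ (q + 1))) :
    Subsingleton (Coh.HH X S.X₃ q) := by
  refine subsingleton_of_forall_eq 0 fun x => ?_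
  obtain ⟨y, rfl⟩ := exact₃ hS q x (Subsingleton.elim _ _)
  rw [Subsingleton.elim y 0, map_zero]

/-- `H^0` of the kernel vanishes if the map on sections is injective. -/
theorem sub_zero (hm : Mono S.f) (h : ∀ s : Γ(S.X₂, ⊤), S.g.app ⊤ s = 0 → s = 0) :
    Subsingleton (Coh.HH X S.X₁ 0) := by
  refine subsingleton_of_forall_eq 0 fun x => ?_
  apply (secEquiv S.X₁).injective
  have h1 : S.f.app ⊤ (secEquiv S.X₁ x) = 0 := by
    apply h
    have h2 : (S.f ≫ S.g).app ⊤ (secEquiv S.X₁ x) = 0 := by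
      rw [S.zero]
      rfl
    exact h2
  have h3 : Function.Injective (S.f.app ⊤) :=
    Groth.Agent.Sga67.Sec.injective_of_mono S.f ⊤
  rw [map_zero]
  apply h3
  rw [h1, map_zero]

include hS in
/-- `H^1` of the kernel vanishes if the map on sections is surjective and `H^1` of the middle term vanishes. -/
theorem sub_one (h : ∀ s : Γ(S.X₃, ⊤), ∃ t, S.g.app ⊤ t = s) (h2 : Subsingleton (Coh.HH X S.X₂ 1)) :
    Subsingleton (Coh.HH X S.X₁ 1) := by
  refine subsingleton_of_forall_eq 0 fun x => ?_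
  obtain ⟨y, rfl⟩ := exact₁ hS 0 x (Subsingleton.elim _ _)
  obtain ⟨t, ht⟩ := h (secEquiv _ y)
  have h3 : hmap S.g 0 ((secEquiv S.X₂).symm t) = y := by
    apply (secEquiv S.X₃).injective
    rw [secEquiv_hmap, AddEquiv.apply_symm_apply, ht]
  rw [← h3, δ_hmap]

end les

section main

variable {X : Scheme.{u}} {A B : X.Modules} (φ : A ⟶ B) (I : X.IdealSheafData)

/-- `φ ⊗ I`. -/
noncomputable abbrev tI : CohB1.tensorMod A (ClSub.idealMod I) ⟶ CohB1.tensorMod B (ClSub.idealMod I) :=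
  KoszTw.tensorMap φ (𝟙 (ClSub.idealMod I))

/-- Naturality of `M ⊗ I → M`. -/
theorem inclTwist_nat : LogNCD.inclTwist A I ≫ φ = tI φ I ≫ LogNCD.inclTwist B I := by
  refine tensor_hom_ext fun x U hx => ⟨U, le_rfl, hx, fun m n => ?_⟩
  change appS (LogNCD.inclTwist A I ≫ φ) U (SecTwist.tmul A (ClSub.idealMod I) U m n) =
    appS (tI φ I ≫ LogNCD.inclTwist B I) U (SecTwist.tmul A (ClSub.idealMod I) U m n)
  rw [appS_comp, appS_comp, K913.TauAff.inclTwist_tmul]
  have h1 := K922.Tens.tensorMap_tau φ (𝟙 (ClSub.idealMod I)) U (TensorProduct.tmul _ m n)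
  rw [TensorProduct.map_tmul] at h1
  have h2 : appS (tI φ I) U (SecTwist.tmul A (ClSub.idealMod I) U m n) =
      SecTwist.tmul B (ClSub.idealMod I) U (appS φ U m) n := h1
  rw [h2, K913.TauAff.inclTwist_tmul, map_smul]

/-- The map `A / I A → B / I B`. -/
noncomputable def phiZ : cokernel (LogNCD.inclTwist A I) ⟶ cokernel (LogNCD.inclTwist B I) :=
  cokernel.map _ _ (tI φ I) φ (inclTwist_nat φ I)

theorem π_phiZ : cokernel.π (LogNCD.inclTwist A I) ≫ phiZ φ I = φ ≫ cokernel.π (LogNCD.inclTwist B I) :=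
  cokernel.π_desc _ _ _

/-- `coker φ ⊗ I` is the cokernel of `φ ⊗ I`. -/
theorem nonempty_iso : Nonempty (CohB1.tensorMod (cokernel φ) (ClSub.idealMod I) ≅ cokernel (tI φ I)) := by
  let G := DCoh.tensorRightMod (ClSub.idealMod I)
  have e : G.map φ = tI φ I := by
    exact KoszTw.tensorRightMod_map _ _
  exact ⟨PreservesCokernel.iso G φ ≪≫ cokernelIsoOfEq e⟩

variable [Mono φ] (hB : FlatMod.IsFinLocFree B)
    (HA : ∀ i, Subsingleton (Coh.HH X A i)) (HB : ∀ i, 0 < i → Subsingleton (Coh.HH X B i))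
    (HAZ : ∀ i, 0 < i → Subsingleton (Coh.HH X (cokernel (LogNCD.inclTwist A I)) i))
    (HBZ : ∀ i, 0 < i → Subsingleton (Coh.HH X (cokernel (LogNCD.inclTwist B I)) i))
    (hinj : ∀ (b : Γ(B, ⊤)) (a : Γ(cokernel (LogNCD.inclTwist A I), ⊤)),
      (cokernel.π (LogNCD.inclTwist B I)).app ⊤ b + (phiZ φ I).app ⊤ a = 0 → b = 0 ∧ a = 0)
    (hsurj : ∀ s : Γ(cokernel (LogNCD.inclTwist B I), ⊤), ∃ (b : Γ(B, ⊤))
      (a : Γ(cokernel (LogNCD.inclTwist A I), ⊤)),
      (cokernel.π (LogNCD.inclTwist B I)).app ⊤ b + (phiZ φ I).app ⊤ a = s)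

include hB HA HB HAZ HBZ hinj hsurj in
theorem vanish (i : ℕ) :
    Subsingleton (Coh.HH X (CohB1.tensorMod (cokernel φ) (ClSub.idealMod I)) i) := by
  set α := LogNCD.inclTwist A I with hα
  set β := LogNCD.inclTwist B I with hβ
  have hmβ : Mono β := K913.TauAff.mono_inclTwist I hB
  have hnat : α ≫ φ = tI φ I ≫ β := inclTwist_nat φ I
  -- the cokernel of `A ⊗ I → B`
  have hS1 := shortExact_comp α φ (tI φ I ≫ β) hnat
  have hS2 := shortExact_comp (tI φ I) β (tI φ I ≫ β) rfl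
  set Q := cokernel (tI φ I ≫ β) with hQ
  set u1 : cokernel α ⟶ Q := uu α φ (tI φ I ≫ β) hnat with hu1
  set v1 : Q ⟶ cokernel φ := vv α φ (tI φ I ≫ β) hnat with hv1
  set u2 : cokernel (tI φ I) ⟶ Q := uu (tI φ I) β (tI φ I ≫ β) rfl with hu2
  set v2 : Q ⟶ cokernel β := vv (tI φ I) β (tI φ I ≫ β) rfl with hv2
  let pQ : B ⟶ Q := cokernel.π (tI φ I ≫ β)
  have e1 : pQ ≫ v1 = cokernel.π φ := by
    rw [hv1, vv, cokernel.π_desc, Category.id_comp]
  have e2 : pQ ≫ v2 = cokernel.π β := by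
    rw [hv2, vv, cokernel.π_desc, Category.id_comp]
  have e3 : u1 ≫ v2 = phiZ φ I := by
    rw [← cancel_epi (cokernel.π α), π_phiZ, ← e2, hu1, uu, cokernel.π_desc_assoc, Category.assoc]
  -- cohomology of `coker φ`
  have hS0 : (ShortComplex.mk φ (cokernel.π φ) (cokernel.condition φ)).ShortExact :=
    { exact := ShortComplex.exact_cokernel φ }
  have HF : ∀ i, 0 < i → Subsingleton (Coh.HH X (cokernel φ) i) := fun i hi =>
    sub_right hS0 i (HB i hi) (HA (i + 1))
  have HQ : ∀ i, 0 < i → Subsingleton (Coh.HH X Q i) := fun i hi => sub_mid hS1 i (HAZ i hi) (HF i hi)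
  -- sections of `Q`
  have key : ∀ q : Γ(Q, ⊤), ∃ (b : Γ(B, ⊤)) (a : Γ(cokernel α, ⊤)), q = pQ.app ⊤ b + u1.app ⊤ a := by
    intro q
    obtain ⟨b, hb⟩ := surjective_of_H1 hS0 (HA 1) (v1.app ⊤ q)
    have hq : v1.app ⊤ (q - pQ.app ⊤ b) = 0 := by
      have h1 : v1.app ⊤ (pQ.app ⊤ b) = (cokernel.π φ).app ⊤ b := by
        have h2 : (pQ ≫ v1).app ⊤ b = (cokernel.π φ).app ⊤ b := by rw [e1]
        exact h2
      rw [map_sub, h1]
      exact sub_eq_zero.mpr hb.symm
    have hm : Mono u1 := hS1.mono_f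
    have hk : Subsingleton (Coh.HH X (kernel u1) 1) := by
      refine subsingleton_of_forall_eq 0 fun x => ?_
      have h0 : IsZero (kernel u1) := isZero_kernel_of_mono u1
      have h1 : 𝟙 (kernel u1) = 0 := h0.eq_of_src _ _
      rw [← hmap_id_apply 1 x, h1, hmap_zero_apply]
    obtain ⟨a, ha⟩ := exact_of_H1 hS1.exact hk (q - pQ.app ⊤ b) hq
    refine ⟨b, a, ?_⟩
    have ha' : u1.app ⊤ a = q - pQ.app ⊤ b := ha
    rw [ha']
    abel
  have key2 : ∀ (b : Γ(B, ⊤)) (a : Γ(cokernel α, ⊤)), v2.app ⊤ (pQ.app ⊤ b + u1.app ⊤ a) =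
      (cokernel.π β).app ⊤ b + (phiZ φ I).app ⊤ a := by
    intro b a
    rw [map_add, ← e3, ← e2]
    rfl
  have hinj' : ∀ q : Γ(Q, ⊤), v2.app ⊤ q = 0 → q = 0 := by
    intro q hq
    obtain ⟨b, a, rfl⟩ := key q
    rw [key2] at hq
    obtain ⟨rfl, rfl⟩ := hinj b a hq
    rw [map_zero, map_zero, add_zero]
  have hsurj' : ∀ s : Γ(cokernel β, ⊤), ∃ q : Γ(Q, ⊤), v2.app ⊤ q = s := by
    intro s
    obtain ⟨b, a, h⟩ := hsurj s
    exact ⟨_, (key2 b a).trans h⟩
  have HK : ∀ i, Subsingleton (Coh.HH X (cokernel (tI φ I)) i) := by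
    rintro (_ | _ | i)
    · exact sub_zero hS2.mono_f hinj'
    · exact sub_one hS2 hsurj' (HQ 1 one_pos)
    · exact sub_left hS2 (i + 1) (HBZ _ (Nat.succ_pos i)) (HQ _ (Nat.succ_pos _))
  obtain ⟨e⟩ := nonempty_iso φ I
  have := HK i
  refine subsingleton_of_forall_eq 0 fun x => ?_
  have h1 : hmap e.inv i (hmap e.hom i x) = x := by
    rw [← hmap_comp_apply, e.hom_inv_id, hmap_id_apply]
  rw [← h1, Subsingleton.elim (hmap e.hom i x) 0, map_zero]

end main

end K57.Pts1
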