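import Groth.Agent.Coherent.K57.Pts1
import Groth.Agent.Sga67.QCohEpi
import Groth.Agent.CohqB.AmpleH1
import Groth.Agent.Sga67.CohBasic
import Groth.Agent.S0047

/-!
# The quotient `M / I M` for an ideal sheaf `I` with support in an affine open

Reduction of the bijectivity of `Γ(B) ⊕ Γ(A / I A) → Γ(B / I B)` to sections over an affine neighbourhood of the
support of `I`.
-/

set_option autoImplicit false

universe u

open CategoryTheory CategoryTheory.Limits AlgebraicGeometry Opposite TopologicalSpace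

namespace K57.Pts2

open Groth.Agent Groth.Agent.Sga67.Sec K57.Pts1

variable {X : Scheme.{u}}

theorem ideal_eq_top_of_disjoint (I : X.IdealSheafData) (V : X.affineOpens)
    (h : ∀ x ∈ V.1, x ∉ I.support) : I.ideal V = ⊤ := by
  rw [← PrimeSpectrum.zeroLocus_empty_iff_eq_top]
  have h1 := I.coe_support_inter V
  have h2 := V.2.fromSpec_image_zeroLocus (I.ideal V)
  rw [← h1] at h2
  have h3 : ((I.support : Set X) ∩ (V.1 : Set X)) = ∅ := by
    ext x
    simp only [Set.mem_inter_iff, Set.mem_empty_iff_false, iff_false, not_and]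
    exact fun hx hV => h x hV hx
  rw [h3, Set.image_eq_empty] at h2
  exact h2

section

variable (M : X.Modules) (I : X.IdealSheafData)

/-- `M / I M`. -/
noncomputable abbrev QQ : X.Modules := cokernel (LogNCD.inclTwist M I)

/-- The projection. -/
noncomputable abbrev pp : M ⟶ QQ M I := cokernel.π (LogNCD.inclTwist M I)

theorem pp_incl (U : X.Opens) (s : Sec (CohB1.tensorMod M (ClSub.idealMod I)) U) :
    appS (pp M I) U (appS (LogNCD.inclTwist M I) U s) = 0 := by
  have h : appS (LogNCD.inclTwist M I ≫ pp M I) U s = 0 := by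
    rw [cokernel.condition]
    exact appS_zero _ _
  exact h

/-- Sections of `M / I M` away from the support vanish. -/
theorem sec_zero {V : X.Opens} (hV : ∀ x ∈ V, x ∉ I.support) (s : Sec (QQ M I) V) : s = 0 := by
  refine eq_of_locally _ fun x hx => ?_
  obtain ⟨V1, h1, hx1, m, hm⟩ := locally_surjective_of_epi (pp M I) s x hx
  obtain ⟨_, ⟨W, hW, rfl⟩, hxW, hWV⟩ := X.isBasis_affineOpens.exists_subset_of_mem_open hx1 V1.isOpen
  have hW' : W ≤ V1 := hWV
  refine ⟨W, hW'.trans h1, hxW, ?_⟩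
  have h2 : I.ideal ⟨W, hW⟩ = ⊤ := ideal_eq_top_of_disjoint I ⟨W, hW⟩ fun y hy => hV y (h1 (hW' hy))
  obtain ⟨a, ha⟩ := (K922.Quot.exists_idealSect_iff I ⟨W, hW⟩ 1).2 (by rw [h2]; trivial)
  have ha' : OmegaSh.idealSect I W a = 1 := ha
  have h3 : res M hW' m = appS (LogNCD.inclTwist M I) W (SecTwist.tmul M (ClSub.idealMod I) W (res M hW' m) a) := by
    rw [K913.TauAff.inclTwist_tmul, ha', one_smul]
  rw [map_zero, ← res_res _ h1 hW', ← hm, ← appS_res, h3, pp_incl]

theorem subsingleton_stalk {x : X} (hx : x ∉ I.support) : Subsingleton ((QQ M I).presheaf.stalk x) := by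
  refine subsingleton_of_forall_eq 0 fun g => ?_
  obtain ⟨V, hxV, s, rfl⟩ := (QQ M I).presheaf.exists_germ_eq (C := AddCommGrpCat.{u}) g
  let V' : X.Opens := V ⊓ ⟨((I.support : Set X))ᶜ, I.support.isClosed.isOpen_compl⟩
  have hxV' : x ∈ V' := ⟨hxV, hx⟩
  have h1 := TopCat.Presheaf.germ_res_apply (QQ M I).presheaf (homOfLE (inf_le_left : V' ≤ V)) x hxV' s
  rw [← h1]
  have h2 : (ConcreteCategory.hom ((QQ M I).presheaf.map (homOfLE (inf_le_left : V' ≤ V)).op)) s = 0 :=
    sec_zero M I (V := V') (fun y hy => hy.2) _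
  rw [h2, map_zero]

theorem support_le : CohB1.support (QQ M I) ⊆ (I.support : Set X) := by
  intro x hx
  by_contra h
  exact hx (subsingleton_stalk M I h)

theorem isCoh_QQ (hM : Coh.IsCoh M) : Coh.IsCoh (QQ M I) :=
  Sga67.CohBasic.isCoh_cokernel _
    (Ega1.TensorRestrict.isQCoh_tensorMod _ _ hM.1 (CohqA.IdealMod.isQCoh_idealMod I)) hM

/-- `M / I M` has no higher cohomology. -/
theorem subsingleton_HH [IsLocallyNoetherian X] (hM : Coh.IsCoh M)
    (hI : ∀ x ∈ I.support, IsClosed ({x} : Set X)) (i : ℕ) (hi : 0 < i) : Subsingleton (Coh.HH X (QQ M I) i) :=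
  S0047.result X _ (isCoh_QQ M I hM) (fun x hx => hI x (support_le M I hx)) i hi

variable {M I} {U : X.Opens} (hU : ∀ x ∈ I.support, x ∈ U)

include hU in
/-- Sections of `M / I M` over a neighbourhood of the support. -/
theorem res_injective (s : Sec (QQ M I) ⊤) (h : res _ (le_top : U ≤ ⊤) s = 0) : s = 0 := by
  refine eq_of_locally _ fun x hx => ?_
  by_cases hxU : x ∈ U
  · exact ⟨U, le_top, hxU, by rw [h, map_zero]⟩
  · refine ⟨⟨((I.support : Set X))ᶜ, I.support.isClosed.isOpen_compl⟩, le_top, fun h => hxU (hU x h), ?_⟩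
    rw [map_zero]
    exact sec_zero M I (fun y hy => hy) _

include hU in
theorem res_surjective (s : Sec (QQ M I) U) : ∃ t : Sec (QQ M I) ⊤, res _ (le_top : U ≤ ⊤) t = s := by
  let V : X.Opens := ⟨((I.support : Set X))ᶜ, I.support.isClosed.isOpen_compl⟩
  have hUV : ∀ x : X, x ∈ U ∨ x ∈ V := fun x => by
    by_cases hx : x ∈ I.support
    · exact Or.inl (hU x hx)
    · exact Or.inr hx
  obtain ⟨t, ht, -⟩ := CohqB.AmpleH1.exists_glue_two (QQ M I) hUV s 0 (by
    have h1 : ∀ a : Sec (QQ M I) (U ⊓ V), a = 0 := sec_zero M I (V := U ⊓ V) fun y hy => hy.2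
    exact (h1 _).trans (h1 _).symm)
  exact ⟨t, ht⟩

/-- Sections over an affine open. -/
theorem pp_surjective (hM : Coh.IsCoh M) (hUa : IsAffineOpen U) (s : Sec (QQ M I) U) :
    ∃ m : Sec M U, appS (pp M I) U m = s :=
  Sga67.QCohEpi.app_surjective (pp M I) hM.1 (isCoh_QQ M I hM).1 hUa s

theorem exists_of_pp_eq_zero (hM : FlatMod.IsFinLocFree M) (s : Sec M U) (h : appS (pp M I) U s = 0) :
    ∃ t, appS (LogNCD.inclTwist M I) U t = s := by
  have := K913.TauAff.mono_inclTwist I hM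
  exact exists_of_appS_eq_zero (S := ShortComplex.mk (LogNCD.inclTwist M I) (pp M I) (cokernel.condition _))
    (ShortComplex.exact_cokernel _) s h

end

section main

variable {A B : X.Modules} (φ : A ⟶ B) (I : X.IdealSheafData) {U : X.Opens}
  (hA : FlatMod.IsFinLocFree A) (hB : FlatMod.IsFinLocFree B) (hAc : Coh.IsCoh A) (hBc : Coh.IsCoh B)
  (hU : ∀ x ∈ I.support, x ∈ U) (hUa : IsAffineOpen U)

theorem phiZ_pp {V : X.Opens} (a : Sec A V) : appS (phiZ φ I) V (appS (pp A I) V a) = appS (pp B I) V (appS φ V a) := by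
  have h : appS (pp A I ≫ phiZ φ I) V a = appS (φ ≫ pp B I) V a := by rw [pp, pp, π_phiZ]
  exact h

include hAc hB hU hUa in
theorem hinj_of (h : ∀ (b : Sec B ⊤) (a : Sec A U), (∃ t, appS (LogNCD.inclTwist B I) U t =
      res B (le_top : U ≤ ⊤) b + appS φ U a) → b = 0 ∧ ∃ t, appS (LogNCD.inclTwist A I) U t = a)
    (b : Γ(B, ⊤)) (a : Γ(QQ A I, ⊤)) (hab : (pp B I).app ⊤ b + (phiZ φ I).app ⊤ a = 0) : b = 0 ∧ a = 0 := by
  obtain ⟨a', ha'⟩ := pp_surjective hAc hUa (res _ (le_top : U ≤ ⊤) (show Sec (QQ A I) ⊤ from a))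
  have h1 : appS (pp B I) U (res B (le_top : U ≤ ⊤) b + appS φ U a') = 0 := by
    rw [map_add, appS_res, ← phiZ_pp, ha', appS_res, ← map_add]
    have h2 : appS (pp B I) ⊤ b + appS (phiZ φ I) ⊤ a = 0 := hab
    rw [h2, map_zero]
  obtain ⟨t, ht⟩ := exists_of_pp_eq_zero hB _ h1
  obtain ⟨hb, t', ht'⟩ := h b a' ⟨t, ht⟩
  refine ⟨hb, res_injective hU _ ?_⟩
  rw [← ha', ← ht', pp_incl]

include hBc hU hUa in
theorem hsurj_of (h : ∀ s : Sec B U, ∃ (b : Sec B ⊤) (a : Sec A U) (t : _),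
      res B (le_top : U ≤ ⊤) b + appS φ U a + appS (LogNCD.inclTwist B I) U t = s)
    (s : Γ(QQ B I, ⊤)) : ∃ (b : Γ(B, ⊤)) (a : Γ(QQ A I, ⊤)), (pp B I).app ⊤ b + (phiZ φ I).app ⊤ a = s := by
  obtain ⟨s', hs'⟩ := pp_surjective hBc hUa (res _ (le_top : U ≤ ⊤) (show Sec (QQ B I) ⊤ from s))
  obtain ⟨b, a, t, ht⟩ := h s'
  obtain ⟨a', ha'⟩ := res_surjective hU (appS (pp A I) U a)
  refine ⟨b, a', ?_⟩
  have h1 : appS (pp B I) ⊤ b + appS (phiZ φ I) ⊤ a' - (show Sec (QQ B I) ⊤ from s) = 0 := by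
    refine res_injective hU _ ?_
    rw [map_sub, map_add, ← appS_res, ← appS_res, ha', phiZ_pp, ← map_add]
    have h2 : appS (pp B I) U (res B (le_top : U ≤ ⊤) b + appS φ U a) = appS (pp B I) U s' := by
      have h3 := map_add (appS (pp B I) U) (res B (le_top : U ≤ ⊤) b + appS φ U a)
        (appS (LogNCD.inclTwist B I) U t)
      rw [pp_incl, add_zero] at h3
      rw [← h3, ht]
    rw [h2, hs', sub_self]
  exact sub_eq_zero.mp h1

end main

end K57.Pts2
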