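import Groth.Agent.Coherent.K57.Gaeta
import Mathlib.LinearAlgebra.Lagrange

/-!
# Evaluation of sections over the chart `x ≠ 0` of `P²` at rational points

* `evR hp : Γ(P², D_+(x)) →+* k`: evaluation of functions at the point `[1 : p 1 : p 2]`;
* `E p s`: the value of a section of `⨁ O(a i)`;
* `E_mor`: compatibility with matrices; `exists_E`: interpolation at points `[1 : t j : 0]`;
* `exists_coord`: a section is a combination of the basis `x^{a i}`, with coefficients having the given values.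
-/

set_option autoImplicit false
set_option backward.isDefEq.respectTransparency false

universe u

open CategoryTheory CategoryTheory.Limits AlgebraicGeometry Opposite TopologicalSpace

namespace K57.Pts3

open Groth.Agent Groth.Agent.Divis.ProjPic Groth.Agent.VarietyB.TwistMul K699.TwHom Groth.Agent.Sga67.Sec
  K57.Mat K57.MatSheaf K57.Gaeta MvPolynomial

attribute [local instance] Abelian.hasFiniteBiproducts

variable {k : Type u} [Field k]

variable (k) in
/-- A point of the chart. -/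
noncomputable def x0 : ProjectiveSpectrum (gr 2 k) := (exists_mem_D' (n := 2) (k := k) 0).choose

theorem x0_mem : x0 k ∈ D 2 k 0 := (exists_mem_D' (n := 2) (k := k) 0).choose_spec

theorem al_X_ne (x : ProjectiveSpectrum (gr 2 k)) (N : ℕ) : al x (X 0 ^ N) ≠ 0 := by
  intro h0
  have h2 : (X 0 ^ N : MvPolynomial (Fin 3) k) = 0 := al_injective x (h0.trans (map_zero _).symm)
  exact pow_ne_zero _ (X_ne_zero 0) h2

theorem eval_unique {p : Fin 3 → k} (hp : p 0 = 1) {x : ProjectiveSpectrum (gr 2 k)} {v : Twist.Loc (gr 2 k) x}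
    {N N' : ℕ} {f f' : MvPolynomial (Fin 3) k} (h : al x (X 0 ^ N) * v = al x f)
    (h' : al x (X 0 ^ N') * v = al x f') : eval p f = eval p f' := by
  have h1 : al x (X 0 ^ N' * f) = al x (X 0 ^ N * f') := by
    rw [map_mul, map_mul, ← h, ← h']
    ring
  have h2 := congrArg (eval p) (al_injective x h1)
  simpa [hp] using h2

/-- `v` is of the form `f / x^N`. -/
def Fr (v : Twist.Loc (gr 2 k) (x0 k)) : Prop :=
  ∃ (N : ℕ) (f : MvPolynomial (Fin 3) k), al (x0 k) (X 0 ^ N) * v = al (x0 k) f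

open Classical in
/-- The value at `p` of an element of the form `f / x^N`. -/
noncomputable def evL (p : Fin 3 → k) (v : Twist.Loc (gr 2 k) (x0 k)) : k :=
  if h : Fr v then eval p h.choose_spec.choose else 0

theorem evL_eq {p : Fin 3 → k} (hp : p 0 = 1) {v : Twist.Loc (gr 2 k) (x0 k)} {N : ℕ} {f : MvPolynomial (Fin 3) k}
    (h : al (x0 k) (X 0 ^ N) * v = al (x0 k) f) : evL p v = eval p f := by
  have hF : Fr v := ⟨N, f, h⟩
  rw [evL, dif_pos hF]
  exact eval_unique hp hF.choose_spec.choose_spec h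

theorem Fr.add {v w : Twist.Loc (gr 2 k) (x0 k)} (hv : Fr v) (hw : Fr w) : Fr (v + w) := by
  obtain ⟨N, f, h⟩ := hv
  obtain ⟨M, g, h'⟩ := hw
  refine ⟨N + M, X 0 ^ M * f + X 0 ^ N * g, ?_⟩
  rw [map_add, map_mul, map_mul, ← h, ← h', pow_add, map_mul]
  ring

theorem Fr.mul {v w : Twist.Loc (gr 2 k) (x0 k)} (hv : Fr v) (hw : Fr w) : Fr (v * w) := by
  obtain ⟨N, f, h⟩ := hv
  obtain ⟨M, g, h'⟩ := hw
  refine ⟨N + M, f * g, ?_⟩
  rw [map_mul, ← h, ← h', pow_add, map_mul]
  ring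

theorem Fr.al (f : MvPolynomial (Fin 3) k) : Fr (K699.TwHom.al (x0 k) f) := ⟨0, f, by simp⟩

theorem Fr.sum {ι : Type*} (s : Finset ι) {v : ι → Twist.Loc (gr 2 k) (x0 k)} (h : ∀ i ∈ s, Fr (v i)) :
    Fr (∑ i ∈ s, v i) := by
  classical
  induction s using Finset.induction_on with
  | empty =>
    rw [Finset.sum_empty]
    exact ⟨0, 0, by simp⟩
  | insert a s ha ih =>
    rw [Finset.sum_insert ha]
    exact (h a (Finset.mem_insert_self _ _)).add (ih fun i hi => h i (Finset.mem_insert_of_mem hi))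

section

variable {p : Fin 3 → k} (hp : p 0 = 1)

include hp

theorem evL_add {v w : Twist.Loc (gr 2 k) (x0 k)} (hv : Fr v) (hw : Fr w) : evL p (v + w) = evL p v + evL p w := by
  obtain ⟨N, f, h⟩ := hv
  obtain ⟨M, g, h'⟩ := hw
  rw [evL_eq hp h, evL_eq hp h', evL_eq (N := N + M) (f := X 0 ^ M * f + X 0 ^ N * g) hp]
  · simp [hp]
  · rw [map_add, map_mul, map_mul, ← h, ← h', pow_add, map_mul]
    ring

theorem evL_mul {v w : Twist.Loc (gr 2 k) (x0 k)} (hv : Fr v) (hw : Fr w) : evL p (v * w) = evL p v * evL p w := by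
  obtain ⟨N, f, h⟩ := hv
  obtain ⟨M, g, h'⟩ := hw
  rw [evL_eq hp h, evL_eq hp h', evL_eq (N := N + M) (f := f * g) hp]
  · simp
  · rw [map_mul, ← h, ← h', pow_add, map_mul]
    ring

theorem evL_al (f : MvPolynomial (Fin 3) k) : evL p (al (x0 k) f) = eval p f :=
  evL_eq (N := 0) hp (by simp)

theorem evL_sum {ι : Type*} (s : Finset ι) {v : ι → Twist.Loc (gr 2 k) (x0 k)} (h : ∀ i ∈ s, Fr (v i)) :
    evL p (∑ i ∈ s, v i) = ∑ i ∈ s, evL p (v i) := by
  classical
  induction s using Finset.induction_on with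
  | empty =>
    rw [Finset.sum_empty, Finset.sum_empty]
    have := evL_al hp 0
    simpa using this
  | insert a s ha ih =>
    rw [Finset.sum_insert ha, Finset.sum_insert ha, evL_add hp (h a (Finset.mem_insert_self _ _))
      (Fr.sum s fun i hi => h i (Finset.mem_insert_of_mem hi)), ih fun i hi => h i (Finset.mem_insert_of_mem hi)]

end

theorem fr_ev (r : Γ(P2 k, D 2 k 0)) : Fr (ev r (x0 k) x0_mem) := by
  obtain ⟨M, f, hf, hfr⟩ := exists_frac (𝒜 := gr 2 k) (isHomogeneous_X k (0 : Fin 3)) one_pos rfl r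
  have hM : (X 0 ^ M : MvPolynomial (Fin 3) k) ∉ (x0 k).asHomogeneousIdeal :=
    fun h => x0_mem ((x0 k).isPrime.mem_of_pow_mem M h)
  refine ⟨M, f, ?_⟩
  rw [hfr (x0 k) x0_mem hM]
  exact al_mul_mk (x0 k) f _ hM

/-- Evaluation of functions on the chart at a rational point. -/
noncomputable def evR {p : Fin 3 → k} (hp : p 0 = 1) : Γ(P2 k, D 2 k 0) →+* k where
  toFun r := evL p (ev r (x0 k) x0_mem)
  map_one' := by
    have h1 : ev (1 : Γ(P2 k, D 2 k 0)) (x0 k) x0_mem = al (x0 k) 1 := by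
      rw [map_one]
      exact HomogeneousLocalization.val_one
    rw [h1, evL_al hp, map_one]
  map_zero' := by
    have h1 : ev (0 : Γ(P2 k, D 2 k 0)) (x0 k) x0_mem = al (x0 k) 0 := by
      rw [map_zero]
      exact HomogeneousLocalization.val_zero
    rw [h1, evL_al hp, map_zero]
  map_mul' r s := by
    rw [ev_mul, evL_mul hp (fr_ev r) (fr_ev s)]
  map_add' r s := by
    have h1 : ev (r + s) (x0 k) x0_mem = ev r (x0 k) x0_mem + ev s (x0 k) x0_mem :=
      HomogeneousLocalization.val_add _ _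
    rw [h1, evL_add hp (fr_ev r) (fr_ev s)]

theorem evR_eq {p : Fin 3 → k} (hp : p 0 = 1) (r : Γ(P2 k, D 2 k 0)) {N : ℕ} {f : MvPolynomial (Fin 3) k}
    (h : al (x0 k) (X 0 ^ N) * ev r (x0 k) x0_mem = al (x0 k) f) : evR hp r = eval p f :=
  evL_eq hp h

/-- Fractions as functions on the chart. -/
theorem exists_fun (N : ℕ) (f : gr 2 k N) : ∃ r : Γ(P2 k, D 2 k 0), ∀ {p : Fin 3 → k} (hp : p 0 = 1),
    evR hp r = eval p f.1 := by
  obtain ⟨s, hs⟩ := exists_secT (n := 2) (k := k) 0 0 N (by omega) ⟨f.1, by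
    have h : ((N : ℤ) + 0).toNat = N := by omega
    rw [h]
    exact f.2⟩
  obtain ⟨r, hr⟩ := exists_smul_one0 s
  refine ⟨r, fun hp => evR_eq (N := N) hp r ?_⟩
  rw [← hs (x0 k) x0_mem, ← hr]
  congr 1
  have h1 : evT (r • one0 (D 2 k 0)) (x0 k) x0_mem = ev r (x0 k) x0_mem * evT (one0 (D 2 k 0)) (x0 k) x0_mem :=
    evT_smul r _ (x0 k) x0_mem
  rw [h1, evT_one0, mul_one]

section mod

variable {ι κ : Type} [Fintype ι] [Fintype κ] {a : ι → ℤ} {b : κ → ℤ}

theorem fr_val (s : Sec (OO 2 k a) (D 2 k 0)) (i : ι) : Fr (val s (x0 k) x0_mem i) := by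
  obtain ⟨N₀, h⟩ := exists_fracs 0 s
  obtain ⟨-, f, hf⟩ := h N₀ le_rfl
  exact ⟨N₀, (f i).1, hf _ _ _⟩

/-- The value of a section of `⨁ O(a i)` at a rational point of the chart. -/
noncomputable def E (p : Fin 3 → k) (s : Sec (OO 2 k a) (D 2 k 0)) (i : ι) : k := evL p (val s (x0 k) x0_mem i)

variable {p : Fin 3 → k} (hp : p 0 = 1)

include hp

theorem E_eq (s : Sec (OO 2 k a) (D 2 k 0)) (i : ι) {N : ℕ} {f : MvPolynomial (Fin 3) k}
    (h : al (x0 k) (X 0 ^ N) * val s (x0 k) x0_mem i = al (x0 k) f) : E p s i = eval p f := evL_eq hp h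

theorem E_add (s t : Sec (OO 2 k a) (D 2 k 0)) : E p (s + t) = E p s + E p t := by
  funext i
  change evL p _ = evL p _ + evL p _
  rw [val_add]
  exact evL_add hp (fr_val s i) (fr_val t i)

theorem E_smul (r : Γ(P2 k, D 2 k 0)) (s : Sec (OO 2 k a) (D 2 k 0)) : E p (r • s) = evR hp r • E p s := by
  funext i
  change evL p _ = evL p _ * evL p _
  rw [val_smul]
  exact evL_mul hp (fr_ev r) (fr_val s i)

theorem E_zero : E p (0 : Sec (OO 2 k a) (D 2 k 0)) = 0 := by
  have h := E_smul hp (0 : Γ(P2 k, D 2 k 0)) (0 : Sec (OO 2 k a) (D 2 k 0))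
  rwa [zero_smul, map_zero, zero_smul] at h

theorem E_sub (s t : Sec (OO 2 k a) (D 2 k 0)) : E p (s - t) = E p s - E p t := by
  have h := E_add hp (s - t) t
  rw [sub_add_cancel] at h
  rw [h, add_sub_cancel_right]

theorem E_mor (hab : ∀ i j, a i ≤ b j) (F : Mt 2 k a b) (s : Sec (OO 2 k a) (D 2 k 0)) (j : κ) :
    E p (appS (mor hab F) (D 2 k 0) s) j = ∑ i, E p s i * eval p (F i j).1 := by
  change evL p _ = _
  rw [val_mor, evL_sum hp _ fun i _ => (Fr.al _).mul (fr_val s i)]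
  refine Finset.sum_congr rfl fun i _ => ?_
  rw [evL_mul hp (Fr.al _) (fr_val s i), evL_al hp, mul_comm]
  rfl

omit hp in
/-- The basis of the sections over the chart. -/
theorem exists_basis [DecidableEq ι] : ∃ e : ι → Sec (OO 2 k a) (D 2 k 0),
    (∀ {p : Fin 3 → k} (_ : p 0 = 1) (i j : ι), E p (e i) j = if i = j then 1 else 0) ∧
    ∀ s : Sec (OO 2 k a) (D 2 k 0), ∃ r : ι → Γ(P2 k, D 2 k 0), s = ∑ i, r i • e i := by
  let g : ∀ i, Γ(T 2 k (a i), D 2 k 0) := fun i =>
    Ega2.TwistInv.powSec (𝒜 := gr 2 k) (Xv 0) (a i) (D 2 k 0) (fun x hx => hx)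
  have hg : ∀ i (t : Γ(T 2 k (a i), D 2 k 0)), ∃ r : Γ(P2 k, D 2 k 0), r • g i = t := fun i t =>
    (Ega2.TwistInv.isGen_powSec (𝒜 := gr 2 k) (Xv 0) (a i) (D 2 k 0) (fun x hx => hx) (D 2 k 0) le_rfl).2 t
  have hgv : ∀ i (x : ProjectiveSpectrum (gr 2 k)) (hx : x ∈ D 2 k 0),
      al x (X 0 ^ (-(a i)).toNat) * evT (g i) x hx = al x (X 0 ^ (a i).toNat) := by
    intro i x hx
    have hm : (X 0 ^ (-(a i)).toNat : MvPolynomial (Fin 3) k) ∉ x.asHomogeneousIdeal :=
      fun h => hx (x.isPrime.mem_of_pow_mem _ h)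
    exact al_mul_mk x (X 0 ^ (a i).toNat) _ hm
  choose e he using fun i => exists_sec (U := D 2 k 0) (a := a) (Pi.single i (g i))
  have hes : ∀ i x hx, val (e i) x hx i = evT (g i) x hx := by
    intro i x hx
    rw [he, Pi.single_eq_same]
  have hen : ∀ i j x hx, j ≠ i → val (e i) x hx j = 0 := by
    intro i j x hx hij
    rw [he, Pi.single_eq_of_ne hij]
    rfl
  refine ⟨e, fun {p} hp i j => ?_, fun s => ?_⟩
  · by_cases hij : i = j
    · subst hij
      rw [if_pos rfl, E_eq hp (e i) i (N := (-(a i)).toNat) (f := X 0 ^ (a i).toNat) (by rw [hes]; exact hgv _ _ _)]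
      simp [hp]
    · rw [if_neg hij, E_eq hp (e i) j (N := 0) (f := 0) (by rw [hen i j _ _ (Ne.symm hij)]; simp)]
      simp
  · choose r hr using fun i => hg i (appS (pr a i) (D 2 k 0) s)
    refine ⟨r, val_ext fun x hx j => ?_⟩
    have hsum : ∀ (s : Finset ι), val (∑ i ∈ s, r i • e i) x hx j = ∑ i ∈ s, ev (r i) x hx * val (e i) x hx j := by
      intro s
      induction s using Finset.induction_on with
      | empty =>
        rw [Finset.sum_empty, Finset.sum_empty, val_zero]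
        rfl
      | insert i s hi ih =>
        rw [Finset.sum_insert hi, Finset.sum_insert hi, val_add, Pi.add_apply, ih, val_smul]
        rfl
    rw [hsum, Finset.sum_eq_single j, hes, ← evT_smul, hr]
    · rfl
    · intro i _ hi
      rw [hen i j x hx (Ne.symm hi), mul_zero]
    · intro h
      exact absurd (Finset.mem_univ _) h

/-- The point `[1 : t : 0]`. -/
def pt (t : k) : Fin 3 → k := ![1, t, 0]

omit hp in
theorem pt_zero (t : k) : pt t 0 = 1 := rfl

omit hp in
/-- Interpolation of functions. -/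
theorem exists_interp {ℓ : ℕ} {t : Fin ℓ → k} (ht : Function.Injective t) (c : Fin ℓ → k) :
    ∃ r : Γ(P2 k, D 2 k 0), ∀ j, evR (pt_zero (t j)) r = c j := by
  let q : Polynomial k := Lagrange.interpolate Finset.univ t c
  have hq : ∀ j, q.eval (t j) = c j := fun j =>
    Lagrange.eval_interpolate_at_node c (fun i _ i' _ h => ht h) (Finset.mem_univ j)
  let d := q.natDegree
  obtain ⟨r, hr⟩ := exists_fun (k := k) d ⟨∑ m ∈ Finset.range (d + 1), C (q.coeff m) * (X 0 ^ (d - m) * X 1 ^ m),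
    Submodule.sum_mem _ fun m hm => by
      have h1 : ((X 0 : MvPolynomial (Fin 3) k) ^ (d - m) * X 1 ^ m).IsHomogeneous (d - m + m) :=
        (isHomogeneous_X_pow _ _).mul (isHomogeneous_X_pow _ _)
      have h2 : d - m + m = d := Nat.sub_add_cancel (by simpa [Nat.lt_succ_iff] using hm)
      rw [h2] at h1
      have h3 := (isHomogeneous_C (Fin 3) (q.coeff m)).mul h1
      rw [zero_add] at h3
      exact h3⟩
  refine ⟨r, fun j => ?_⟩
  rw [hr (pt_zero (t j)), ← hq j, Polynomial.eval_eq_sum_range, map_sum]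
  refine Finset.sum_congr rfl fun m _ => ?_
  simp [pt]

omit hp in
/-- Interpolation of sections. -/
theorem exists_E [DecidableEq ι] {ℓ : ℕ} {t : Fin ℓ → k} (ht : Function.Injective t) (c : Fin ℓ → ι → k) :
    ∃ s : Sec (OO 2 k a) (D 2 k 0), ∀ j, E (pt (t j)) s = c j := by
  obtain ⟨e, he, -⟩ := exists_basis (k := k) (a := a)
  choose r hr using fun i => exists_interp ht fun j => c j i
  refine ⟨∑ i, r i • e i, fun j => ?_⟩
  have hsum : ∀ (s : Finset ι), E (pt (t j)) (∑ i ∈ s, r i • e i) = ∑ i ∈ s, c j i • E (pt (t j)) (e i) := by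
    intro s
    induction s using Finset.induction_on with
    | empty =>
      rw [Finset.sum_empty, Finset.sum_empty, E_zero (pt_zero (t j))]
    | insert i s hi ih =>
      rw [Finset.sum_insert hi, Finset.sum_insert hi, E_add (pt_zero (t j)), E_smul (pt_zero (t j)), ih, hr]
  rw [hsum]
  funext l
  rw [Finset.sum_apply, Finset.sum_eq_single l]
  · rw [Pi.smul_apply, he (pt_zero (t j)), if_pos rfl, smul_eq_mul, mul_one]
  · intro i _ hi
    rw [Pi.smul_apply, he (pt_zero (t j)), if_neg hi, smul_zero]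
  · intro h
    exact absurd (Finset.mem_univ _) h

end mod

end K57.Pts3
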