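import Groth.Agent.Coherent.K57.Pts2
import Groth.Agent.Coherent.K57.Pts3
import Groth.Agent.Ega3B.ProjProper
import Groth.Agent.Ega1.ReducedSub
import Groth.Agent.Pic13.H940.AddL

/-!
# The ideal sheaf of the points `[1 : t j : 0]` of `P²`
-/

set_option autoImplicit false
set_option backward.isDefEq.respectTransparency false

universe u

open CategoryTheory CategoryTheory.Limits AlgebraicGeometry Opposite TopologicalSpace

namespace K57.Pts4

open Groth.Agent Groth.Agent.Divis.ProjPic Groth.Agent.VarietyB.TwistMul K699.TwHom Groth.Agent.Sga67.Sec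
  K57.Mat K57.MatSheaf K57.Gaeta K57.Pts3 K57.Pts2

attribute [local instance] Abelian.hasFiniteBiproducts

variable {k : Type u} [Field k]

/-- The points of the spectrum of the functions on the chart. -/
noncomputable def ypt {p : Fin 3 → k} (hp : p 0 = 1) : Spec Γ(P2 k, D 2 k 0) :=
  ⟨RingHom.ker (evR hp), RingHom.ker_isPrime _⟩

theorem evR_surjective {p : Fin 3 → k} (hp : p 0 = 1) : Function.Surjective (evR hp) := by
  intro c
  obtain ⟨r, hr⟩ := exists_fun (k := k) 0 ⟨MvPolynomial.C c, MvPolynomial.isHomogeneous_C _ _⟩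
  exact ⟨r, by rw [hr hp]; simp⟩

theorem isClosed_ypt {p : Fin 3 → k} (hp : p 0 = 1) : IsClosed ({ypt hp} : Set (Spec Γ(P2 k, D 2 k 0))) := by
  refine (PrimeSpectrum.isClosed_singleton_iff_isMaximal _).mpr ?_
  exact RingHom.ker_isMaximal_of_surjective _ (evR_surjective hp)

/-- The points of the plane. -/
noncomputable def zpt {p : Fin 3 → k} (hp : p 0 = 1) : P2 k :=
  (isAffineOpen_D (n := 2) (k := k) 0).fromSpec (ypt hp)

theorem zpt_mem {p : Fin 3 → k} (hp : p 0 = 1) : zpt hp ∈ D 2 k 0 := by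
  have h1 : zpt hp ∈ Set.range (isAffineOpen_D (n := 2) (k := k) 0).fromSpec := ⟨_, rfl⟩
  rw [IsAffineOpen.range_fromSpec] at h1
  exact h1

theorem jacobson : JacobsonSpace (P2 k) := by
  have := Groth.Agent.Ega3B.ProjProper.isProper_toSpec 2 k
  exact LocallyOfFiniteType.jacobsonSpace (CohB1.ProjSpace.toSpec 2 k)

theorem isClosed_zpt {p : Fin 3 → k} (hp : p 0 = 1) : IsClosed ({zpt hp} : Set (P2 k)) := by
  have := jacobson (k := k)
  have h1 := (isAffineOpen_D (n := 2) (k := k) 0).fromSpec.isOpenEmbedding.preimage_closedPoints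
  have h2 : ypt hp ∈ closedPoints (Spec Γ(P2 k, D 2 k 0)) := isClosed_ypt hp
  rw [← h1] at h2
  exact h2

section

variable {ℓ : ℕ} {t : Fin ℓ → k} (ht : Function.Injective t)

/-- The set of the points. -/
noncomputable def ZZ (t : Fin ℓ → k) : Closeds (P2 k) :=
  ⟨Set.range fun j => zpt (pt_zero (t j)), by
    have h1 : (Set.range fun j => zpt (pt_zero (t j))) = ⋃ j, {zpt (pt_zero (t j))} := by
      ext x
      simp [eq_comm]
    rw [h1]
    exact isClosed_iUnion_of_finite fun j => isClosed_zpt _⟩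

/-- The ideal sheaf of the points. -/
noncomputable def II (t : Fin ℓ → k) : (P2 k).IdealSheafData := Scheme.IdealSheafData.vanishingIdeal (ZZ t)

theorem mem_support (x : P2 k) : x ∈ (II t).support ↔ ∃ j, zpt (pt_zero (t j)) = x := by
  have h1 : ((II t).support : Set (P2 k)) = ZZ t := Scheme.IdealSheafData.coe_support_vanishingIdeal _
  rw [← SetLike.mem_coe, h1]
  exact Iff.rfl

theorem support_mem (x : P2 k) (hx : x ∈ (II t).support) : x ∈ D 2 k 0 := by
  obtain ⟨j, rfl⟩ := (mem_support x).mp hx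
  exact zpt_mem _

theorem support_closed (x : P2 k) (hx : x ∈ (II t).support) : IsClosed ({x} : Set (P2 k)) := by
  obtain ⟨j, rfl⟩ := (mem_support x).mp hx
  exact isClosed_zpt _

theorem mem_ideal (r : Γ(P2 k, D 2 k 0)) : r ∈ (II t).ideal ⟨D 2 k 0, isAffineOpen_D 0⟩ ↔
    ∀ j, evR (pt_zero (t j)) r = 0 := by
  rw [II, Scheme.IdealSheafData.vanishingIdeal_ideal, PrimeSpectrum.mem_vanishingIdeal]
  constructor
  · intro h j
    exact h (ypt (pt_zero (t j))) ⟨j, rfl⟩
  · rintro h y ⟨j, hj⟩
    have h1 : ypt (pt_zero (t j)) = y :=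
      (isAffineOpen_D (n := 2) (k := k) 0).fromSpec.isOpenEmbedding.injective hj
    rw [← h1]
    exact h j

include ht in
theorem zpt_injective : Function.Injective fun j => zpt (pt_zero (t j)) := by
  intro i j hij
  have h1 : ypt (pt_zero (t i)) = ypt (pt_zero (t j)) :=
    (isAffineOpen_D (n := 2) (k := k) 0).fromSpec.isOpenEmbedding.injective hij
  by_contra hne
  obtain ⟨r, hr⟩ := exists_interp ht (Pi.single i 1)
  have h2 : r ∈ (ypt (pt_zero (t j))).asIdeal := by
    change evR (pt_zero (t j)) r = 0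
    rw [hr, Pi.single_eq_of_ne (Ne.symm hne)]
  rw [← h1] at h2
  have h3 : evR (pt_zero (t i)) r = 0 := h2
  rw [hr, Pi.single_eq_same] at h3
  exact one_ne_zero h3

theorem isReduced_II : IsReduced (II t).subscheme := Groth.Agent.Ega1.ReducedSub.isReduced_subscheme_vanishingIdeal _

include ht in
theorem card_II : Nat.card ↥(II t).subscheme = ℓ := by
  have h1 : Function.Injective (II t).subschemeι := (II t).subschemeι.isEmbedding.injective
  have h2 : Set.range (II t).subschemeι = Set.range fun j => zpt (pt_zero (t j)) := by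
    rw [Scheme.IdealSheafData.range_subschemeι]
    exact Scheme.IdealSheafData.coe_support_vanishingIdeal _
  have h3 := Nat.card_congr ((Equiv.ofInjective _ h1).trans ((Equiv.setCongr h2).trans
    (Equiv.ofInjective _ (zpt_injective ht)).symm))
  rw [h3, Nat.card_eq_fintype_card, Fintype.card_fin]

section mod

variable {ι : Type} [Fintype ι] {a : ι → ℤ}

theorem isFinLocFree_OO : FlatMod.IsFinLocFree (OO 2 k a) :=
  Groth.Agent.Pic13.H940.AddL.isFinLocFree_biproduct _ fun i =>
    Groth.Agent.Pic13.H940.AddL.isFinLocFree_of_isInvertible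
      (Ega3B.ProjFrame.isInvertible_twistProjSpace 2 k (a i))

/-- Sections of `I M` vanish at the points. -/
theorem E_incl (u : Sec (CohB1.tensorMod (OO 2 k a) (ClSub.idealMod (II t))) (D 2 k 0)) (j : Fin ℓ) :
    E (pt (t j)) (appS (LogNCD.inclTwist (OO 2 k a) (II t)) (D 2 k 0) u) = 0 := by
  refine K913.TauAff.tensor_induction (isCoh_OO (n := 2) (k := k) (a := a)).1
    (CohqA.IdealMod.isQCoh_idealMod (II t)) ⟨D 2 k 0, isAffineOpen_D 0⟩
    (fun u => E (pt (t j)) (appS (LogNCD.inclTwist (OO 2 k a) (II t)) (D 2 k 0) u) = 0) ?_ ?_ ?_ u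
  · rw [map_zero, E_zero (pt_zero (t j))]
  · intro x y hx hy
    have h1 : appS (LogNCD.inclTwist (OO 2 k a) (II t)) (D 2 k 0) (x + y) = _ := map_add _ _ _
    rw [h1, E_add (pt_zero (t j)), hx, hy, add_zero]
  · intro m c
    have h1 : OmegaSh.idealSect (II t) (D 2 k 0) c ∈ (II t).ideal ⟨D 2 k 0, isAffineOpen_D 0⟩ :=
      (K922.Quot.exists_idealSect_iff (II t) ⟨D 2 k 0, isAffineOpen_D 0⟩ _).1 ⟨c, rfl⟩
    have h2 := (mem_ideal _).mp h1 j
    have h3 := K913.TauAff.inclTwist_tmul (OO 2 k a) (II t) (D 2 k 0) m c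
    rw [h3, E_smul (pt_zero (t j)), h2, zero_smul]

/-- Sections vanishing at the points are sections of `I M`. -/
theorem exists_incl (s : Sec (OO 2 k a) (D 2 k 0)) (hs : ∀ j, E (pt (t j)) s = 0) :
    ∃ u, appS (LogNCD.inclTwist (OO 2 k a) (II t)) (D 2 k 0) u = s := by
  classical
  obtain ⟨e, he, hgen⟩ := exists_basis (k := k) (a := a)
  obtain ⟨r, rfl⟩ := hgen s
  have hr : ∀ i j, evR (pt_zero (t j)) (r i) = 0 := by
    intro i j
    have h1 := congrFun (hs j) i
    have hsum : ∀ (s : Finset ι), E (pt (t j)) (∑ i ∈ s, r i • e i) =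
        ∑ i ∈ s, evR (pt_zero (t j)) (r i) • E (pt (t j)) (e i) := by
      intro s
      induction s using Finset.induction_on with
      | empty =>
        rw [Finset.sum_empty, Finset.sum_empty, E_zero (pt_zero (t j))]
      | insert i s hi ih =>
        rw [Finset.sum_insert hi, Finset.sum_insert hi, E_add (pt_zero (t j)), E_smul (pt_zero (t j)), ih]
    rw [hsum, Finset.sum_apply, Finset.sum_eq_single i] at h1
    · rw [Pi.smul_apply, he (pt_zero (t j)), if_pos rfl, smul_eq_mul, mul_one] at h1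
      exact h1
    · intro l _ hl
      rw [Pi.smul_apply, he (pt_zero (t j)), if_neg hl, smul_zero]
    · intro h
      exact absurd (Finset.mem_univ _) h
  choose c hc using fun i => (K922.Quot.exists_idealSect_iff (II t) ⟨D 2 k 0, isAffineOpen_D 0⟩ (r i)).2
    ((mem_ideal _).mpr (hr i))
  refine ⟨∑ i, SecTwist.tmul (OO 2 k a) (ClSub.idealMod (II t)) (D 2 k 0) (e i) (c i), ?_⟩
  rw [map_sum]
  refine Finset.sum_congr rfl fun i _ => ?_
  have h3 := K913.TauAff.inclTwist_tmul (OO 2 k a) (II t) (D 2 k 0) (e i) (c i)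
  have h4 : OmegaSh.idealSect (II t) (D 2 k 0) (c i) = r i := hc i
  rw [h3, h4]

end mod

end

end K57.Pts4
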