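import Groth.Agent.Coherent.K57.GG
import Mathlib.LinearAlgebra.Vandermonde

/-!
# The linear algebra of the vanishing of the cohomology of `F_φ ⊗ I_Z`

`gen_lin`: for general `φ` the map `(v, w) ↦ ((0, v) + w_j φ(p_j))_j` is injective.
-/

set_option autoImplicit false
set_option backward.isDefEq.respectTransparency false

universe u

namespace K57.Pts5

open Groth.Agent K699.TwHom K57.Mat K57.MatSheaf K57.GenV K57.Gaeta K57.GG MvPolynomial

variable {k : Type u} [Field k]

/-- The point `[1 : t : 0]`. -/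
def pt (t : k) : Fin 3 → k := ![1, t, 0]

theorem la_aux [Infinite k] {n : ℕ} {t : Fin (n + 1) → k} (ht : Function.Injective t) (V : Fin (n + 1) → k)
    (W : Fin (n + 1) → Fin n → k)
    (h : ∀ j s', V s' + ∑ s, W j s * ((if s' = s.castSucc then t j else 0) + (if s' = s.succ then -1 else 0)) = 0) :
    V = 0 ∧ W = 0 := by
  have key : ∀ j (x : k), ∑ s', V s' * x ^ (s' : ℕ) + (t j - x) * ∑ s, W j s * x ^ (s : ℕ) = 0 := by
    intro j x
    have h1 : ∑ s', (V s' + ∑ s, W j s * ((if s' = s.castSucc then t j else 0) + (if s' = s.succ then -1 else 0))) *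
        x ^ (s' : ℕ) = 0 := Finset.sum_eq_zero fun s' _ => by rw [h, zero_mul]
    rw [← h1]
    simp only [add_mul, Finset.sum_add_distrib, Finset.sum_mul]
    congr 1
    rw [Finset.sum_comm, Finset.mul_sum]
    refine Finset.sum_congr rfl fun s _ => ?_
    simp only [mul_add, add_mul, Finset.sum_add_distrib]
    rw [Finset.sum_eq_single s.castSucc, Finset.sum_eq_single s.succ]
    · simp only [if_true, Fin.val_castSucc, Fin.val_succ]
      ring
    · intro b _ hb
      rw [if_neg hb]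
      ring
    · intro h
      exact absurd (Finset.mem_univ _) h
    · intro b _ hb
      rw [if_neg hb]
      ring
    · intro h
      exact absurd (Finset.mem_univ _) h
  have hV : V = 0 := by
    have h1 : (Matrix.vandermonde t).det ≠ 0 := Matrix.det_vandermonde_ne_zero_iff.mpr ht
    refine Matrix.eq_zero_of_mulVec_eq_zero h1 ?_
    funext j
    have h2 := key j (t j)
    rw [sub_self, zero_mul, add_zero] at h2
    rw [Matrix.mulVec, dotProduct, Pi.zero_apply, ← h2]
    exact Finset.sum_congr rfl fun s _ => by rw [Matrix.vandermonde_apply, mul_comm]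
  refine ⟨hV, funext fun j => ?_⟩
  subst hV
  let Q : Polynomial k := ∑ s : Fin n, Polynomial.C (W j s) * Polynomial.X ^ (s : ℕ)
  have h1 : (Polynomial.C (t j) - Polynomial.X) * Q = 0 := by
    refine Polynomial.funext fun x => ?_
    have h2 := key j x
    simp only [Pi.zero_apply, zero_mul, Finset.sum_const_zero, zero_add] at h2
    rw [Polynomial.eval_mul, Polynomial.eval_sub, Polynomial.eval_C, Polynomial.eval_X, Polynomial.eval_zero,
      Polynomial.eval_finsetSum, ← h2]
    congr 1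
    exact Finset.sum_congr rfl fun s _ => by simp
  have h2 : (Polynomial.C (t j) - Polynomial.X : Polynomial k) ≠ 0 := by
    intro h3
    have h4 := congrArg (fun q => Polynomial.coeff q 1) h3
    simp at h4
  have h3 : Q = 0 := (mul_eq_zero.mp h1).resolve_left h2
  funext s
  have h4 := congrArg (fun q => Polynomial.coeff q (s : ℕ)) h3
  simp only [Q, Polynomial.finsetSum_coeff, Polynomial.coeff_C_mul, Polynomial.coeff_X_pow, Polynomial.coeff_zero,
    mul_ite, mul_one, mul_zero] at h4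
  rw [Finset.sum_eq_single s] at h4
  · simpa using h4
  · intro b _ hb
    rw [if_neg fun h => hb (Fin.ext h.symm)]
  · intro h
    exact absurd (Finset.mem_univ _) h

section fam

variable {α₁ α₂ α₃ ℓ : ℕ}

/-- The linear part. -/
noncomputable def lin1 (t : Fin ℓ → k) : Mt 2 k (dA α₁) (dB α₂ α₃) →ₗ[k] (Fin ℓ → Fin α₁ → k) →ₗ[k]
    (Fin ℓ → (Fin α₂ ⊕ Fin α₃) → k) :=
  LinearMap.mk₂ k (fun F w j c => ∑ m, w j m * eval (pt (t j)) (F m c).1)
    (fun F G w => funext fun j => funext fun c => by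
      simp [mul_add, Finset.sum_add_distrib])
    (fun r F w => funext fun j => funext fun c => by
      simp [Finset.mul_sum, mul_left_comm, MvPolynomial.smul_eval])
    (fun F v w => funext fun j => funext fun c => by
      simp [add_mul, Finset.sum_add_distrib])
    (fun r F w => funext fun j => funext fun c => by
      simp [Finset.mul_sum, mul_assoc])

/-- The constant part. -/
def lin2 : (Fin α₃ → k) →ₗ[k] (Fin ℓ → (Fin α₂ ⊕ Fin α₃) → k) where
  toFun v _ c := Sum.elim (fun _ => 0) v c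
  map_add' v w := funext fun j => funext fun c => by rcases c with c | c <;> simp
  map_smul' r v := funext fun j => funext fun c => by rcases c with c | c <;> simp

/-- The family of linear maps. -/
noncomputable def lin (t : Fin ℓ → k) (F : Mt 2 k (dA α₁) (dB α₂ α₃)) :
    ((Fin α₃ → k) × (Fin ℓ → Fin α₁ → k)) →ₗ[k] (Fin ℓ → (Fin α₂ ⊕ Fin α₃) → k) :=
  lin2.comp (LinearMap.fst _ _ _) + (lin1 t F).comp (LinearMap.snd _ _ _)

theorem lin_apply (t : Fin ℓ → k) (F : Mt 2 k (dA α₁) (dB α₂ α₃)) (v : Fin α₃ → k) (w : Fin ℓ → Fin α₁ → k)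
    (j : Fin ℓ) (c : Fin α₂ ⊕ Fin α₃) : lin t F (v, w) j c =
      Sum.elim (fun _ => 0) v c + ∑ m, w j m * eval (pt (t j)) (F m c).1 := rfl

theorem isPolyFam_lin (t : Fin ℓ → k) {m : ℕ} (c : Mt 2 k (dA α₁) (dB α₂ α₃) ≃ₗ[k] (Fin m → k)) :
    IsPolyFam c (lin t) := by
  intro x g
  refine isPoly_congr (isPoly_add (isPoly_const (g (lin2 x.1))) (isPolyFam_linear c (lin1 t) x.2 g)) fun v => ?_
  rw [lin, LinearMap.add_apply, map_add]
  rfl

end fam

/-- The special matrix. -/
noncomputable def special {α₁ α₂ α₃ n r : ℕ} (σ₁ : Fin α₁ ≃ Fin α₂ ⊕ (Fin r × Fin n))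
    (σ₃ : Fin α₃ ≃ Fin r × Fin (n + 1)) (m : Fin α₁) (c : Fin α₂ ⊕ Fin α₃) : MvPolynomial (Fin 3) k :=
  match σ₁ m, c with
  | Sum.inl a, Sum.inl c => if a = c then X 0 else 0
  | Sum.inl _, Sum.inr _ => 0
  | Sum.inr _, Sum.inl _ => 0
  | Sum.inr (i, s), Sum.inr c => if i = (σ₃ c).1 then
      (if (σ₃ c).2 = s.castSucc then X 0 * X 1 else 0) + (if (σ₃ c).2 = s.succ then -(X 0 * X 0) else 0) else 0

theorem special_hom {α₁ α₂ α₃ n r : ℕ} (σ₁ : Fin α₁ ≃ Fin α₂ ⊕ (Fin r × Fin n))
    (σ₃ : Fin α₃ ≃ Fin r × Fin (n + 1)) (m : Fin α₁) (c : Fin α₂ ⊕ Fin α₃) :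
    (special (k := k) σ₁ σ₃ m c).IsHomogeneous (dB α₂ α₃ c - dA α₁ m).toNat := by
  unfold special
  rcases h : σ₁ m with a | ⟨i, s⟩ <;> rcases c with c | c <;> simp only [dB, dA, Sum.elim_inl, Sum.elim_inr]
  · split_ifs
    · exact isHomogeneous_X _ _
    · exact isHomogeneous_zero _ _ _
  · exact isHomogeneous_zero _ _ _
  · exact isHomogeneous_zero _ _ _
  · have h2 : ((0 : ℤ) - -2).toNat = 1 + 1 := rfl
    rw [h2]
    split_ifs
    all_goals first
      | exact isHomogeneous_zero _ _ _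
      | (refine IsHomogeneous.add ?_ ?_ <;> first
          | exact isHomogeneous_zero _ _ _
          | exact (isHomogeneous_X _ _).mul (isHomogeneous_X _ _)
          | exact ((isHomogeneous_X _ _).mul (isHomogeneous_X _ _)).neg)

theorem special_inj [Infinite k] {α₁ α₂ α₃ n r : ℕ} (σ₁ : Fin α₁ ≃ Fin α₂ ⊕ (Fin r × Fin n))
    (σ₃ : Fin α₃ ≃ Fin r × Fin (n + 1)) {t : Fin (n + 1) → k} (ht : Function.Injective t) :
    Function.Injective (lin (α₂ := α₂) t fun m c => ⟨special σ₁ σ₃ m c, special_hom σ₁ σ₃ m c⟩) := by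
  rw [injective_iff_map_eq_zero]
  rintro ⟨v, w⟩ h
  have h1 : ∀ j c, Sum.elim (fun _ => 0) v c + ∑ m, w j m * eval (pt (t j)) (special σ₁ σ₃ m c) = 0 :=
    fun j c => congrFun (congrFun h j) c
  have hl : ∀ j (a : Fin α₂), w j (σ₁.symm (Sum.inl a)) = 0 := by
    intro j a
    have h2 := h1 j (Sum.inl a)
    rw [Sum.elim_inl, zero_add, Finset.sum_eq_single (σ₁.symm (Sum.inl a))] at h2
    · simpa [special, pt] using h2
    · intro m _ hm
      have h3 : special (k := k) σ₁ σ₃ m (Sum.inl a) = 0 := by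
        unfold special
        rcases h4 : σ₁ m with b | ⟨i, s⟩
        · simp only
          rw [if_neg]
          rintro rfl
          exact hm ((σ₁.symm_apply_eq.mpr h4.symm).symm)
        · rfl
      rw [h3, map_zero, mul_zero]
    · intro h
      exact absurd (Finset.mem_univ _) h
  have hr : ∀ i : Fin r, (fun s' => v (σ₃.symm (i, s'))) = 0 ∧ (fun j s => w j (σ₁.symm (Sum.inr (i, s)))) = 0 := by
    intro i
    refine la_aux ht _ _ fun j s' => ?_
    have h2 := h1 j (Sum.inr (σ₃.symm (i, s')))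
    rw [Sum.elim_inr] at h2
    refine Eq.trans ?_ h2
    congr 1
    rw [← Equiv.sum_comp σ₁.symm, Fintype.sum_sum_type]
    have h3 : ∑ a : Fin α₂, w j (σ₁.symm (Sum.inl a)) *
        eval (pt (t j)) (special σ₁ σ₃ (σ₁.symm (Sum.inl a)) (Sum.inr (σ₃.symm (i, s')))) = 0 :=
      Finset.sum_eq_zero fun a _ => by rw [hl, zero_mul]
    rw [h3, zero_add, Fintype.sum_prod_type, Finset.sum_eq_single i]
    · refine Finset.sum_congr rfl fun s _ => ?_
      congr 1
      simp only [special, Equiv.apply_symm_apply, if_true, map_add]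
      congr 1
      · split_ifs
        · simp [pt]
        · simp
      · split_ifs
        · simp [pt]
        · simp
    · intro i' _ hi'
      refine Finset.sum_eq_zero fun s _ => ?_
      simp only [special, Equiv.apply_symm_apply]
      rw [if_neg hi', map_zero, mul_zero]
    · intro h
      exact absurd (Finset.mem_univ _) h
  have hv : v = 0 := by
    funext c
    have h2 := congrFun (hr (σ₃ c).1).1 (σ₃ c).2
    simp only [Prod.mk.eta, Equiv.symm_apply_apply] at h2
    exact h2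
  have hw : w = 0 := by
    funext j m
    rcases h3 : σ₁ m with a | ⟨i, s⟩
    · have h4 : m = σ₁.symm (Sum.inl a) := (σ₁.symm_apply_eq.mpr h3.symm).symm
      rw [h4, hl]
      rfl
    · have h4 : m = σ₁.symm (Sum.inr (i, s)) := (σ₁.symm_apply_eq.mpr h3.symm).symm
      rw [h4]
      exact congrFun (congrFun (hr i).2 j) s
  rw [hv, hw]
  rfl

theorem gen_lin [Infinite k] {α₁ α₂ α₃ r ℓ : ℕ} (hℓ : 1 ≤ ℓ) (h₃ : α₃ = ℓ * r) (h₁ : α₁ = α₂ + (ℓ - 1) * r)
    {t : Fin ℓ → k} (ht : Function.Injective t) :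
    Gen k _ fun F : Mt 2 k (dA α₁) (dB α₂ α₃) => Function.Bijective (lin t F) := by
  obtain ⟨n, rfl⟩ : ∃ n, ℓ = n + 1 := ⟨ℓ - 1, by omega⟩
  obtain ⟨σ₁⟩ : Nonempty (Fin α₁ ≃ Fin α₂ ⊕ (Fin r × Fin n)) := by
    rw [← Fintype.card_eq]
    simp [h₁, mul_comm]
  obtain ⟨σ₃⟩ : Nonempty (Fin α₃ ≃ Fin r × Fin (n + 1)) := by
    rw [← Fintype.card_eq]
    simp [h₃, mul_comm]
  have hdim : Module.finrank k ((Fin α₃ → k) × (Fin (n + 1) → Fin α₁ → k)) =
      Module.finrank k (Fin (n + 1) → (Fin α₂ ⊕ Fin α₃) → k) := by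
    rw [Module.finrank_prod, Module.finrank_fin_fun]
    simp only [Module.finrank_pi_fintype, Finset.sum_const, Finset.card_univ, Fintype.card_fin, smul_eq_mul,
      Module.finrank_self, Fintype.card_sum, mul_one]
    subst h₃ h₁
    simp only [Nat.add_sub_cancel]
    ring
  refine (Gen.injective (isPolyFam_lin t (coord k _)) _ (special_inj σ₁ σ₃ ht)).mono fun F hF => ⟨hF, ?_⟩
  exact (LinearMap.injective_iff_surjective_of_finrank_eq_finrank hdim).mp hF

end K57.Pts5
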