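import Groth.Agent.Coherent.K57.Pts4
import Groth.Agent.Coherent.K57.Pts5
import Groth.Agent.S0844
import Groth.Agent.CohqA.HBiprod
import Groth.Agent.Coherent.K57.HypSeq

/-!
# Vanishing of the cohomology of `F_φ ⊗ I_Z` for general `φ`
-/

set_option autoImplicit false
set_option backward.isDefEq.respectTransparency false

universe u

open CategoryTheory CategoryTheory.Limits AlgebraicGeometry Opposite TopologicalSpace

namespace K57.Pts6

open Groth.Agent Groth.Agent.Divis.ProjPic Groth.Agent.VarietyB.TwistMul K699.TwHom Groth.Agent.Sga67.Sec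
  Groth.Agent.Ega3B.SectExact
  K57.Mat K57.MatSheaf K57.Gaeta K57.GenV K57.Pts3 K57.Pts2 K57.Pts4

attribute [local instance] Abelian.hasFiniteBiproducts

variable {k : Type u} [Field k] {α₁ α₂ α₃ : ℕ}

theorem hh_dA (i : ℕ) : Subsingleton (Coh.HH (P2 k) (OO 2 k (dA α₁)) i) :=
  CohqA.HBiprod.subsingleton_HH_biproduct _ i fun j =>
    S0844.result k 2 (-2) i (by omega) (by omega)

theorem hh_dB (i : ℕ) (hi : 0 < i) : Subsingleton (Coh.HH (P2 k) (OO 2 k (dB α₂ α₃)) i) :=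
  CohqA.HBiprod.subsingleton_HH_biproduct _ i fun j => by
    rcases j with j | j
    · exact S0844.result k 2 (-1) i (by omega) (by omega)
    · exact S0844.result k 2 0 i (by omega) (by omega)

theorem sec_neg (s : Γ(T 2 k (-1), (⊤ : (P2 k).Opens))) : s = 0 := by
  have := S0844.result k 2 (-1) 0 (by omega) (by omega)
  apply (secEquiv _).symm.injective
  exact Subsingleton.elim _ _

/-- Global sections of the target are vectors of constants. -/
theorem glob_form (b : Sec (OO 2 k (dB α₂ α₃)) ⊤) : ∃ v : Fin α₃ → k,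
    ∀ (x : ProjectiveSpectrum (gr 2 k)) (hx : x ∈ (⊤ : (P2 k).Opens)) (c : Fin α₂ ⊕ Fin α₃),
      val b x hx c = al x (MvPolynomial.C (Sum.elim (fun _ => 0) v c)) := by
  have h1 : ∀ i : Fin α₃, ∃ v : k, ∀ (x : ProjectiveSpectrum (gr 2 k)) (hx : x ∈ (⊤ : (P2 k).Opens)),
      val b x hx (Sum.inr i) = al x (MvPolynomial.C v) := by
    intro i
    obtain ⟨f, hf⟩ := exists_poly (n := 2) (R := k) (d := 0) (appS (pr (dB α₂ α₃) (Sum.inr i)) ⊤ b)
    have h2 : f.1.IsHomogeneous 0 := f.2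
    have h3 : f.1 = MvPolynomial.C (MvPolynomial.coeff 0 f.1) :=
      MvPolynomial.totalDegree_eq_zero_iff_eq_C.mp ((MvPolynomial.totalDegree_zero_iff_isHomogeneous _).mpr h2)
    refine ⟨MvPolynomial.coeff 0 f.1, fun x hx => ?_⟩
    rw [← h3]
    exact hf x hx
  choose v hv using h1
  refine ⟨v, fun x hx c => ?_⟩
  rcases c with i | i
  · have h2 : appS (pr (dB α₂ α₃) (Sum.inl i)) ⊤ b = 0 := sec_neg _
    change evT (appS (pr (dB α₂ α₃) (Sum.inl i)) ⊤ b) x hx = _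
    rw [h2, Sum.elim_inl, map_zero, map_zero]
    rfl
  · exact hv i x hx

theorem exists_glob (v : Fin α₃ → k) : ∃ b : Sec (OO 2 k (dB α₂ α₃)) ⊤,
    ∀ (x : ProjectiveSpectrum (gr 2 k)) (hx : x ∈ (⊤ : (P2 k).Opens)) (c : Fin α₂ ⊕ Fin α₃),
      val b x hx c = al x (MvPolynomial.C (Sum.elim (fun _ => 0) v c)) := by
  have h1 : ∀ c : Fin α₂ ⊕ Fin α₃, ∃ s : Γ(T 2 k (dB α₂ α₃ c), (⊤ : (P2 k).Opens)),
      ∀ (x : ProjectiveSpectrum (gr 2 k)) (hx : x ∈ (⊤ : (P2 k).Opens)),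
        evT s x hx = al x (MvPolynomial.C (Sum.elim (fun _ => 0) v c)) := by
    rintro (i | i)
    · refine ⟨0, fun x hx => ?_⟩
      rw [Sum.elim_inl, map_zero, map_zero]
      rfl
    · refine ⟨frac (𝒜 := gr 2 k) (d := 0) (i := 0) (j := 0) (a := MvPolynomial.C (v i)) (s := 1)
        (MvPolynomial.isHomogeneous_C _ _) (MvPolynomial.isHomogeneous_one _ _) (by simp) ⊤
        (fun x _ h => x.isPrime.ne_top ((Ideal.eq_top_iff_one _).mpr h)), fun x hx => ?_⟩
      have h2 := evT_frac (𝒜 := gr 2 k) (d := 0) (i := 0) (j := 0) (a := MvPolynomial.C (v i)) (s := 1)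
        (MvPolynomial.isHomogeneous_C _ _) (MvPolynomial.isHomogeneous_one _ _) (by simp) (⊤ : (P2 k).Opens)
        (fun x _ h => x.isPrime.ne_top ((Ideal.eq_top_iff_one _).mpr h)) x hx
      refine h2.trans ?_
      exact Localization.mk_one_eq_algebraMap _
  choose s hs using h1
  obtain ⟨b, hb⟩ := exists_sec (U := (⊤ : (P2 k).Opens)) (a := dB α₂ α₃) s
  exact ⟨b, fun x hx c => by rw [hb]; exact hs c x hx⟩

theorem E_glob {p : Fin 3 → k} (hp : p 0 = 1) (b : Sec (OO 2 k (dB α₂ α₃)) ⊤) (v : Fin α₃ → k)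
    (hb : ∀ (x : ProjectiveSpectrum (gr 2 k)) (hx : x ∈ (⊤ : (P2 k).Opens)) (c : Fin α₂ ⊕ Fin α₃),
      val b x hx c = al x (MvPolynomial.C (Sum.elim (fun _ => 0) v c))) :
    E p (res _ (le_top : D 2 k 0 ≤ ⊤) b) = Sum.elim (fun _ => 0) v := by
  funext c
  rw [E_eq hp _ c (N := 0) (f := MvPolynomial.C (Sum.elim (fun _ => 0) v c)), MvPolynomial.eval_C]
  rw [pow_zero, map_one, one_mul, val_res, hb]

section main

variable {ℓ : ℕ} {t : Fin ℓ → k} (ht : Function.Injective t) (F : Mt 2 k (dA α₁) (dB α₂ α₃))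
  (hF : Function.Bijective (Pts5.lin t F))

include hF in
theorem mono_F (hℓ : 1 ≤ ℓ) : Mono (mor (dAB α₁ α₂ α₃) F) := by
  refine mono_of_eval _ F (pt (t ⟨0, hℓ⟩)) ?_
  intro v w hvw
  have h1 : Pts5.lin t F (0, fun j => if j = ⟨0, hℓ⟩ then v - w else 0) = 0 := by
    funext j c
    rw [Pts5.lin_apply]
    have h2 : Sum.elim (fun _ => 0) (0 : Fin α₃ → k) c = 0 := by rcases c with c | c <;> rfl
    rw [h2, zero_add]
    by_cases hj : j = ⟨0, hℓ⟩
    · subst hj
      have h3 := congrFun hvw c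
      simp only at h3
      simp only [if_true, Pi.sub_apply, sub_mul, Finset.sum_sub_distrib, Pi.zero_apply]
      exact sub_eq_zero.mpr h3
    · simp [hj]
  have h2 := hF.1 (h1.trans (map_zero _).symm)
  have h3 := congrFun (congrArg Prod.snd h2) ⟨0, hℓ⟩
  simp only [if_true] at h3
  exact sub_eq_zero.mp h3

include ht hF in
theorem vanishing (hℓ : 1 ≤ ℓ) (i : ℕ) : Subsingleton (Coh.HH (P2 k)
    (CohB1.tensorMod (cokernel (mor (dAB α₁ α₂ α₃) F)) (ClSub.idealMod (II t))) i) := by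
  have hm := mono_F F hF hℓ
  have hnoeth : IsNoetherian (P2 k) := K57.HypSeq.isNoetherian k 2
  refine Pts1.vanish (mor (dAB α₁ α₂ α₃) F) (II t) isFinLocFree_OO hh_dA hh_dB
    (fun i hi => subsingleton_HH _ _ isCoh_OO (fun x hx => support_closed x hx) i hi)
    (fun i hi => subsingleton_HH _ _ isCoh_OO (fun x hx => support_closed x hx) i hi) ?_ ?_ i
  · refine hinj_of (mor (dAB α₁ α₂ α₃) F) (II t) isFinLocFree_OO isCoh_OO (fun x hx => support_mem x hx)
      (isAffineOpen_D 0) ?_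
    rintro b a ⟨u, hu⟩
    obtain ⟨v, hv⟩ := glob_form b
    have h1 : Pts5.lin t F (v, fun j => E (pt (t j)) a) = 0 := by
      funext j c
      have h2 := E_incl (t := t) u j
      rw [hu, E_add (pt_zero (t j)), E_glob (pt_zero (t j)) b v hv] at h2
      have h3 := congrFun h2 c
      rw [Pi.add_apply, E_mor (pt_zero (t j))] at h3
      exact h3
    have h2 := hF.1 (h1.trans (map_zero _).symm)
    have h3 : v = 0 := congrArg Prod.fst h2
    have h4 : (fun j => E (pt (t j)) a) = 0 := congrArg Prod.snd h2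
    refine ⟨?_, exists_incl (t := t) a fun j => congrFun h4 j⟩
    refine val_ext fun x hx c => ?_
    rw [hv, h3, val_zero]
    rcases c with c | c <;> simp
  · refine hsurj_of (mor (dAB α₁ α₂ α₃) F) (II t) isCoh_OO (fun x hx => support_mem x hx) (isAffineOpen_D 0) ?_
    intro s
    obtain ⟨⟨v, w⟩, hvw⟩ := hF.2 fun j => E (pt (t j)) s
    obtain ⟨b, hb⟩ := exists_glob (k := k) (α₂ := α₂) v
    classical
    obtain ⟨a, ha⟩ := exists_E (a := dA α₁) ht w
    obtain ⟨u, hu⟩ := exists_incl (t := t) (s - (res _ (le_top : D 2 k 0 ≤ ⊤) b +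
      appS (mor (dAB α₁ α₂ α₃) F) (D 2 k 0) a)) fun j => by
        rw [E_sub (pt_zero (t j)), E_add (pt_zero (t j)), E_glob (pt_zero (t j)) b v hb, sub_eq_zero,
          ← congrFun hvw j]
        funext c
        rw [Pi.add_apply, E_mor (pt_zero (t j)), ha]
        rfl
    exact ⟨b, a, u, by rw [hu]; abel⟩

end main

theorem main [Infinite k] {r ℓ : ℕ} (hℓ : 1 ≤ ℓ) (h₃ : α₃ = ℓ * r) (h₁ : α₁ = α₂ + (ℓ - 1) * r) :
    Gen k _ fun φ : AA k α₁ ⟶ BB k α₂ α₃ =>
      Mono φ ∧ ∃ Z : (P2 k).IdealSheafData, IsReduced Z.subscheme ∧ Nat.card ↥Z.subscheme = ℓ ∧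
          ∀ i : ℕ, Subsingleton (Coh.HH (P2 k) (CohB1.tensorMod (cokernel φ) (ClSub.idealMod Z)) i) := by
  obtain ⟨t, ht⟩ : ∃ t : Fin ℓ → k, Function.Injective t :=
    ⟨fun j => Infinite.natEmbedding k j, fun i j h => Fin.ext ((Infinite.natEmbedding k).injective h)⟩
  refine reduce k α₁ α₂ α₃ (Pts5.gen_lin (k := k) (α₁ := α₁) (α₂ := α₂) (α₃ := α₃) hℓ h₃ h₁ ht) fun F hF => ?_
  have := mono_F F hF hℓ
  refine ⟨mono_comp _ _, II t, isReduced_II, card_II ht, fun i => ?_⟩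
  have h1 := vanishing ht F hF hℓ i
  let e := (DCoh.tensorRightMod (ClSub.idealMod (II t))).mapIso (cokerIso k α₁ α₂ α₃ F)
  refine subsingleton_of_forall_eq 0 fun x => ?_
  have h2 : Groth.Agent.CohqB.HSeqMod.hmap e.inv i (Groth.Agent.CohqB.HSeqMod.hmap e.hom i x) = x := by
    rw [← Groth.Agent.CohqB.HSeqMod.hmap_comp_apply, e.hom_inv_id, Groth.Agent.CohqB.HSeqMod.hmap_id_apply]
  rw [← h2]
  have h3 : Groth.Agent.CohqB.HSeqMod.hmap e.hom i x = 0 := Subsingleton.elim (α := Coh.HH (P2 k)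
    (CohB1.tensorMod (cokernel (mor (dAB α₁ α₂ α₃) F)) (ClSub.idealMod (II t))) i) _ _
  rw [h3, map_zero]

end K57.Pts6
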