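import Groth.Agent.FormalB.HHLes
import Groth.Agent.Ega3B.DevQC
import Groth.Agent.S0002
import Mathlib.LinearAlgebra.Dimension.Finrank
import Mathlib.LinearAlgebra.FiniteDimensional.Basic
import Mathlib.Algebra.Order.BigOperators.Group.Finset

/-!
# Dimension inequalities from the long exact sequence of cohomology over a field
-/

set_option autoImplicit false
universe u

open CategoryTheory CategoryTheory.Limits AlgebraicGeometry

namespace K57.Rank

section LinAlg

variable {k : Type*} [Field k] {V₁ V₂ V₃ : Type*} [AddCommGroup V₁] [Module k V₁]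
  [AddCommGroup V₂] [Module k V₂] [AddCommGroup V₃] [Module k V₃]

/-- In an exact sequence `V₁ → V₂ → V₃` with finite-dimensional ends, `dim V₂ ≤ dim V₁ + dim V₃`. -/
theorem finrank_le_of_exact (f : V₁ →ₗ[k] V₂) (g : V₂ →ₗ[k] V₃) (h : Function.Exact f g)
    [Module.Finite k V₁] [Module.Finite k V₃] :
    Module.finrank k V₂ ≤ Module.finrank k V₁ + Module.finrank k V₃ := by
  have hker : LinearMap.ker g = LinearMap.range f := by
    ext x
    rw [LinearMap.mem_ker, h x, LinearMap.mem_range, Set.mem_range]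
  have : Module.Finite k (LinearMap.ker g) := by
    rw [hker]
    infer_instance
  have : Module.Finite k (LinearMap.range g) := inferInstance
  have : Module.Finite k (V₂ ⧸ LinearMap.ker g) :=
    Module.Finite.equiv (LinearMap.quotKerEquivRange g).symm
  have : Module.Finite k V₂ := Module.Finite.of_submodule_quotient (LinearMap.ker g)
  rw [← LinearMap.finrank_range_add_finrank_ker g, hker, add_comm]
  exact add_le_add (LinearMap.finrank_range_le f) (Submodule.finrank_le _)

/-- Dimension of the middle term of a five-term exact sequence in terms of the ranks of the outer maps. -/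
theorem finrank_eq_of_exact₄ {V₀ V₄ : Type*} [AddCommGroup V₀] [Module k V₀] [AddCommGroup V₄]
    [Module k V₄] (e : V₀ →ₗ[k] V₁) (f : V₁ →ₗ[k] V₂) (g : V₂ →ₗ[k] V₃) (h : V₃ →ₗ[k] V₄)
    (hef : Function.Exact e f) (hfg : Function.Exact f g) (hgh : Function.Exact g h)
    [Module.Finite k V₁] [Module.Finite k V₂] [Module.Finite k V₃] :
    Module.finrank k V₂ = (Module.finrank k V₁ - Module.finrank k (LinearMap.range e)) +
      (Module.finrank k V₃ - Module.finrank k (LinearMap.range h)) := by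
  have h1 : LinearMap.ker f = LinearMap.range e := by
    ext x
    rw [LinearMap.mem_ker, hef x, LinearMap.mem_range, Set.mem_range]
  have h2 : LinearMap.ker g = LinearMap.range f := by
    ext x
    rw [LinearMap.mem_ker, hfg x, LinearMap.mem_range, Set.mem_range]
  have h3 : LinearMap.ker h = LinearMap.range g := by
    ext x
    rw [LinearMap.mem_ker, hgh x, LinearMap.mem_range, Set.mem_range]
  have e1 := LinearMap.finrank_range_add_finrank_ker f
  have e2 := LinearMap.finrank_range_add_finrank_ker g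
  have e3 := LinearMap.finrank_range_add_finrank_ker h
  rw [h1] at e1
  rw [h2] at e2
  rw [h3] at e3
  omega

end LinAlg

open Groth.Agent.FormalB

variable {k : Type u} [Field k] {X : Scheme.{u}} [X.Over (Spec (CommRingCat.of k))]

/-- The dimension of `H^i(X, M)`. -/
noncomputable abbrev h (k : Type u) [Field k] {X : Scheme.{u}} [X.Over (Spec (CommRingCat.of k))]
    (M : X.Modules) (i : ℕ) : ℕ := Module.finrank k (Coh.HH X M i)

variable (S : ShortComplex X.Modules)

theorem h₂_le (hS : S.ShortExact) (i : ℕ) (f1 : Module.Finite k (Coh.HH X S.X₁ i))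
    (f3 : Module.Finite k (Coh.HH X S.X₃ i)) : h k S.X₂ i ≤ h k S.X₁ i + h k S.X₃ i :=
  finrank_le_of_exact _ _ (HHLes.exact_map_map k hS i)

theorem h₃_le (hS : S.ShortExact) (i : ℕ) (f2 : Module.Finite k (Coh.HH X S.X₂ i))
    (f1 : Module.Finite k (Coh.HH X S.X₁ (i + 1))) :
    h k S.X₃ i ≤ h k S.X₂ i + h k S.X₁ (i + 1) :=
  finrank_le_of_exact _ _ (HHLes.exact_map_δ k hS i)

theorem h₁_succ_le (hS : S.ShortExact) (i : ℕ) (f3 : Module.Finite k (Coh.HH X S.X₃ i))
    (f2 : Module.Finite k (Coh.HH X S.X₂ (i + 1))) :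
    h k S.X₁ (i + 1) ≤ h k S.X₃ i + h k S.X₂ (i + 1) :=
  finrank_le_of_exact _ _ (HHLes.exact_δ_map k hS i)

theorem HHmap_zero_injective (hS : S.ShortExact) :
    Function.Injective (Groth.Agent.FormalA.HHLin.HHmap k S.f 0) := by
  have hm : Mono ((Groth.Agent.CohqB.ToSheafExact.toAbF X).map S.f) :=
    (Groth.Agent.CohqB.ToSheafExact.shortExact_toAb hS).mono_f
  rw [injective_iff_map_eq_zero]
  intro x hx
  obtain ⟨a, rfl⟩ := (Abelian.Ext.mk₀_bijective _ _).2 x
  have h1 : (Abelian.Ext.mk₀ a).comp (Abelian.Ext.mk₀ ((Groth.Agent.CohqB.ToSheafExact.toAbF X).map S.f))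
      (add_zero 0) = 0 := hx
  rw [Abelian.Ext.mk₀_comp_mk₀, Abelian.Ext.mk₀_eq_zero_iff] at h1
  rw [Abelian.Ext.mk₀_eq_zero_iff]
  exact zero_of_comp_mono _ h1

theorem h₁_zero_le (hS : S.ShortExact) (f2 : Module.Finite k (Coh.HH X S.X₂ 0)) :
    h k S.X₁ 0 ≤ h k S.X₂ 0 :=
  LinearMap.finrank_le_finrank_of_injective (HHmap_zero_injective S hS)

/-- The rank of `H^i(M) → H^i(N)`. -/
noncomputable abbrev rk (k : Type u) [Field k] {X : Scheme.{u}} [X.Over (Spec (CommRingCat.of k))]
    {M N : X.Modules} (φ : M ⟶ N) (i : ℕ) : ℕ :=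
  Module.finrank k (LinearMap.range (Groth.Agent.FormalA.HHLin.HHmap k φ i))

theorem h₃_eq (hS : S.ShortExact) (i : ℕ) (f2 : Module.Finite k (Coh.HH X S.X₂ i))
    (f3 : Module.Finite k (Coh.HH X S.X₃ i)) (f1 : Module.Finite k (Coh.HH X S.X₁ (i + 1))) :
    h k S.X₃ i = (h k S.X₂ i - rk k S.f i) + (h k S.X₁ (i + 1) - rk k S.f (i + 1)) :=
  finrank_eq_of_exact₄ _ _ _ _ (HHLes.exact_map_map k hS i) (HHLes.exact_map_δ k hS i)
    (HHLes.exact_δ_map k hS i)

theorem rk_zero (hS : S.ShortExact) : rk k S.f 0 = h k S.X₁ 0 :=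
  LinearMap.finrank_range_of_inj (HHmap_zero_injective S hS)

theorem rk_of_subsingleton (hS : S.ShortExact) (i : ℕ) (h3 : Subsingleton (Coh.HH X S.X₃ i)) :
    rk k S.f i = h k S.X₂ i := by
  have : Function.Surjective (Groth.Agent.FormalA.HHLin.HHmap k S.f i) := fun y =>
    (HHLes.exact_map_map k hS i y).1 (Subsingleton.elim _ _)
  rw [rk, LinearMap.range_eq_top.2 this, finrank_top]

section Iso

variable {M N : X.Modules} (e : M ≅ N)

/-- `H^i` of isomorphic modules. -/
noncomputable def HHequiv (k : Type u) [Field k] {X : Scheme.{u}} [X.Over (Spec (CommRingCat.of k))]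
    {M N : X.Modules} (e : M ≅ N) (i : ℕ) : Coh.HH X M i ≃ₗ[k] Coh.HH X N i :=
  LinearEquiv.ofLinearMap (Groth.Agent.FormalA.HHLin.HHmap k e.hom i)
    (Groth.Agent.FormalA.HHLin.HHmap k e.inv i)
    (by rw [← Groth.Agent.FormalA.HHLin.HHmap_comp, e.inv_hom_id, Groth.Agent.FormalA.HHLin.HHmap_id])
    (by rw [← Groth.Agent.FormalA.HHLin.HHmap_comp, e.hom_inv_id, Groth.Agent.FormalA.HHLin.HHmap_id])

include e in
theorem h_congr (i : ℕ) : h k M i = h k N i := (HHequiv k e i).finrank_eq

end Iso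

end K57.Rank
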