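import Groth.Agent.Coherent.K57.HypSeq

/-!
# Comparison of the cohomology of `M ⊗ P` and `M' ⊗ P` for a morphism `M → M'`
-/

set_option autoImplicit false
universe u

open CategoryTheory CategoryTheory.Limits AlgebraicGeometry TopologicalSpace

namespace K57.RankStep

open Groth.Agent Groth.Agent.CohqB.SerTw K57.Rank

variable {k : Type u} [Field k] {X : Scheme.{u}} [X.Over (Spec (CommRingCat.of k))]
    [IsProper (X ↘ Spec (CommRingCat.of k))]

theorem fin (M : X.Modules) (hM : Coh.IsCoh M) (n : ℕ) : Module.Finite k (Coh.HH X M n) :=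
  Groth.Agent.S0002.result k X M hM n

section Pair

variable {M M' : X.Modules} (φ : M ⟶ M')

/-- `0 → ker φ → M → im φ → 0` -/
noncomputable def kerSeq : ShortComplex X.Modules :=
  ShortComplex.mk (kernel.ι φ) (Abelian.factorThruImage φ) (by
    rw [← cancel_mono (Abelian.image.ι φ), Category.assoc, Abelian.image.fac, kernel.condition,
      zero_comp])

theorem kerSeq_shortExact : (kerSeq φ).ShortExact := by
  have h1 : Mono (kerSeq φ).f := inferInstanceAs (Mono (kernel.ι φ))
  have h2 : Epi (kerSeq φ).g := inferInstanceAs (Epi (Abelian.factorThruImage φ))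
  refine ShortComplex.ShortExact.mk' ?_ h1 h2
  let ψ : kerSeq φ ⟶ ShortComplex.mk (kernel.ι φ) φ (kernel.condition φ) :=
    { τ₁ := 𝟙 _
      τ₂ := 𝟙 _
      τ₃ := Abelian.image.ι φ
      comm₁₂ := by simp [kerSeq]
      comm₂₃ := by simp [kerSeq] }
  have e1 : Epi ψ.τ₁ := inferInstanceAs (Epi (𝟙 _))
  have e2 : IsIso ψ.τ₂ := inferInstanceAs (IsIso (𝟙 _))
  have e3 : Mono ψ.τ₃ := inferInstanceAs (Mono (Abelian.image.ι φ))
  exact (ShortComplex.exact_iff_of_epi_of_isIso_of_mono ψ).2
    (ShortComplex.exact_of_f_is_kernel _ (kernelIsKernel φ))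

/-- `0 → im φ → M' → coker φ → 0` -/
noncomputable def cokSeq : ShortComplex X.Modules :=
  ShortComplex.mk (Abelian.image.ι φ) (cokernel.π φ) (kernel.condition _)

theorem cokSeq_shortExact : (cokSeq φ).ShortExact where
  exact := ShortComplex.exact_of_f_is_kernel _ (kernelIsKernel (cokernel.π φ))
  mono_f := inferInstanceAs (Mono (Abelian.image.ι φ))
  epi_g := inferInstanceAs (Epi (cokernel.π φ))

end Pair

variable {M M' : X.Modules} (φ : M ⟶ M') (hM : Coh.IsCoh M) (hM' : Coh.IsCoh M')
    {P : X.Modules} (hP : PicF.IsInvertible P)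

include hM hM' hP in
theorem compare {c c' : ℕ}
    (hc : ∀ i, h k (CohB1.tensorMod (kernel φ) P) i ≤ c)
    (hc' : ∀ i, h k (CohB1.tensorMod (cokernel φ) P) i ≤ c') (i : ℕ) :
    h k (CohB1.tensorMod M P) i ≤ h k (CohB1.tensorMod M' P) i + (c + c') ∧
    h k (CohB1.tensorMod M' P) i ≤ h k (CohB1.tensorMod M P) i + (c + c') := by
  have hln : IsLocallyNoetherian X :=
    LocallyOfFiniteType.isLocallyNoetherian (X ↘ Spec (CommRingCat.of k))
  have hK : Coh.IsCoh (kernel φ) := isCoh_kernel φ hM hM'.1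
  have hQ : Coh.IsCoh (cokernel φ) := isCoh_cokernel φ hM.1 hM'
  have hI : Coh.IsCoh (Abelian.image φ) := isCoh_kernel (cokernel.π φ) hM' hQ.1
  let I := CohB1.tensorMod (Abelian.image φ) P
  have fK := fun n => fin (k := k) _ (isCoh_tensorMod hK hP) n
  have fQ := fun n => fin (k := k) _ (isCoh_tensorMod hQ hP) n
  have fI := fun n => fin (k := k) _ (isCoh_tensorMod hI hP) n
  have fM := fun n => fin (k := k) _ (isCoh_tensorMod hM hP) n
  have fM' := fun n => fin (k := k) _ (isCoh_tensorMod hM' hP) n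
  have s1 := shortExact_tw hP (kerSeq_shortExact φ)
  have s2 := shortExact_tw hP (cokSeq_shortExact φ)
  have a1 : h k (CohB1.tensorMod M P) i ≤ h k (CohB1.tensorMod (kernel φ) P) i + h k I i :=
    h₂_le ((kerSeq φ).map (tw P)) s1 i (fK i) (fI i)
  have a2 : h k I i ≤ h k (CohB1.tensorMod M P) i + h k (CohB1.tensorMod (kernel φ) P) (i + 1) :=
    h₃_le ((kerSeq φ).map (tw P)) s1 i (fM i) (fK (i + 1))
  have a3 : h k (CohB1.tensorMod M' P) i ≤ h k I i + h k (CohB1.tensorMod (cokernel φ) P) i :=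
    h₂_le ((cokSeq φ).map (tw P)) s2 i (fI i) (fQ i)
  have a4 : h k I i ≤ h k (CohB1.tensorMod M' P) i + c' := by
    cases i with
    | zero =>
      have := h₁_zero_le ((cokSeq φ).map (tw P)) s2 (fM' 0)
      exact this.trans (Nat.le_add_right _ _)
    | succ n =>
      have := h₁_succ_le ((cokSeq φ).map (tw P)) s2 n (fQ n) (fM' (n + 1))
      refine this.trans ?_
      rw [add_comm]
      exact add_le_add le_rfl (hc' n)
  have b1 := hc i
  have b2 := hc (i + 1)
  have b3 := hc' i
  constructor <;> omega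

end K57.RankStep
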