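import Groth.Agent.Coherent.K57.HypSeq
import Groth.Agent.S15287

/-!
# Removing the generic points of the support lowers the dimension

Supports of the kernel and cokernel of the multiplication by a section.
-/

set_option autoImplicit false
universe u

open CategoryTheory CategoryTheory.Limits AlgebraicGeometry TopologicalSpace

namespace K57.SuppDim

open Groth.Agent Topology Order

section Top

/-- Chains in a closed subset containing no irreducible component can be extended. -/
theorem exists_ltSeries_succ {T : Type*} [TopologicalSpace T] {B : Set T}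
    (hB : IsClosed B) (hne : ∀ C ∈ irreducibleComponents T, ¬ C ⊆ B) {n : ℕ}
    (h : (n : WithBot ℕ∞) ≤ topologicalKrullDim B) :
    ((n + 1 : ℕ) : WithBot ℕ∞) ≤ topologicalKrullDim T := by
  unfold topologicalKrullDim at h ⊢
  rw [le_krullDim_iff] at h ⊢
  obtain ⟨l, hl⟩ := h
  have hind : IsInducing (Subtype.val : B → T) := IsInducing.subtypeVal
  let φ := IrreducibleCloseds.map (Subtype.val : B → T) hind.continuous
  have hφ : StrictMono φ := IrreducibleCloseds.map_strictMono_of_isInducing hind
  let l' := l.map φ hφ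
  obtain ⟨C, hC, hlC⟩ := exists_mem_irreducibleComponents_subset_of_isIrreducible
    (l'.last : Set T) l'.last.isIrreducible
  let top : IrreducibleCloseds T := ⟨C, hC.1, isClosed_of_mem_irreducibleComponents C hC⟩
  have hlB : (l'.last : Set T) ⊆ B := by
    have h2 : l'.last = φ l.last := rfl
    rw [h2]
    change closure (Subtype.val '' (l.last : Set B)) ⊆ B
    exact closure_minimal (by rintro _ ⟨y, -, rfl⟩; exact y.2) hB
  have hlt : l'.last < top := by
    refine lt_of_le_of_ne hlC fun heq => hne C hC ?_
    have h1 : (l'.last : Set T) = C := by rw [heq]; rfl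
    rw [← h1]
    exact hlB
  exact ⟨l'.snoc top hlt, by simp [l', hl]⟩

/-- If the open `W` contains a point of every irreducible component of `Z`, then
`dim (Z \ W) < dim Z` in the form used for inductions. -/
theorem krullDim_diff_lt {T : Type*} [TopologicalSpace T] {Z W : Set T} (hW : IsOpen W)
    (h : ∀ C ∈ irreducibleComponents Z, ∃ z ∈ C, (z : T) ∈ W) {e : ℕ}
    (hd : topologicalKrullDim Z < ((e + 1 : ℕ) : WithBot ℕ∞)) :
    topologicalKrullDim (Z \ W : Set T) < (e : WithBot ℕ∞) := by
  by_contra hcon
  rw [not_lt] at hcon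
  let B : Set Z := {z | (z : T) ∉ W}
  have hB : IsClosed B := (hW.preimage continuous_subtype_val).isClosed_compl
  let g : (Z \ W : Set T) → B := fun b => ⟨⟨b.1, b.2.1⟩, b.2.2⟩
  have hg : IsInducing g := by
    refine IsInducing.of_comp (g := fun b : B => (b.1.1 : T)) ?_ ?_ ?_
    · exact Continuous.subtype_mk (Continuous.subtype_mk continuous_subtype_val _) _
    · exact continuous_subtype_val.comp continuous_subtype_val
    · exact IsInducing.subtypeVal
  have h1 : (e : WithBot ℕ∞) ≤ topologicalKrullDim B := hcon.trans hg.topologicalKrullDim_le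
  refine absurd (lt_of_le_of_lt (exists_ltSeries_succ hB ?_ h1) hd) (lt_irrefl _)
  intro C hC hCB
  obtain ⟨z, hz, hzW⟩ := h C hC
  exact hCB hz hzW

/-- A finite set meeting every irreducible component of a subset of a Noetherian space. -/
theorem exists_finite_meeting {T : Type*} [TopologicalSpace T] [NoetherianSpace T] (Z : Set T) :
    ∃ (m : ℕ) (y : Fin m → T), ∀ C ∈ irreducibleComponents Z, ∃ z ∈ C, ∃ i, (z : T) = y i := by
  have hfin : (irreducibleComponents Z).Finite := NoetherianSpace.finite_irreducibleComponents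
  have := hfin.to_subtype
  let e := Finite.equivFin (irreducibleComponents Z)
  have key : ∀ C : irreducibleComponents Z, ∃ z : Z, z ∈ C.1 := fun C => C.2.1.1
  choose z hz using key
  exact ⟨_, fun i => (z (e.symm i) : T), fun C hC => ⟨z ⟨C, hC⟩, hz ⟨C, hC⟩, e ⟨C, hC⟩,
    congrArg (fun c => (z c : T)) (e.symm_apply_apply ⟨C, hC⟩).symm⟩⟩

end Top

section Mod

open Groth.Agent.CohqB.SerTw Groth.Agent.Fdesc.LocGen K57.HypSeq

variable {X : Scheme.{u}}

/-- The complement of the support of a finite type module, as an open. -/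
noncomputable def suppCompl (M : X.Modules) (hM : CohB1.IsFT M) : X.Opens :=
  ⟨(CohB1.support M)ᶜ, (Groth.Agent.S0020.result X M hM).isOpen_compl⟩

theorem vanishOn_suppCompl (M : X.Modules) (hM : CohB1.IsFT M) : VanishOn M (suppCompl M hM) := by
  intro V hV s
  refine VarietyB.ExactLoc.eq_zero_of_germ s fun y hy => ?_
  have h : y ∉ CohB1.support M := hV hy
  have h' : Subsingleton (M.presheaf.stalk y) := not_not.mp h
  exact Subsingleton.elim _ _

theorem support_subset_of_vanishOn {M : X.Modules} {W : X.Opens} (h : VanishOn M W) :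
    CohB1.support M ⊆ (W : Set X)ᶜ := fun x hx hxW => notMem_support_of_vanishOn h hxW hx

variable {G N : X.Modules} (hG : Coh.IsCoh G) (hN : PicF.IsInvertible N)
    (s : Coh.structureModule X ⟶ N)

include hG in
theorem support_kernel_subset :
    CohB1.support (kernel (mulSec (sec s ⊤) G)) ⊆ CohB1.support G \ CohB1.genLocus N s := by
  have hgen : IsGen (res N (le_top : CohB1.genLocus N s ≤ ⊤) (sec s ⊤)) := by
    rw [res_sec]
    exact isGen_sec_genLocus s
  have h1 := vanishOn_kernel_mulSec (sec s ⊤) G hgen
  have h2 : VanishOn (kernel (mulSec (sec s ⊤) G)) (suppCompl G hG.2) :=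
    (vanishOn_suppCompl G hG.2).of_mono (kernel.ι _)
  have h3 := support_subset_of_vanishOn (h2.sup h1)
  intro x hx
  have h4 := h3 hx
  constructor
  · by_contra hcon
    exact h4 (Or.inl hcon)
  · exact fun hc => h4 (Or.inr hc)

include hG hN in
theorem support_cokernel_subset :
    CohB1.support (cokernel (mulSec (sec s ⊤) G)) ⊆ CohB1.support G \ CohB1.genLocus N s := by
  have hgen : IsGen (res N (le_top : CohB1.genLocus N s ≤ ⊤) (sec s ⊤)) := by
    rw [res_sec]
    exact isGen_sec_genLocus s
  have h1 := vanishOn_cokernel_mulSec (sec s ⊤) G hgen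
  have h2 : VanishOn (cokernel (mulSec (sec s ⊤) G)) (suppCompl G hG.2) :=
    ((vanishOn_suppCompl G hG.2).tensorMod hN).of_epi (cokernel.π _)
  have h3 := support_subset_of_vanishOn (h2.sup h1)
  intro x hx
  have h4 := h3 hx
  constructor
  · by_contra hcon
    exact h4 (Or.inl hcon)
  · exact fun hc => h4 (Or.inr hc)

end Mod

section Field

open Groth.Agent.CohqB.SerTw Groth.Agent.Fdesc.LocGen K57.HypSeq

variable {k : Type u} [Field k] {Y : Scheme.{u}} (f : Y ⟶ Spec (CommRingCat.of k)) [IsProper f]

include f in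
theorem isNoetherian_of_isProper : IsNoetherian Y := by
  have hln : IsLocallyNoetherian Y := LocallyOfFiniteType.isLocallyNoetherian f
  have hc : CompactSpace Y := QuasiCompact.compactSpace_of_compactSpace f
  exact {}

include f in
/-- For `N ≫ 0` a section of `L ⊗ A^N` such that multiplication on `G` has kernel and cokernel with
support of smaller dimension. -/
theorem exists_section {A : Y.Modules} (hA : CohB1.IsAmple A) {L : Y.Modules}
    (hL : PicF.IsInvertible L) {G : Y.Modules} (hG : Coh.IsCoh G) {e : ℕ}
    (hd : topologicalKrullDim (CohB1.support G) < ((e + 1 : ℕ) : WithBot ℕ∞)) :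
    ∃ N₀ : ℕ, ∀ N : ℕ, N₀ ≤ N →
      ∃ s : Coh.structureModule Y ⟶ CohB1.tensorMod L (CohB1.tensorPow A N),
        topologicalKrullDim (CohB1.support (kernel (mulSec (sec s ⊤) G))) < (e : WithBot ℕ∞) ∧
        topologicalKrullDim (CohB1.support (cokernel (mulSec (sec s ⊤) G))) < (e : WithBot ℕ∞) := by
  have := isNoetherian_of_isProper f
  obtain ⟨m, y, hy⟩ := exists_finite_meeting (CohB1.support G)
  obtain ⟨N₀, hN₀⟩ := Groth.Agent.S15287.result k Y f A hA L hL (Fin m) y
  refine ⟨N₀, fun N hN => ?_⟩
  obtain ⟨s, hs⟩ := hN₀ N hN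
  have hinv : PicF.IsInvertible (CohB1.tensorMod L (CohB1.tensorPow A N)) :=
    isInvertible_tensorMod hL (isInvertible_tensorPow hA.1 N)
  have hlt : topologicalKrullDim (CohB1.support G \ CohB1.genLocus _ s : Set Y) <
      (e : WithBot ℕ∞) := by
    refine krullDim_diff_lt (CohB1.genLocus _ s).isOpen (fun C hC => ?_) hd
    obtain ⟨z, hz, i, hi⟩ := hy C hC
    exact ⟨z, hz, hi ▸ hs i⟩
  exact ⟨s, lt_of_le_of_lt (Fga.DimLt.topologicalKrullDim_mono (support_kernel_subset hG s)) hlt,
    lt_of_le_of_lt (Fga.DimLt.topologicalKrullDim_mono (support_cokernel_subset hG hinv s)) hlt⟩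

end Field

end K57.SuppDim
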